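import Cfsg.Agent.Lib.Helper10.BG95a
import Cfsg.Agent.Lib.Helper22.Generation2

/-!
# BG Lemma 9.5, Step 4: two "good" maximal subgroups coincide
-/

set_option autoImplicit false

namespace Cfsg.Agent.Lib.Helper10.BG95

open Subgroup Cfsg
open Cfsg.Agent.Lib.Helper22 Cfsg.Agent.Lib.Helper22.BG Cfsg.Agent.Lib.Helper23
open scoped commutatorElement

variable {G : Type*} [Group G] [Finite G]

/-- If `D = K₁ (D ∩ H)` with `K₁ ⊴ D` an `r'`-group, then every `A`-invariant `r`-subgroup of `D`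
lies in `H` (provided `C_D(A) ≤ H`). -/
theorem le_of_cover {p r : ℕ} [hp : Fact p.Prime] [hr : Fact r.Prime] {A D K₁ H Y : Subgroup G}
    (hA : IsPGroup p A) (hD : ¬ p ∣ Nat.card D) (hAD : A ≤ normalizer (D : Set G)) (hAH : A ≤ H)
    (hK : D ≤ normalizer (K₁ : Set G)) (hcov : D ≤ K₁ ⊔ (D ⊓ H)) (hrK : ¬ r ∣ Nat.card K₁)
    (hC : D ⊓ centralizer (A : Set G) ≤ H)
    (hY : IsPGroup r Y) (hYD : Y ≤ D) (hAY : A ≤ normalizer (Y : Set G)) : Y ≤ H := by
  have hADH : A ≤ normalizer ((D ⊓ H : Subgroup G) : Set G) :=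
    le_normalizer_inf hAD (hAH.trans le_normalizer)
  obtain ⟨T', hT', hAT'⟩ := exists_invariant_isSylowIn A (D ⊓ H) hA
    (not_dvd_card_of_le inf_le_left hD) hADH r
  have h1 : (D ⊓ H).relIndex D ∣ Nat.card K₁ := by
    have h2 : Nat.card D ∣ Nat.card K₁ * Nat.card (D ⊓ H : Subgroup G) :=
      (card_dvd_of_le hcov).trans (card_sup_dvd (inf_le_left.trans hK))
    have h3 := relIndex_mul_natCard (inf_le_left : D ⊓ H ≤ D)
    rw [← h3] at h2
    exact Nat.dvd_of_mul_dvd_mul_right Nat.card_pos h2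
  have hT'D : IsSylowIn r T' D := by
    apply isSylowIn_of_not_dvd_relIndex hT'.isPGroup (hT'.le.trans inf_le_left)
    rw [← relIndex_mul_relIndex T' (D ⊓ H) D hT'.le inf_le_left]
    intro hd
    rcases (hr.out.dvd_mul).mp hd with hd | hd
    · exact hT'.not_dvd_relIndex hd
    · exact hrK (hd.trans h1)
  obtain ⟨T, hT, hAT, hYT⟩ := exists_invariant_isSylowIn_ge A D hA hD hAD r Y hY hYD hAY
  obtain ⟨c, hc, hcT⟩ := hT'D.exists_conj_centralizer hA hD hAD hT hAT' hAT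
  have hcH : c ∈ H := hC hc
  refine hYT.trans ?_
  rw [← hcT]
  rintro _ ⟨y, hy, rfl⟩
  exact mul_mem (mul_mem hcH ((hT'.le.trans inf_le_right) hy)) (inv_mem hcH)

/-- The properties of a maximal subgroup `H` (with a prime `s` and an `s`-group `S`) which are needed
for the uniqueness argument. -/
structure Good (p : ℕ) (A E H S : Subgroup G) (s : ℕ) : Prop where
  coatom : IsCoatom H
  prime : s.Prime
  ne : s ≠ p
  AH : A ≤ H
  pg : IsPGroup s S
  inv : A ≤ normalizer (S : Set G)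
  uniq : ∀ L : Subgroup G, IsCoatom L → S ≤ L → L = H
  cA : centralizer (A : Set G) ≤ H
  all : ∀ W : Subgroup G, IsPGroup s W → A ≤ normalizer (W : Set G) → W ≤ H
  norm : ∀ x ∈ E, x ≠ 1 → ¬ centralizer {x} ≤ H → S ⊓ centralizer {x} ≠ ⊥ →
    ∀ W : Subgroup G, W ≠ ⊥ → IsPGroup s W → A ≤ normalizer (W : Set G) → W ≤ centralizer {x} →
      normalizer (W : Set G) ≤ H

omit [Finite G] in
/-- two hyperplanes of a group of order `p ^ 3` meet nontrivially -/
theorem exists_ne_one_mem_inf {p : ℕ} [hp : Fact p.Prime] {E B B' : Subgroup G}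
    (hE : Nat.card E = p ^ 3) (hB : B ≤ E) (hBi : B.relIndex E = p) (hB'i : B'.relIndex E = p) :
    ∃ x ∈ B ⊓ B', x ≠ 1 := by
  by_contra hcon
  push Not at hcon
  have hbot : B ⊓ B' = ⊥ := (eq_bot_iff_forall _).mpr hcon
  have h1 : Nat.card B = p ^ 2 := by
    have := relIndex_mul_natCard hB
    rw [hBi, hE] at this
    have h2 : p * Nat.card B = p * p ^ 2 := by rw [this]; ring
    exact Nat.eq_of_mul_eq_mul_left hp.out.pos h2
  have h2 : B'.relIndex B ≤ p := by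
    rw [← hB'i]
    exact relIndex_le_of_le_right hB (by rw [hB'i]; exact hp.out.ne_zero)
  have h3 : B'.relIndex B = Nat.card B := by
    rw [← inf_relIndex_right, inf_comm, hbot, relIndex_bot_left]
  rw [h3, h1] at h2
  nlinarith [hp.out.two_le]

variable {p : ℕ} [hp : Fact p.Prime] {P A : Subgroup G}

/-- **Step 4** of BG 9.5. -/
theorem Ctx.key_of_good (C : Ctx p P A) {E : Subgroup G} (hEA : E ≤ A) (hEp : ∀ x ∈ E, x ^ p = 1)
    (hE3 : Nat.card E = p ^ 3) {H H' S S' : Subgroup G} {s t : ℕ}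
    (h : Good p A E H S s) (h' : Good p A E H' S' t) : H = H' := by
  have hG := C.hG
  by_cases hst : s = t
  · subst hst
    exact h'.uniq H h.coatom (h.all S' h'.pg h'.inv)
  by_contra hne
  have : Fact s.Prime := ⟨h.prime⟩
  have : Fact t.Prime := ⟨h'.prime⟩
  have hS : ¬ S ≤ H' := fun hle => hne (h.uniq H' h'.coatom hle).symm
  have hS' : ¬ S' ≤ H := fun hle => hne (h'.uniq H h.coatom hle)
  have hEc : ∀ x ∈ E, ∀ y ∈ E, x * y = y * x := fun x hx y hy =>
    (mem_centralizer_iff.mp (C.comm (hEA hx)) y (hEA hy)).symm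
  have hpE : p ≤ Nat.card E := by
    rw [hE3]; nlinarith [hp.out.two_le, pow_pos hp.out.pos 2, pow_succ p 2]
  have hndvd : ∀ {r : ℕ} [Fact r.Prime], r ≠ p → ∀ {U : Subgroup G}, IsPGroup r U →
      ¬ p ∣ Nat.card U := by
    intro r hr hrp U hU hd
    obtain ⟨n, hn⟩ := IsPGroup.iff_card.mp hU
    rw [hn] at hd
    exact hrp ((Nat.prime_dvd_prime_iff_eq hp.out hr.out).mp (hp.out.dvd_of_dvd_pow hd)).symm
  obtain ⟨B, hBE, hBi, hB⟩ : ∃ B ≤ E, B.relIndex E = p ∧ ¬ S ⊓ centralizer (B : Set G) ≤ H' := by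
    by_contra hcon
    push Not at hcon
    exact hS ((le_iSup_centralizer_hyperplane E S hEc hEp hpE (hndvd h.ne h.pg)
      (hEA.trans h.inv)).trans (iSup_le fun B => hcon B.1 B.2.1 B.2.2))
  obtain ⟨B', hB'E, hB'i, hB'⟩ : ∃ B ≤ E, B.relIndex E = p ∧
      ¬ S' ⊓ centralizer (B : Set G) ≤ H := by
    by_contra hcon
    push Not at hcon
    exact hS' ((le_iSup_centralizer_hyperplane E S' hEc hEp hpE (hndvd h'.ne h'.pg)
      (hEA.trans h'.inv)).trans (iSup_le fun B => hcon B.1 B.2.1 B.2.2))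
  obtain ⟨x, hx, hx1⟩ := exists_ne_one_mem_inf hE3 hBE hBi hB'i
  have hxE : x ∈ E := hBE hx.1
  set X := centralizer ({x} : Set G) with hX
  have hXne : X ≠ ⊤ := centralizer_ne_top hG hx1
  have hAX : A ≤ X := by
    intro a ha
    rw [hX, mem_centralizer_singleton_iff]
    exact (mem_centralizer_iff.mp (C.comm ha) x (hEA hxE)).symm
  have hY : ¬ S ⊓ X ≤ H' := fun hle => hB (le_trans (inf_le_inf_left _
    (centralizer_le (Set.singleton_subset_iff.mpr hx.1))) hle)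
  have hY' : ¬ S' ⊓ X ≤ H := fun hle => hB' (le_trans (inf_le_inf_left _
    (centralizer_le (Set.singleton_subset_iff.mpr hx.2))) hle)
  have hXH : ¬ X ≤ H := fun hle => hY' (inf_le_right.trans hle)
  have hXH' : ¬ X ≤ H' := fun hle => hY (inf_le_right.trans hle)
  have hYne : S ⊓ X ≠ ⊥ := fun hb => hY (hb ▸ bot_le)
  have hY'ne : S' ⊓ X ≠ ⊥ := fun hb => hY' (hb ▸ bot_le)
  set D := piCoreOf (primesNotDvd (Nat.card A)) X with hD
  have hDX : D ≤ X := Helper22.piCoreOf_le _ _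
  have hDne : D ≠ ⊤ := fun hb => hXne (top_le_iff.mp (hb ▸ hDX))
  have hAD : A ≤ normalizer (D : Set G) := hAX.trans (Helper22.le_normalizer_piCoreOf _ _)
  have hpD : ¬ p ∣ Nat.card D := fun hd => (Helper22.piCoreOf_primes _ _ p hp.out hd).2 C.p_dvd
  have hle : ∀ {r : ℕ} [Fact r.Prime], r ≠ p → ∀ {U : Subgroup G}, IsPGroup r U → U ≤ X →
      A ≤ normalizer (U : Set G) → U ≤ D := by
    intro r hr hrp U hU hUX hAU
    apply TransHyp.le_piCoreOf C.trans hXne hAX hUX _ hAU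
    intro q hq hd
    have := primes_of_isPGroup hr.out hU q hq hd
    rw [Set.mem_singleton_iff] at this
    subst this
    exact ⟨hq, C.not_dvd hq hrp⟩
  have hAY : A ≤ normalizer ((S ⊓ X : Subgroup G) : Set G) :=
    le_normalizer_inf h.inv (hAX.trans le_normalizer)
  have hAY' : A ≤ normalizer ((S' ⊓ X : Subgroup G) : Set G) :=
    le_normalizer_inf h'.inv (hAX.trans le_normalizer)
  have hYD : S ⊓ X ≤ D := hle h.ne (h.pg.to_le inf_le_left) inf_le_right hAY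
  have hY'D : S' ⊓ X ≤ D := hle h'.ne (h'.pg.to_le inf_le_left) inf_le_right hAY'
  obtain ⟨T', hT', hAT', hY'T'⟩ := exists_invariant_isSylowIn_ge A D C.pA hpD hAD t (S' ⊓ X)
    (h'.pg.to_le inf_le_left) hY'D hAY'
  have hT'ne : T' ≠ ⊥ := fun hb => hY'ne (le_bot_iff.mp (hb ▸ hY'T'))
  have hT'syl : Syl t T' D := ⟨hT'.le, hT'.isPGroup, hT'.not_dvd_relIndex⟩
  set Z := centerThompsonOf t T' with hZ
  have hZne : Z ≠ ⊥ := zj_ne_bot hT'.isPGroup hT'ne
  have hZT : Z ≤ T' := zj_le T'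
  have hNZ : normalizer (Z : Set G) ≤ H' :=
    h'.norm x hxE hx1 hXH' hY'ne Z hZne (hT'.isPGroup.to_le hZT)
      (hAT'.trans (normalizer_le_normalizer_zj hT'.isPGroup)) (hZT.trans (hT'.le.trans hDX))
  set K₁ := coreOf t D with hK₁
  have hK₁D : K₁ ≤ D := coreOf_le t D
  have hDK₁ : D ≤ normalizer (K₁ : Set G) := le_normalizer_coreOf t D
  have hAK₁ : A ≤ normalizer (K₁ : Set G) := hAD.trans (normalizer_le_normalizer_coreOf t D)
  have hpK₁ : ¬ p ∣ Nat.card K₁ := not_dvd_card_of_le hK₁D hpD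
  have htK₁ : ¬ t ∣ Nat.card K₁ := by
    rw [← Nat.Prime.coprime_iff_not_dvd h'.prime]
    exact (card_coreOf_coprime t D).symm
  obtain ⟨S₄, hS₄, hAS₄⟩ := exists_invariant_isSylowIn A K₁ C.pA hpK₁ hAK₁ s
  by_cases hS₄b : S₄ = ⊥
  · -- `s ∤ |K₁|`
    have hsK₁ : ¬ s ∣ Nat.card K₁ := by
      intro hd
      have h1 := hS₄.not_dvd_relIndex
      rw [hS₄b, relIndex_bot_left] at h1
      exact h1 hd
    apply hY
    apply le_of_cover (r := s) (K₁ := K₁) C.pA hpD hAD h'.AH hDK₁ _ hsK₁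
      (inf_le_right.trans h'.cA) (h.pg.to_le inf_le_left) hYD hAY
    intro d hd
    obtain ⟨k, hk, n, hn, rfl⟩ := zj_factor hG hDne hT'syl hd
    exact mul_mem (mem_sup_left hk) (mem_sup_right ⟨hn.1, hNZ hn.2⟩)
  · have hNS₄ : normalizer (S₄ : Set G) ≤ H :=
      h.norm x hxE hx1 hXH hYne S₄ hS₄b hS₄.isPGroup hAS₄ (hS₄.le.trans (hK₁D.trans hDX))
    apply hY'
    apply le_of_cover (r := t) (K₁ := K₁) C.pA hpD hAD h.AH hDK₁ _ htK₁
      (inf_le_right.trans h.cA) (h'.pg.to_le inf_le_left) hY'D hAY'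
    intro d hd
    have hS₄syl : Syl s S₄ K₁ := ⟨hS₄.le, hS₄.isPGroup, hS₄.not_dvd_relIndex⟩
    obtain ⟨k, hk, hkd⟩ := hS₄syl.frattini (hDK₁ hd)
    have : d = k⁻¹ * (k * d) := by group
    rw [this]
    exact mul_mem (mem_sup_left (inv_mem hk))
      (mem_sup_right ⟨mul_mem (hK₁D hk) hd, hNS₄ hkd⟩)

end Cfsg.Agent.Lib.Helper10.BG95
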