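import Cfsg.Agent.Lib.Helper10.BG95c
import Cfsg.Agent.Lib.Helper24.Rank2Main
import Cfsg.Agent.Lib.Helper49.BenderLemma2
import Cfsg.Agent.Lib.Helper23.Uniq6
import Cfsg.Agent.S1401
import Cfsg.Agent.Lib.Helper23.Scn2

/-!
# BG Lemma 9.5, Step 3: a maximal subgroup `H` with `P ≤ H'` is "good"
-/

set_option autoImplicit false

namespace Cfsg.Agent.Lib.Helper10.BG95

open Subgroup Cfsg
open Cfsg.Agent.Lib.Helper22 Cfsg.Agent.Lib.Helper22.BG Cfsg.Agent.Lib.Helper23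
open Cfsg.Agent.Lib.Helper24 (adjoin omegaCentralMod)
open scoped commutatorElement

variable {G : Type*} [Group G]

/-- `Ω₁(Z(S))` -/
def omZ (s : ℕ) (S : Subgroup G) : Subgroup G where
  carrier := {z | z ∈ S ∧ z ∈ centralizer (S : Set G) ∧ z ^ s = 1}
  one_mem' := ⟨S.one_mem, Subgroup.one_mem _, one_pow s⟩
  mul_mem' := by
    rintro a b ⟨ha, hac, has⟩ ⟨hb, hbc, hbs⟩
    refine ⟨S.mul_mem ha hb, Subgroup.mul_mem _ hac hbc, ?_⟩
    have hc : Commute a b := (mem_centralizer_iff.mp hbc a ha)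
    rw [hc.mul_pow, has, hbs, one_mul]
  inv_mem' := by
    rintro a ⟨ha, hac, has⟩
    exact ⟨S.inv_mem ha, Subgroup.inv_mem _ hac, by rw [inv_pow, has, inv_one]⟩

theorem omZ_le (s : ℕ) (S : Subgroup G) : omZ s S ≤ S := fun _ h => h.1

theorem omZ_le_centralizer (s : ℕ) (S : Subgroup G) : omZ s S ≤ centralizer (S : Set G) :=
  fun _ h => h.2.1

theorem omZ_pow {s : ℕ} {S : Subgroup G} : ∀ z ∈ omZ s S, z ^ s = 1 := fun _ h => h.2.2

theorem omZ_comm {s : ℕ} {S : Subgroup G} : ∀ x ∈ omZ s S, ∀ y ∈ omZ s S, x * y = y * x :=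
  fun _ hx _ hy => (mem_centralizer_iff.mp hy.2.1 _ hx.1)

theorem omZ_elemAb (s : ℕ) (S : Subgroup G) : IsElementaryAbelian s (omZ s S) :=
  ⟨⟨⟨fun x y => Subtype.ext (omZ_comm (x : G) x.2 (y : G) y.2)⟩⟩, omZ_pow⟩

theorem normalizer_le_normalizer_omZ (s : ℕ) (S : Subgroup G) :
    normalizer (S : Set G) ≤ normalizer (omZ s S : Set G) := by
  rw [le_normalizer_iff]
  rintro g hg z ⟨hz, hzc, hzs⟩
  refine ⟨(mem_normalizer_iff.mp hg z).mp hz, ?_, by rw [conj_pow, hzs]; group⟩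
  rw [mem_centralizer_iff]
  intro x hx
  have h1 : g⁻¹ * x * g⁻¹⁻¹ ∈ S := (mem_normalizer_iff.mp (inv_mem hg) x).mp hx
  have h2 : Commute (g⁻¹ * x * g⁻¹⁻¹) z := mem_centralizer_iff.mp hzc _ h1
  have h3 : x * (g * z * g⁻¹) = g * ((g⁻¹ * x * g⁻¹⁻¹) * z) * g⁻¹ := by group
  rw [h3, h2.eq]; group

theorem omZ_ne_bot [Finite G] {s : ℕ} [hs : Fact s.Prime] {S : Subgroup G} (hS : IsPGroup s S)
    (hne : S ≠ ⊥) : omZ s S ≠ ⊥ := by
  have h1 := center_ne_bot hS hne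
  have h2 : IsPGroup s (S ⊓ centralizer (S : Set G) : Subgroup G) := hS.to_le inf_le_left
  have h3 : s ∣ Nat.card (S ⊓ centralizer (S : Set G) : Subgroup G) := by
    obtain ⟨n, hn⟩ := IsPGroup.iff_card.mp h2
    rw [hn]
    rcases Nat.eq_zero_or_pos n with h0 | h0
    · rw [h0, pow_zero] at hn
      exact absurd (card_eq_one.mp hn) h1
    · exact dvd_pow_self s h0.ne'
  obtain ⟨z, hz⟩ := exists_prime_orderOf_dvd_card' s h3
  intro hb
  have h4 : (z : G) ∈ omZ s S := by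
    refine ⟨z.2.1, z.2.2, ?_⟩
    have : z ^ s = 1 := by rw [← hz]; exact pow_orderOf_eq_one z
    exact congrArg Subtype.val this
  rw [hb, mem_bot] at h4
  have : z = 1 := Subtype.ext h4
  rw [this, orderOf_one] at hz
  exact hs.out.one_lt.ne hz

/-- an `s`-subgroup of `F(H)` lies in `O_s(H)` -/
theorem le_pCoreOf_of_le_fittingOf [Finite G] {s : ℕ} [Fact s.Prime] {H X : Subgroup G}
    (hX : IsPGroup s X) (hXF : X ≤ fittingOf H) : X ≤ pCoreOf s H := by
  have hXH : X ≤ H := hXF.trans (map_subtype_le _)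
  have h1 : X.subgroupOf H ≤ fittingSubgroup ↥H := by
    intro x hx
    obtain ⟨y, hy, e⟩ := hXF (mem_subgroupOf.mp hx)
    have : y = x := Subtype.ext e
    exact this ▸ hy
  have hnil : Group.IsNilpotent ↥(fittingSubgroup ↥H) :=
    Cfsg.Agent.Lib.Helper1.fittingSubgroup_isNilpotent
  have hfn : (fittingSubgroup ↥H).Normal := Cfsg.Agent.Lib.Helper1.fittingSubgroup_normal
  have h2 : X.subgroupOf H ≤ pCore s ↥H :=
    Cfsg.Agent.Lib.Helper30.subnormal_pGroup_le_pCore s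
      (Cfsg.Agent.Lib.Helper49.Bender.isSubnormal_of_le_nilpotent_normal hfn hnil h1)
      hX.comap_subtype
  intro x hx
  exact ⟨⟨x, hXH hx⟩, h2 (mem_subgroupOf.mpr hx), rfl⟩

/-- elements normalizing `S` and `Z` normalize `omegaCentralMod s Z S` -/
theorem le_normalizer_omegaCentralMod {s : ℕ} [Fact s.Prime] (hs2 : s ≠ 2) {Z S : Subgroup G}
    (hSZ : S ≤ normalizer (Z : Set G)) :
    normalizer (S : Set G) ⊓ normalizer (Z : Set G) ≤
      normalizer (omegaCentralMod s hs2 Z S hSZ : Set G) := by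
  rw [le_normalizer_iff]
  rintro g ⟨hgS, hgZ⟩ c ⟨hcM, hcE, hcc, hcp⟩
  refine ⟨(mem_normalizer_iff.mp hgS c).mp hcM, ?_, ?_, by rw [conj_pow, hcp]; group⟩
  · rw [mem_centralizer_iff]
    intro e he
    have h1 : g⁻¹ * e * g⁻¹⁻¹ ∈ Z := (mem_normalizer_iff.mp (inv_mem hgZ) e).mp he
    have h2 : Commute (g⁻¹ * e * g⁻¹⁻¹) c := (mem_centralizer_iff.mp hcE) _ h1
    have h3 : e * (g * c * g⁻¹) = g * ((g⁻¹ * e * g⁻¹⁻¹) * c) * g⁻¹ := by group
    rw [h3, h2.eq]; group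
  · intro m hm
    have h1 : g⁻¹ * m * g⁻¹⁻¹ ∈ S := (mem_normalizer_iff.mp (inv_mem hgS) m).mp hm
    have h2 := hcc _ h1
    have h3 : ⁅g * c * g⁻¹, m⁆ = g * ⁅c, g⁻¹ * m * g⁻¹⁻¹⁆ * g⁻¹ := by
      rw [conjugate_commutatorElement]; congr 1; group
    rw [h3]
    exact (mem_normalizer_iff.mp hgZ _).mp h2

/-- `C(⟨Z, y⟩)` has rank at least `3` if `y` is central modulo the small central subgroup `Z`. -/
theorem not_pRankLE_centralizer_adjoin [Finite G] {s : ℕ} [hs : Fact s.Prime]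
    {S Z X₃ : Subgroup G} {y : G}
    (hZS : Z ≤ centralizer (S : Set G)) (hZcard : Nat.card Z ≤ s) (hy : ∀ g ∈ S, ⁅y, g⁆ ∈ Z)
    (hys : y ^ s = 1) (hyZ : y ∈ centralizer (Z : Set G))
    (hX₃S : X₃ ≤ S) (hX₃e : IsElementaryAbelian s X₃) (hX₃c : s ^ 2 < Nat.card X₃) :
    ¬ PRankLE s 2 (centralizer ((adjoin Z y hyZ : Subgroup G) : Set G)) := by
  set X₂ := X₃ ⊓ centralizer ({y} : Set G) with hX₂
  have hyX₂ : y ∈ centralizer (X₂ : Set G) := by
    rw [mem_centralizer_iff]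
    intro x hx
    exact (mem_centralizer_singleton_iff.mp hx.2)
  have hX₂c : IsMulCommutative X₂ :=
    ⟨⟨fun a b => Subtype.ext (by
      have := congrArg Subtype.val (hX₃e.1.is_comm.comm ⟨a.1, a.2.1⟩ ⟨b.1, b.2.1⟩)
      exact this)⟩⟩
  have hA₁e : IsElementaryAbelian s (adjoin X₂ y hyX₂) :=
    ⟨Cfsg.Agent.Lib.Helper24.adjoin_comm hyX₂ hX₂c,
      Cfsg.Agent.Lib.Helper24.adjoin_pow hyX₂ s (fun e he => hX₃e.2 e he.1) hys⟩
  have hA₁C : adjoin X₂ y hyX₂ ≤ centralizer ((adjoin Z y hyZ : Subgroup G) : Set G) := by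
    apply Cfsg.Agent.Lib.Helper24.adjoin_le
    · intro x hx
      apply Cfsg.Agent.Lib.Helper24.mem_centralizer_adjoin
      · rw [mem_centralizer_iff]
        intro z hz
        exact (mem_centralizer_iff.mp (hZS hz) x (hX₃S hx.1)).symm
      · exact (mem_centralizer_singleton_iff.mp hx.2).symm
    · exact Cfsg.Agent.Lib.Helper24.mem_centralizer_adjoin hyZ hyZ (Commute.refl y)
  refine Cfsg.Agent.S1401.not_pRankLE_of_le hA₁C hA₁e ?_
  by_cases hyX : y ∈ X₃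
  · have h1 : X₃ ≤ X₂ := by
      intro x hx
      refine ⟨hx, mem_centralizer_singleton_iff.mpr ?_⟩
      exact congrArg Subtype.val (hX₃e.1.is_comm.comm ⟨x, hx⟩ ⟨y, hyX⟩)
    exact lt_of_lt_of_le hX₃c
      (card_le_of_le (h1.trans (Cfsg.Agent.Lib.Helper24.le_adjoin X₂ y hyX₂)))
  · have h1 : X₂ < adjoin X₂ y hyX₂ := by
      refine lt_of_le_of_ne (Cfsg.Agent.Lib.Helper24.le_adjoin X₂ y hyX₂) ?_
      intro h
      have := Cfsg.Agent.Lib.Helper24.self_mem_adjoin X₂ y hyX₂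
      rw [← h] at this
      exact hyX this.1
    have h2 : Nat.card X₂ < Nat.card (adjoin X₂ y hyX₂) := card_lt_card_of_lt h1
    have h3 : (S ⊓ centralizer ({y} : Set G)).relIndex S ≤ s :=
      (Nat.le_of_dvd Nat.card_pos
        (Cfsg.Agent.Lib.Helper24.relIndex_centralizer_dvd y S Z hy hZS)).trans hZcard
    have h4 : X₂.relIndex X₃ ≤ s := by
      have e1 : (S ⊓ centralizer ({y} : Set G)) ⊓ X₃ = X₂ := by
        rw [hX₂, inf_comm, ← inf_assoc, inf_of_le_left hX₃S]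
      rw [← e1, inf_relIndex_right]
      refine (relIndex_le_of_le_right hX₃S ?_).trans h3
      intro h0
      have := relIndex_mul_natCard (inf_le_left : S ⊓ centralizer ({y} : Set G) ≤ S)
      rw [h0, zero_mul] at this
      exact Nat.card_pos.ne this
    have h5 := relIndex_mul_natCard (inf_le_left : X₂ ≤ X₃)
    have hX₂p : IsPGroup s X₂ := Cfsg.Agent.Lib.Helper22.isPGroup_of_pow_eq_one
      (fun x hx => hX₃e.2 x hx.1)
    obtain ⟨n, hn⟩ := IsPGroup.iff_card.mp hX₂p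
    have h6 : s < Nat.card X₂ := by
      by_contra hle
      push Not at hle
      have : Nat.card X₃ ≤ s * s := by
        rw [← h5]; exact Nat.mul_le_mul h4 hle
      nlinarith
    rw [hn] at h6
    have h7 : 1 < n := by
      have : s ^ 1 < s ^ n := by rwa [pow_one]
      exact (Nat.pow_lt_pow_iff_right hs.out.one_lt).mp this
    have h8 : s ^ 2 ≤ Nat.card X₂ := by
      rw [hn]; exact Nat.pow_le_pow_right hs.out.pos h7
    omega

variable [Finite G] {p : ℕ} [hp : Fact p.Prime] {P A : Subgroup G}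

omit [Finite G] in
theorem card_hyperplane {E B : Subgroup G} (hE3 : Nat.card E = p ^ 3) (hBE : B ≤ E)
    (hBi : B.relIndex E = p) : Nat.card B = p ^ 2 := by
  have := relIndex_mul_natCard hBE
  rw [hBi, hE3] at this
  have h2 : p * Nat.card B = p * p ^ 2 := by rw [this]; ring
  exact Nat.eq_of_mul_eq_mul_left hp.out.pos h2

/-- no hyperplane of `E` centralizes a uniqueness subgroup -/
theorem Ctx.not_uniq_of_hyperplane (C : Ctx p P A) (hU : ¬ InUniqueMaximal A) {E : Subgroup G}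
    (hEA : E ≤ A) (hEp : ∀ x ∈ E, x ^ p = 1) (hE3 : Nat.card E = p ^ 3) {B T : Subgroup G}
    (hBE : B ≤ E) (hBi : B.relIndex E = p) (hBT : B ≤ centralizer (T : Set G)) :
    ¬ InUniqueMaximal T := by
  intro hTU
  have hBe : IsElementaryAbelian p B :=
    ⟨⟨⟨fun x y => Subtype.ext
      (mem_centralizer_iff.mp (C.comm (hEA (hBE y.2))) x (hEA (hBE x.2)))⟩⟩,
      fun x hx => hEp x (hBE hx)⟩
  have hBU : InUniqueMaximal B := Cfsg.Agent.S1399.result C.hG T B hTU hBT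
    (Cfsg.Agent.Lib.Helper23U.not_rankLE_one_of hp.out le_rfl hBe (card_hyperplane hE3 hBE hBi).ge)
  exact hU (uniq_mono hBU (hBE.trans hEA) C.trans.2.1)

/-- **Step 3c**: `Ω₁(Z(S))` is not cyclic. -/
theorem Ctx.omZ_not_isCyclic (C : Ctx p P A) (hU : ¬ InUniqueMaximal A) {E : Subgroup G}
    (hEA : E ≤ A) (hEp : ∀ x ∈ E, x ^ p = 1) (hE3 : Nat.card E = p ^ 3) {s : ℕ}
    [hs : Fact s.Prime] (hsp : s ≠ p)
    {S X₃ : Subgroup G} (hS : S ∈ maxInvSubgroups ⊤ P {s}) (hX₃S : X₃ ≤ S)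
    (hX₃e : IsElementaryAbelian s X₃) (hX₃c : s ^ 2 < Nat.card X₃) (hX₃U : InUniqueMaximal X₃) :
    ¬ IsCyclic (omZ s S) := by
  intro hcyc
  have hG := C.hG
  have hSq : IsPGroup s S := (mem_maxInvSubgroups_top_iff.mp hS).1.1
  have hPS : P ≤ normalizer (S : Set G) := (mem_maxInvSubgroups_top_iff.mp hS).1.2
  have hSne : S ≠ ⊥ := by
    intro h
    rw [h] at hX₃S
    rw [le_bot_iff.mp hX₃S, card_bot] at hX₃c
    nlinarith [hs.out.pos]
  have hs2 : s ≠ 2 := ne_two_of_isPGroup hG hSq hSne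
  set Z := omZ s S with hZ
  have hPZ : P ≤ centralizer (Z : Set G) :=
    (C.le_commutator_normalizer hs.out hsp hS).trans
      (Cfsg.Agent.Lib.Helper24.commutator_le_centralizer_of_cyclic Z _
        (normalizer_le_normalizer_omZ s S))
  have hZne : Z ≠ ⊥ := omZ_ne_bot hSq hSne
  have hZcard : Nat.card Z = s := by
    obtain ⟨g, hg⟩ := hcyc.exists_generator
    have h1 : Nat.card Z = orderOf g := (orderOf_eq_card_of_forall_mem_zpowers hg).symm
    have h2 : orderOf g ∣ s := orderOf_dvd_of_pow_eq_one (Subtype.ext (omZ_pow (g : G) g.2))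
    rcases (Nat.dvd_prime hs.out).mp h2 with h | h
    · exfalso
      rw [h] at h1
      exact hZne (card_eq_one.mp h1)
    · rw [h1, h]
  obtain ⟨x, hxX, hxZ⟩ : ∃ x ∈ X₃, x ∉ Z := by
    by_contra hcon
    push Not at hcon
    have : Nat.card X₃ ≤ Nat.card Z := card_le_of_le hcon
    rw [hZcard] at this
    nlinarith [hs.out.one_lt]
  have hSZ : S ≤ normalizer (Z : Set G) := le_normalizer.trans (normalizer_le_normalizer_omZ s S)
  have hSCZ : S ≤ centralizer (Z : Set G) := le_centralizer_iff.mp (omZ_le_centralizer s S)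
  obtain ⟨f, hfS, hfc, hfZ, hfs, hf⟩ := Cfsg.Agent.Lib.Helper24.exists_central_mod_of_order_p s hs2
    Z S hSq (omZ_le s S) hSZ x (hX₃S hxX) (hSCZ (hX₃S hxX)) hxZ (hX₃e.2 x hxX)
  set W := omegaCentralMod s hs2 Z S hSZ with hW
  have hWS : W ≤ S := fun c hc => hc.1
  have hWZ : ¬ W ≤ Z := fun h => hfZ (h ⟨hfS, hfc, hf, hfs⟩)
  have hEP : E ≤ P := hEA.trans C.scn.1
  have hEW : E ≤ normalizer (W : Set G) := by
    refine le_trans ?_ (le_normalizer_omegaCentralMod hs2 hSZ)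
    exact le_inf (hEP.trans hPS) ((hEP.trans hPZ).trans (centralizer_le_normalizer _))
  have hEc : ∀ x ∈ E, ∀ y ∈ E, x * y = y * x := fun x hx y hy =>
    (mem_centralizer_iff.mp (C.comm (hEA hx)) y (hEA hy)).symm
  have hpE : p ≤ Nat.card E := by
    rw [hE3]; nlinarith [hp.out.two_le, pow_pos hp.out.pos 2, pow_succ p 2]
  have hpW : ¬ p ∣ Nat.card W := by
    intro hd
    obtain ⟨n, hn⟩ := IsPGroup.iff_card.mp (hSq.to_le hWS)
    rw [hn] at hd
    exact hsp ((Nat.prime_dvd_prime_iff_eq hp.out hs.out).mp (hp.out.dvd_of_dvd_pow hd)).symm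
  obtain ⟨B, hBE, hBi, hB⟩ : ∃ B ≤ E, B.relIndex E = p ∧ ¬ W ⊓ centralizer (B : Set G) ≤ Z := by
    by_contra hcon
    push Not at hcon
    exact hWZ ((le_iSup_centralizer_hyperplane E W hEc hEp hpE hpW hEW).trans
      (iSup_le fun B => hcon B.1 B.2.1 B.2.2))
  obtain ⟨y, hy, hyZ⟩ := SetLike.not_le_iff_exists.mp hB
  obtain ⟨⟨hyS, hyc, hycomm, hys⟩, hyB⟩ := hy
  have hTe : IsElementaryAbelian s (adjoin Z y hyc) :=
    ⟨Cfsg.Agent.Lib.Helper24.adjoin_comm hyc (omZ_elemAb s S).1,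
      Cfsg.Agent.Lib.Helper24.adjoin_pow hyc s omZ_pow hys⟩
  have hTcard : s < Nat.card (adjoin Z y hyc) := by
    rw [← hZcard]
    apply card_lt_card_of_lt
    refine lt_of_le_of_ne (Cfsg.Agent.Lib.Helper24.le_adjoin Z y hyc) ?_
    intro h
    have := Cfsg.Agent.Lib.Helper24.self_mem_adjoin Z y hyc
    rw [← h] at this
    exact hyZ this
  have hTnc : ¬ IsCyclic (adjoin Z y hyc) :=
    Cfsg.Agent.Lib.Helper23U.not_isCyclic_of_elemAb hTe.2 hTcard
  have hT3 := not_pRankLE_centralizer_adjoin (omZ_le_centralizer s S) hZcard.le hycomm hys hyc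
    hX₃S hX₃e hX₃c
  have hTU : InUniqueMaximal (adjoin Z y hyc) :=
    Cfsg.Agent.S1400.result hG s X₃ _ (isPGroup_of_pow_eq_one hX₃e.2) hX₃e.1
      (Cfsg.Agent.S1401.not_pRankLE_of_le le_rfl hX₃e hX₃c) hX₃U
      (isPGroup_of_pow_eq_one hTe.2) hTnc hT3
  refine C.not_uniq_of_hyperplane hU hEA hEp hE3 hBE hBi ?_ hTU
  intro b hb
  apply Cfsg.Agent.Lib.Helper24.mem_centralizer_adjoin hyc (hPZ (hEP (hBE hb)))
  exact (mem_centralizer_iff.mp hyB b hb).symm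

/-- **Step 3**: every maximal subgroup `H` with `P ≤ H'` is good. -/
theorem Ctx.exists_good (C : Ctx p P A) (hU : ¬ InUniqueMaximal A) {E : Subgroup G}
    (hEA : E ≤ A) (hEp : ∀ x ∈ E, x ^ p = 1) (hE3 : Nat.card E = p ^ 3) {H : Subgroup G}
    (hH : IsCoatom H) (hPH : P ≤ ⁅H, H⁆) : ∃ (s : ℕ) (S : Subgroup G), Good p A E H S s := by
  have hG := C.hG
  have hPH' : P ≤ H := hPH.trans (commutator_le_self H)
  obtain ⟨s, hs, hsp, hF⟩ := Cfsg.Agent.Lib.Helper23U.exists_prime_of_le_commutator hG hH C.pA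
    (isMulCommutative_of_le_centralizer C.comm) C.rk hU (C.scn.1.trans hPH)
  have : Fact s.Prime := ⟨hs⟩
  obtain ⟨X₃, hX₃F, hX₃e, hX₃c⟩ := Cfsg.Agent.Lib.Helper23U.exists_elemAb_of_not_pRankLE hF
  have hX₃p : IsPGroup s X₃ := isPGroup_of_pow_eq_one hX₃e.2
  have hX₃3 : ¬ PRankLE s 2 X₃ := Cfsg.Agent.S1401.not_pRankLE_of_le le_rfl hX₃e hX₃c
  have hX₃U : InUniqueMaximal X₃ := Cfsg.Agent.S1401.result hG H hH s hF X₃ hX₃p hX₃e.1 hX₃3
  have hX₃O : X₃ ≤ pCoreOf s H := le_pCoreOf_of_le_fittingOf hX₃p hX₃F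
  have hX₃H : X₃ ≤ H := hX₃O.trans (Cfsg.Agent.Lib.Helper47.pCoreOf_le H)
  -- `H` is the unique maximal subgroup over `X₃`
  have hX₃u : ∀ L : Subgroup G, IsCoatom L → X₃ ≤ L → L = H := by
    obtain ⟨M, hM, hXM, hMu⟩ := uniq_iff.mp hX₃U
    intro L hL hXL
    rw [hMu L hL hXL, hMu H hH hX₃H]
  obtain ⟨S, hSm, hOS⟩ := exists_maxInvQ_ge (A := P) (q := s) (U := pCoreOf s H)
    ⟨Cfsg.Agent.Lib.Helper47.pCoreOf_isPGroup H,
      hPH'.trans (Cfsg.Agent.Lib.Helper47.le_normalizer_pCoreOf H)⟩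
  have hS : S ∈ maxInvSubgroups ⊤ P {s} := mem_maxInvSubgroups_top_iff.mpr hSm
  have hSq : IsPGroup s S := hSm.1.1
  have hPS : P ≤ normalizer (S : Set G) := hSm.1.2
  have hX₃S : X₃ ≤ S := hX₃O.trans hOS
  have hSA : S ∈ maxInvSubgroups ⊤ A {s} := (C.s1395 hs hsp C.scn.1 le_rfl).1 hS
  have hZnc : ¬ IsCyclic (omZ s S) := C.omZ_not_isCyclic hU hEA hEp hE3 hsp hS hX₃S hX₃e hX₃c hX₃U
  set Z := omZ s S with hZ
  -- noncyclic subgroups of `Z` lie only in `H`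
  have hYu : ∀ Y : Subgroup G, Y ≤ Z → ¬ IsCyclic Y → ∀ L : Subgroup G, IsCoatom L → Y ≤ L →
      L = H := by
    intro Y hYZ hYnc
    have hY3 : ¬ PRankLE s 2 (centralizer (Y : Set G)) := by
      refine Cfsg.Agent.S1401.not_pRankLE_of_le ?_ hX₃e hX₃c
      exact hX₃S.trans (le_centralizer_iff.mp (hYZ.trans (omZ_le_centralizer s S)))
    have hYU : InUniqueMaximal Y := Cfsg.Agent.S1400.result hG s X₃ Y hX₃p hX₃e.1 hX₃3 hX₃U
      (hSq.to_le (hYZ.trans (omZ_le s S))) hYnc hY3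
    have hSH : S ≤ H := le_of_uniq hX₃u hX₃S (isPGroup_ne_top hG hSq)
    obtain ⟨M, hM, hYM, hMu⟩ := uniq_iff.mp hYU
    intro L hL hYL
    rw [hMu L hL hYL, hMu H hH ((hYZ.trans (omZ_le s S)).trans hSH)]
  have hEc : ∀ x ∈ E, ∀ y ∈ E, x * y = y * x := fun x hx y hy =>
    (mem_centralizer_iff.mp (C.comm (hEA hx)) y (hEA hy)).symm
  have hEP : E ≤ P := hEA.trans C.scn.1
  -- `C(A) ≤ H`
  have hcA : centralizer (A : Set G) ≤ H := by
    obtain ⟨b, hbE, hb1, hbnc⟩ := Cfsg.Agent.Lib.Helper23U.exists_noncyclic_centralizer hsp hEc hEp hE3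
      omZ_comm omZ_pow
      ((hEP.trans hPS).trans (normalizer_le_normalizer_omZ s S)) hZnc
    have h1 : centralizer ({b} : Set G) ≤ H :=
      le_of_uniq (hYu _ inf_le_left hbnc) inf_le_right (centralizer_ne_top hG hb1)
    exact (centralizer_le (Set.singleton_subset_iff.mpr (hEA hbE))).trans h1
  -- normalizers of `A`-invariant `s`-subgroups
  have hnorm : ∀ W : Subgroup G, W ≠ ⊥ → IsPGroup s W → A ≤ normalizer (W : Set G) →
      normalizer (W : Set G) ≤ H := by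
    intro W hWne hWs hAW
    obtain ⟨S₁, hS₁m, hWS₁⟩ := exists_maxInvQ_ge (A := A) (q := s) (U := W) ⟨hWs, hAW⟩
    obtain ⟨k, hk, hkS⟩ := C.htr hs hsp S hSA S₁ (mem_maxInvSubgroups_top_iff.mpr hS₁m)
    have hkH : k ∈ H := hcA (Helper22.piCoreOf_le _ _ hk)
    obtain ⟨L, hL, hNL⟩ := exists_max (normalizer_ne_top hG hWne (isPGroup_ne_top hG hWs))
    -- `Z^k ≤ C(W) ≤ L`
    have h1 : conjS k Z ≤ L := by
      refine le_trans ?_ hNL
      refine le_trans ?_ (centralizer_le_normalizer _)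
      rintro _ ⟨z, hz, rfl⟩
      rw [mem_centralizer_iff]
      intro w hw
      have hw' := hWS₁ hw
      rw [hkS] at hw'
      obtain ⟨x, hx, rfl⟩ := hw'
      have hc : x * z = z * x := mem_centralizer_iff.mp (omZ_le_centralizer s S hz) x hx
      show k * x * k⁻¹ * (k * z * k⁻¹) = k * z * k⁻¹ * (k * x * k⁻¹)
      calc k * x * k⁻¹ * (k * z * k⁻¹) = k * (x * z) * k⁻¹ := by group
        _ = k * (z * x) * k⁻¹ := by rw [hc]
        _ = k * z * k⁻¹ * (k * x * k⁻¹) := by group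
    have h2 : Z ≤ conjS k⁻¹ L := by
      intro z hz
      rw [mem_conjS, inv_inv]
      exact h1 (conjS_mem hz)
    have h3 : conjS k⁻¹ L = H := hYu Z le_rfl hZnc _ (isCoatom_map_conj hL k⁻¹) h2
    have h4 : L = H := by
      apply le_antisymm
      · intro x hx
        have h5 : k⁻¹ * x * k⁻¹⁻¹ ∈ H := by rw [← h3]; exact conjS_mem hx
        have : x = k * (k⁻¹ * x * k⁻¹⁻¹) * k⁻¹ := by group
        rw [this]
        exact mul_mem (mul_mem hkH h5) (inv_mem hkH)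
      · intro x hx
        have h5 : k⁻¹ * x * k ∈ conjS k⁻¹ L := by
          rw [h3]; exact mul_mem (mul_mem (inv_mem hkH) hx) hkH
        rw [mem_conjS, inv_inv] at h5
        have : x = k * (k⁻¹ * x * k) * k⁻¹ := by group
        rw [this]; exact h5
    exact h4 ▸ hNL
  refine ⟨s, S, hH, hs, hsp, C.scn.1.trans hPH', hSq, C.scn.1.trans hPS, ?_, hcA, ?_, ?_⟩
  · intro L hL hSL
    exact hX₃u L hL (hX₃S.trans hSL)
  · intro W hWs hAW
    by_cases hWb : W = ⊥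
    · rw [hWb]; exact bot_le
    · exact le_normalizer.trans (hnorm W hWb hWs hAW)
  · intro x _ _ _ _ W hWne hWs hAW _
    exact hnorm W hWne hWs hAW

end Cfsg.Agent.Lib.Helper10.BG95
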