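import Mathlib

set_option autoImplicit false

namespace Cfsg.Agent.Lib.Helper10

open Pointwise

variable {G : Type*} [Group G]

theorem card_image_mk (H K : Subgroup G) :
    Nat.card ((fun x : G => (x : G ⧸ K)) '' (H : Set G)) = K.relIndex H := by
  let f : H ⧸ K.subgroupOf H → G ⧸ K := Quotient.map' (fun h => (h : G)) (by
      intro a b hab
      rw [QuotientGroup.leftRel_apply] at *
      exact hab)
  have hf : Function.Injective f := by
    intro a b
    induction a using QuotientGroup.induction_on
    induction b using QuotientGroup.induction_on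
    intro hab
    have h1 := QuotientGroup.eq.mp hab
    exact QuotientGroup.eq.mpr h1
  have hr : Set.range f = (fun x : G => (x : G ⧸ K)) '' (H : Set G) := by
    ext y
    constructor
    · rintro ⟨a, rfl⟩
      induction a using QuotientGroup.induction_on with
      | H a => exact ⟨a, a.2, rfl⟩
    · rintro ⟨x, hx, rfl⟩
      exact ⟨QuotientGroup.mk ⟨x, hx⟩, rfl⟩
  rw [← hr, Subgroup.relIndex, Subgroup.index]
  exact (Nat.card_congr (Equiv.ofInjective f hf)).symm

theorem card_mul_relIndex {H K : Subgroup G} (h : H ≤ K) :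
    Nat.card H * H.relIndex K = Nat.card K := by
  rw [← Subgroup.relIndex_bot_left, ← Subgroup.relIndex_bot_left]
  exact Subgroup.relIndex_mul_relIndex ⊥ H K bot_le h

/-- The product formula `|HK| |H ∩ K| = |H| |K|`. -/
theorem card_mul_set_mul_card_inf (H K : Subgroup G) :
    Nat.card ((H : Set G) * (K : Set G) : Set G) * Nat.card (H ⊓ K : Subgroup G)
      = Nat.card H * Nat.card K := by
  rw [Subgroup.card_mul_eq_card_subgroup_mul_card_quotient K (H : Set G), card_image_mk]
  have h1 : Nat.card (H ⊓ K : Subgroup G) * K.relIndex H = Nat.card H := by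
    rw [← Subgroup.inf_relIndex_left]
    exact card_mul_relIndex inf_le_left
  rw [← h1]; ring

theorem card_mul_card_le [Finite G] (H K : Subgroup G) :
    Nat.card H * Nat.card K ≤ Nat.card (H ⊔ K : Subgroup G) * Nat.card (H ⊓ K : Subgroup G) := by
  rw [← card_mul_set_mul_card_inf]
  apply Nat.mul_le_mul_right
  apply Nat.card_mono (Set.toFinite _)
  rintro _ ⟨h, hh, k, hk, rfl⟩
  exact mul_mem (Subgroup.mem_sup_left hh) (Subgroup.mem_sup_right hk)

theorem card_sup_mul_card_inf (H K : Subgroup G) (h : H ≤ Subgroup.normalizer (K : Set G)) :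
    Nat.card (H ⊔ K : Subgroup G) * Nat.card (H ⊓ K : Subgroup G) = Nat.card H * Nat.card K := by
  rw [← card_mul_set_mul_card_inf H K, ← Subgroup.coe_mul_of_left_le_normalizer_right H K h]
  rfl

theorem card_sup_mul_card_inf' (H K : Subgroup G) (h : K ≤ Subgroup.normalizer (H : Set G)) :
    Nat.card (H ⊔ K : Subgroup G) * Nat.card (H ⊓ K : Subgroup G) = Nat.card H * Nat.card K := by
  rw [sup_comm, inf_comm, card_sup_mul_card_inf K H h, mul_comm]

theorem card_conj_smul (g : G) (H : Subgroup G) :
    Nat.card (MulAut.conj g • H : Subgroup G) = Nat.card H :=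
  (Nat.card_congr (Subgroup.equivSMul (MulAut.conj g) H).toEquiv).symm

theorem mem_normalizer_of_le_conj_smul [Finite G] (J : Subgroup G) (g : G)
    (h : J ≤ MulAut.conj g • J) : g ∈ Subgroup.normalizer (J : Set G) := by
  rw [Subgroup.mem_normalizer_iff_map_conj_eq]
  exact (Subgroup.eq_of_le_of_card_ge h (by rw [card_conj_smul])).symm

theorem conj_smul_eq_iff_mem_normalizer (J : Subgroup G) (g : G) :
    MulAut.conj g • J = J ↔ g ∈ Subgroup.normalizer (J : Set G) :=
  Subgroup.mem_normalizer_iff_map_conj_eq.symm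

theorem mem_conj_smul_iff (g x : G) (H : Subgroup G) :
    x ∈ MulAut.conj g • H ↔ g⁻¹ * x * g ∈ H := by
  rw [Subgroup.mem_pointwise_smul_iff_inv_smul_mem]
  simp [MulAut.smul_def]

end Cfsg.Agent.Lib.Helper10
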