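import Mathlib
import Cfsg.Prelude.Def_Transfer
import Cfsg.Prelude.Def_PLocal
import Cfsg.Agent.Lib.Helper10.Card

set_option autoImplicit false

namespace Cfsg.Agent.Lib.Helper10

open Pointwise Cfsg

universe u

variable {G : Type u} [Group G] {p : ℕ}

theorem isEA_iff {A : Subgroup G} : IsElementaryAbelian p A ↔
    (∀ x ∈ A, ∀ y ∈ A, x * y = y * x) ∧ ∀ a ∈ A, a ^ p = 1 := by
  unfold IsElementaryAbelian
  constructor
  · rintro ⟨h1, h2⟩
    exact ⟨fun x hx y hy => congrArg Subtype.val (mul_comm' (⟨x, hx⟩ : A) ⟨y, hy⟩), h2⟩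
  · rintro ⟨h1, h2⟩
    exact ⟨⟨⟨fun x y => Subtype.ext (h1 x x.2 y y.2)⟩⟩, h2⟩

theorem IsEA.mono {A B : Subgroup G} (h : IsElementaryAbelian p A) (hBA : B ≤ A) :
    IsElementaryAbelian p B := by
  rw [isEA_iff] at *
  exact ⟨fun x hx y hy => h.1 x (hBA hx) y (hBA hy), fun a ha => h.2 a (hBA ha)⟩

theorem isEA_bot : IsElementaryAbelian p (⊥ : Subgroup G) := by
  rw [isEA_iff]
  constructor
  · intro x hx y hy
    rw [Subgroup.mem_bot] at hx hy
    rw [hx, hy]
  · intro a ha
    rw [Subgroup.mem_bot] at ha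
    rw [ha, one_pow]

theorem IsEA.map {G' : Type*} [Group G'] {A : Subgroup G} (h : IsElementaryAbelian p A)
    (f : G →* G') : IsElementaryAbelian p (A.map f) := by
  rw [isEA_iff] at *
  constructor
  · rintro _ ⟨x, hx, rfl⟩ _ ⟨y, hy, rfl⟩
    rw [← map_mul, ← map_mul, h.1 x hx y hy]
  · rintro _ ⟨x, hx, rfl⟩
    rw [← map_pow, h.2 x hx, map_one]

theorem IsEA.comap {G' : Type*} [Group G'] {A : Subgroup G} (h : IsElementaryAbelian p A)
    (f : G' →* G) (hf : Function.Injective f) : IsElementaryAbelian p (A.comap f) := by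
  rw [isEA_iff] at *
  constructor
  · intro x hx y hy
    apply hf
    rw [map_mul, map_mul, h.1 _ hx _ hy]
  · intro x hx
    apply hf
    rw [map_pow, h.2 _ hx, map_one]

theorem IsEA.subgroupOf {A : Subgroup G} (h : IsElementaryAbelian p A) (U : Subgroup G) :
    IsElementaryAbelian p (A.subgroupOf U) :=
  IsEA.comap h U.subtype U.subtype_injective

theorem IsEA.conj {A : Subgroup G} (h : IsElementaryAbelian p A) (g : G) :
    IsElementaryAbelian p (MulAut.conj g • A) :=
  IsEA.map h _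

theorem IsEA.sup {A B : Subgroup G} (hA : IsElementaryAbelian p A) (hB : IsElementaryAbelian p B)
    (hc : ∀ a ∈ A, ∀ b ∈ B, a * b = b * a) : IsElementaryAbelian p (A ⊔ B) := by
  rw [isEA_iff] at *
  have hAB : A ≤ Subgroup.normalizer (B : Set G) := by
    refine le_trans ?_ (Subgroup.centralizer_le_normalizer (B : Set G))
    intro a ha
    rw [Subgroup.mem_centralizer_iff]
    intro b hb
    exact (hc a ha b hb).symm
  have hmem : ∀ x ∈ A ⊔ B, ∃ a ∈ A, ∃ b ∈ B, a * b = x := by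
    intro x hx
    rw [← SetLike.mem_coe, Subgroup.coe_mul_of_left_le_normalizer_right A B hAB] at hx
    exact hx
  constructor
  · intro x hx y hy
    obtain ⟨a, ha, b, hb, rfl⟩ := hmem x hx
    obtain ⟨a', ha', b', hb', rfl⟩ := hmem y hy
    calc a * b * (a' * b') = a * (b * a') * b' := by group
      _ = a * (a' * b) * b' := by rw [hc a' ha' b hb]
      _ = (a * a') * (b * b') := by group
      _ = (a' * a) * (b' * b) := by rw [hA.1 a ha a' ha', hB.1 b hb b' hb']
      _ = a' * (a * b') * b := by group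
      _ = a' * (b' * a) * b := by rw [hc a ha b' hb']
      _ = a' * b' * (a * b) := by group
  · intro x hx
    obtain ⟨a, ha, b, hb, rfl⟩ := hmem x hx
    rw [(show Commute a b from hc a ha b hb).mul_pow, hA.2 a ha, hB.2 b hb, one_mul]

theorem isEA_zpowers {x : G} (hx : x ^ p = 1) : IsElementaryAbelian p (Subgroup.zpowers x) := by
  rw [isEA_iff]
  constructor
  · rintro _ ⟨m, rfl⟩ _ ⟨n, rfl⟩
    exact (zpow_mul_comm x m n)
  · rintro _ ⟨m, rfl⟩
    show (x ^ m) ^ p = 1
    rw [← zpow_natCast, ← zpow_mul, mul_comm, zpow_mul, zpow_natCast, hx, one_zpow]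

theorem IsEA.isPGroup {A : Subgroup G} (h : IsElementaryAbelian p A) : IsPGroup p A := by
  intro a
  refine ⟨1, ?_⟩
  ext
  simpa using h.2 a a.2

theorem exists_maxEA [Finite G] (p : ℕ) : ∃ A : Subgroup G, A ∈ maxElementaryAbelianSubgroups p G := by
  have : Nonempty {A : Subgroup G // IsElementaryAbelian p A} := ⟨⟨⊥, isEA_bot⟩⟩
  obtain ⟨A, hA⟩ := Finite.exists_max (fun A : {A : Subgroup G // IsElementaryAbelian p A} => Nat.card A.1)
  exact ⟨A.1, A.2, fun B hB => hA ⟨B, hB⟩⟩

theorem le_thompson {A : Subgroup G} (hA : A ∈ maxElementaryAbelianSubgroups p G) :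
    A ≤ thompsonSubgroup p G := le_sSup hA

theorem maxEA_map_equiv {G' : Type u} [Group G'] (φ : G ≃* G') {A : Subgroup G}
    (hA : A ∈ maxElementaryAbelianSubgroups p G) :
    A.map φ.toMonoidHom ∈ maxElementaryAbelianSubgroups p G' := by
  refine ⟨IsEA.map hA.1 _, fun B hB => ?_⟩
  have h1 : Nat.card (A.map φ.toMonoidHom) = Nat.card A :=
    Subgroup.card_map_of_injective φ.injective
  have h2 : Nat.card (B.map φ.symm.toMonoidHom) = Nat.card B :=
    Subgroup.card_map_of_injective φ.symm.injective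
  rw [h1, ← h2]
  exact hA.2 _ (IsEA.map hB _)

theorem maxEA_conj {A : Subgroup G} (hA : A ∈ maxElementaryAbelianSubgroups p G) (g : G) :
    MulAut.conj g • A ∈ maxElementaryAbelianSubgroups p G :=
  maxEA_map_equiv (MulAut.conj g) hA

theorem subgroupOf_mem_maxEA {A U : Subgroup G} (hA : A ∈ maxElementaryAbelianSubgroups p G)
    (hAU : A ≤ U) : A.subgroupOf U ∈ maxElementaryAbelianSubgroups p U := by
  refine ⟨IsEA.subgroupOf hA.1 U, fun B hB => ?_⟩
  have h1 : Nat.card (A.subgroupOf U) = Nat.card A :=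
    Nat.card_congr (Subgroup.subgroupOfEquivOfLe hAU).toEquiv
  have h2 : Nat.card (B.map U.subtype) = Nat.card B :=
    Subgroup.card_map_of_injective U.subtype_injective
  rw [h1, ← h2]
  exact hA.2 _ (IsEA.map hB _)

theorem map_subtype_mem_maxEA {A₀ U : Subgroup G} (hA₀ : A₀ ∈ maxElementaryAbelianSubgroups p G)
    (hAU : A₀ ≤ U) {B : Subgroup U} (hB : B ∈ maxElementaryAbelianSubgroups p U) :
    B.map U.subtype ∈ maxElementaryAbelianSubgroups p G := by
  refine ⟨IsEA.map hB.1 _, fun C hC => ?_⟩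
  have h1 : Nat.card (A₀.subgroupOf U) = Nat.card A₀ :=
    Nat.card_congr (Subgroup.subgroupOfEquivOfLe hAU).toEquiv
  have h2 : Nat.card (B.map U.subtype) = Nat.card B :=
    Subgroup.card_map_of_injective U.subtype_injective
  rw [h2]
  calc Nat.card C ≤ Nat.card A₀ := hA₀.2 C hC
    _ = Nat.card (A₀.subgroupOf U) := h1.symm
    _ ≤ Nat.card B := hB.2 _ (IsEA.subgroupOf hA₀.1 U)

theorem thompsonSubgroupOf_le {A₀ U : Subgroup G} (hA₀ : A₀ ∈ maxElementaryAbelianSubgroups p G)
    (hAU : A₀ ≤ U) : thompsonSubgroupOf p U ≤ thompsonSubgroup p G := by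
  unfold thompsonSubgroupOf
  rw [Subgroup.map_le_iff_le_comap]
  unfold thompsonSubgroup
  apply sSup_le
  intro B hB
  rw [← Subgroup.map_le_iff_le_comap]
  exact le_sSup (map_subtype_mem_maxEA hA₀ hAU hB)

theorem le_thompsonSubgroupOf {A U : Subgroup G} (hA : A ∈ maxElementaryAbelianSubgroups p G)
    (hAU : A ≤ U) : A ≤ thompsonSubgroupOf p U := by
  unfold thompsonSubgroupOf
  have h1 : A.subgroupOf U ≤ thompsonSubgroup p U := le_sSup (subgroupOf_mem_maxEA hA hAU)
  have h2 := Subgroup.map_mono (f := U.subtype) h1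
  rwa [Subgroup.map_subgroupOf_eq_of_le hAU] at h2

end Cfsg.Agent.Lib.Helper10
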