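import Mathlib
import Cfsg.Prelude.Def_Transfer
import Cfsg.Agent.Lib.Helper10.Card
import Cfsg.Agent.Lib.Helper10.Thompson

set_option autoImplicit false

namespace Cfsg.Agent.Lib.Helper10

open Cfsg

variable {G : Type*} [Group G]

/-- `M` is a minimal normal subgroup of `G`. -/
def IsMinNormal (M : Subgroup G) : Prop :=
  M.Normal ∧ M ≠ ⊥ ∧ ∀ K : Subgroup G, K.Normal → K ≤ M → K = ⊥ ∨ K = M

theorem exists_minNormal_le [Finite G] (N : Subgroup G) (hN : N.Normal) (hne : N ≠ ⊥) :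
    ∃ M : Subgroup G, IsMinNormal M ∧ M ≤ N := by
  have hfin : Finite {K : Subgroup G // K.Normal ∧ K ≠ ⊥ ∧ K ≤ N} := inferInstance
  have hnon : Nonempty {K : Subgroup G // K.Normal ∧ K ≠ ⊥ ∧ K ≤ N} := ⟨⟨N, hN, hne, le_rfl⟩⟩
  obtain ⟨M, hM⟩ := Finite.exists_min (fun K : {K : Subgroup G // K.Normal ∧ K ≠ ⊥ ∧ K ≤ N} => Nat.card K.1)
  refine ⟨M.1, ⟨M.2.1, M.2.2.1, ?_⟩, M.2.2.2⟩
  intro K hK hKM
  by_cases hb : K = ⊥
  · exact Or.inl hb
  · right
    exact Subgroup.eq_of_le_of_card_ge hKM (hM ⟨K, hK, hb, hKM.trans M.2.2.2⟩)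

theorem exists_minNormal [Finite G] [Nontrivial G] : ∃ M : Subgroup G, IsMinNormal M := by
  obtain ⟨M, hM, _⟩ := exists_minNormal_le (⊤ : Subgroup G) inferInstance top_ne_bot
  exact ⟨M, hM⟩

theorem IsMinNormal.commutator_eq_bot [Group.IsSolvable G] {M : Subgroup G} (hM : IsMinNormal M) :
    ⁅M, M⁆ = ⊥ := by
  have := hM.1
  rcases hM.2.2 ⁅M, M⁆ inferInstance (Subgroup.commutator_le_self M) with h | h
  · exact h
  · exact absurd h (Group.IsSolvable.commutator_lt_of_ne_bot hM.2.1).ne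

theorem IsMinNormal.comm [Group.IsSolvable G] {M : Subgroup G} (hM : IsMinNormal M) :
    ∀ x ∈ M, ∀ y ∈ M, x * y = y * x := by
  have h := hM.commutator_eq_bot
  rw [Subgroup.commutator_eq_bot_iff_le_centralizer] at h
  intro x hx y hy
  exact (Subgroup.mem_centralizer_iff.mp (h hy)) x hx

/-- the elements of order dividing `p` of an abelian subgroup -/
def omegaSub (p : ℕ) (T : Subgroup G) (hT : ∀ x ∈ T, ∀ y ∈ T, x * y = y * x) :
    Subgroup G where
  carrier := {x | x ∈ T ∧ x ^ p = 1}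
  mul_mem' := by
    rintro x y ⟨hx, hx'⟩ ⟨hy, hy'⟩
    refine ⟨mul_mem hx hy, ?_⟩
    rw [(show Commute x y from hT x hx y hy).mul_pow, hx', hy', one_mul]
  one_mem' := ⟨one_mem _, one_pow _⟩
  inv_mem' := by
    rintro x ⟨hx, hx'⟩
    exact ⟨inv_mem hx, by rw [inv_pow, hx', inv_one]⟩

theorem mem_omegaSub {p : ℕ} {T : Subgroup G} {hT : ∀ x ∈ T, ∀ y ∈ T, x * y = y * x} {x : G} :
    x ∈ omegaSub p T hT ↔ x ∈ T ∧ x ^ p = 1 := Iff.rfl

theorem omegaSub_le (p : ℕ) (T : Subgroup G) (hT : ∀ x ∈ T, ∀ y ∈ T, x * y = y * x) :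
    omegaSub p T hT ≤ T := fun _ hx => hx.1

theorem omegaSub_normal (p : ℕ) (T : Subgroup G) (hT : ∀ x ∈ T, ∀ y ∈ T, x * y = y * x)
    (hn : T.Normal) : (omegaSub p T hT).Normal := by
  constructor
  intro x hx g
  refine ⟨hn.conj_mem x hx.1 g, ?_⟩
  rw [conj_pow, hx.2]; simp

/-- An abelian minimal normal subgroup of a finite group is elementary abelian. -/
theorem IsMinNormal.exists_isEA [Finite G] {M : Subgroup G} (hM : IsMinNormal M)
    (hc : ∀ x ∈ M, ∀ y ∈ M, x * y = y * x) :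
    ∃ p : ℕ, p.Prime ∧ IsElementaryAbelian p M := by
  have hcard : Nat.card M ≠ 1 := by
    intro h; exact hM.2.1 (Subgroup.card_eq_one.mp h)
  obtain ⟨p, hp, hpd⟩ := Nat.exists_prime_and_dvd hcard
  refine ⟨p, hp, ?_⟩
  have : Fact p.Prime := ⟨hp⟩
  obtain ⟨x, hx⟩ := exists_prime_orderOf_dvd_card' p hpd
  have hK := omegaSub_normal p M hc hM.1
  have hxK : (x : G) ∈ omegaSub p M hc := by
    refine ⟨x.2, ?_⟩
    have : x ^ p = 1 := by rw [← hx]; exact pow_orderOf_eq_one x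
    simpa using congrArg Subtype.val this
  have hne : omegaSub p M hc ≠ ⊥ := by
    intro hb
    rw [hb, Subgroup.mem_bot] at hxK
    have : x = 1 := by ext; simpa using hxK
    rw [this, orderOf_one] at hx
    exact hp.one_lt.ne hx
  have heq := (hM.2.2 _ hK (omegaSub_le p M hc)).resolve_left hne
  rw [isEA_iff]
  refine ⟨hc, fun a ha => ?_⟩
  rw [← heq] at ha
  exact ha.2

theorem IsMinNormal.exists_isEA_of_solvable [Finite G] [Group.IsSolvable G] {M : Subgroup G}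
    (hM : IsMinNormal M) : ∃ p : ℕ, p.Prime ∧ IsElementaryAbelian p M :=
  hM.exists_isEA hM.comm

theorem card_eq_pow_of_isEA [Finite G] {p : ℕ} (hp : p.Prime) {M : Subgroup G}
    (hM : IsElementaryAbelian p M) (hne : M ≠ ⊥) : ∃ d : ℕ, 0 < d ∧ Nat.card M = p ^ d := by
  have : Fact p.Prime := ⟨hp⟩
  obtain ⟨d, hd⟩ := IsPGroup.iff_card.mp (IsEA.isPGroup hM)
  refine ⟨d, ?_, hd⟩
  rcases Nat.eq_zero_or_pos d with rfl | h
  · exfalso; apply hne
    rw [pow_zero] at hd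
    exact Subgroup.card_eq_one.mp hd
  · exact h

/-- complements from `⊔ = ⊤` and `⊓ = ⊥` with one factor normal -/
theorem isComplement'_of_normal {N H : Subgroup G} (hN : N.Normal) (h1 : N ⊓ H = ⊥) (h2 : N ⊔ H = ⊤) :
    Subgroup.IsComplement' N H := by
  apply Subgroup.isComplement'_of_disjoint_and_mul_eq_univ (disjoint_iff.mpr h1)
  rw [← Subgroup.normal_mul, h2]; rfl

/-- Two complements (inside the same overgroup) of a normal subgroup are isomorphic. -/
theorem nonempty_mulEquiv_of_complements (N H₁ H₂ : Subgroup G) [N.Normal] (h₁ : H₁ ⊓ N = ⊥)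
    (h₂ : H₂ ⊓ N = ⊥) (h : H₁ ⊔ N = H₂ ⊔ N) : Nonempty (H₁ ≃* H₂) := by
  let f₁ : H₁ →* G ⧸ N := (QuotientGroup.mk' N).comp H₁.subtype
  let f₂ : H₂ →* G ⧸ N := (QuotientGroup.mk' N).comp H₂.subtype
  have inj : ∀ (H : Subgroup G), H ⊓ N = ⊥ →
      Function.Injective ((QuotientGroup.mk' N).comp H.subtype) := by
    intro H hH
    rw [injective_iff_map_eq_one]
    intro x hx
    have h1 : (x : G) ∈ N := by
      have : (QuotientGroup.mk' N) (x : G) = 1 := hx
      rwa [QuotientGroup.mk'_apply, QuotientGroup.eq_one_iff] at this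
    have h2 : (x : G) ∈ H ⊓ N := ⟨x.2, h1⟩
    rw [hH, Subgroup.mem_bot] at h2
    ext; simpa using h2
  have hr : f₁.range = f₂.range := by
    have e₁ : f₁.range = H₁.map (QuotientGroup.mk' N) := by
      rw [MonoidHom.range_comp, Subgroup.range_subtype]
    have e₂ : f₂.range = H₂.map (QuotientGroup.mk' N) := by
      rw [MonoidHom.range_comp, Subgroup.range_subtype]
    rw [e₁, e₂, Subgroup.map_eq_map_iff, QuotientGroup.ker_mk', h]
  exact ⟨(MonoidHom.ofInjective (inj H₁ h₁)).trans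
    ((MulEquiv.subgroupCongr hr).trans (MonoidHom.ofInjective (inj H₂ h₂)).symm)⟩

end Cfsg.Agent.Lib.Helper10
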