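import Mathlib
import Cfsg.Prelude.Def_Solvable
import Cfsg.Prelude.Def_Transfer
import Cfsg.Agent.Lib.Helper10.MinNormal

set_option autoImplicit false

namespace Cfsg.Agent.Lib.Helper10

open Cfsg

variable {G : Type*} [Group G]

theorem pCore_normal (p : ℕ) : (Cfsg.pCore p G).Normal :=
  Subgroup.sSup_normal _ (fun _ h => h.1)

theorem pCore_isPGroup (p : ℕ) : IsPGroup p (Cfsg.pCore p G) :=
  Sylow.sSup_of_normal _ (fun _ h => h.2) (fun _ h => h.1)

theorem le_pCore {p : ℕ} {N : Subgroup G} (hN : N.Normal) (hp : IsPGroup p N) :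
    N ≤ Cfsg.pCore p G := le_sSup ⟨hN, hp⟩

theorem le_fitting {N : Subgroup G} (hN : N.Normal) (hn : Group.IsNilpotent N) :
    N ≤ Cfsg.fittingSubgroup G := le_sSup ⟨hN, hn⟩

theorem pCore_le_fitting [Finite G] (p : ℕ) [Fact p.Prime] :
    Cfsg.pCore p G ≤ Cfsg.fittingSubgroup G :=
  le_fitting (pCore_normal p) (pCore_isPGroup p).isNilpotent

/-- the conjugation action of a normalizing subgroup -/
@[reducible] def conjActionOn (Q L : Subgroup G) (h : Q ≤ Subgroup.normalizer (L : Set G)) :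
    MulAction Q L where
  smul g x := ⟨g * x * (g : G)⁻¹, (Subgroup.le_normalizer_iff.mp h) g g.2 x x.2⟩
  one_smul x := by
    apply Subtype.ext
    show ((1 : Q) : G) * x * ((1 : Q) : G)⁻¹ = x
    simp
  mul_smul g g' x := by
    apply Subtype.ext
    show ((g * g' : Q) : G) * x * ((g * g' : Q) : G)⁻¹ = g * (g' * x * (g' : G)⁻¹) * (g : G)⁻¹
    simp only [Subgroup.coe_mul, mul_inv_rev]; group

/-- a `q`-group `Q` normalizing `L`: `|L| ≡ |C_L(Q)| mod q`. -/
theorem card_modEq_card_centralizer [Finite G] {q : ℕ} [Fact q.Prime] (Q L : Subgroup G)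
    (hQ : IsPGroup q Q) (h : Q ≤ Subgroup.normalizer (L : Set G)) :
    Nat.card L ≡ Nat.card (L ⊓ Subgroup.centralizer (Q : Set G) : Subgroup G) [MOD q] := by
  let _ := conjActionOn Q L h
  have h1 := hQ.card_modEq_card_fixedPoints L
  have e : Nat.card (MulAction.fixedPoints Q L) =
      Nat.card (L ⊓ Subgroup.centralizer (Q : Set G) : Subgroup G) := by
    apply Nat.card_congr
    refine ⟨fun x => ⟨x.1.1, Subgroup.mem_inf.mpr ⟨x.1.2, ?_⟩⟩,
      fun y => ⟨⟨y.1, y.2.1⟩, ?_⟩, fun x => rfl, fun y => rfl⟩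
    · rw [Subgroup.mem_centralizer_iff]
      intro g hg
      have h2 := x.2 ⟨g, hg⟩
      have h3 : g * (x.1 : G) * g⁻¹ = x.1 := congrArg Subtype.val h2
      calc g * (x.1 : G) = (g * (x.1 : G) * g⁻¹) * g := by group
        _ = x.1 * g := by rw [h3]
    · intro g
      apply Subtype.ext
      show (g : G) * y.1 * (g : G)⁻¹ = y.1
      have := (Subgroup.mem_centralizer_iff.mp y.2.2) g g.2
      rw [this]; group
  rw [← e]; exact h1

theorem normalizer_le_normalizer_centralizer (Q : Subgroup G) :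
    Subgroup.normalizer (Q : Set G) ≤
      Subgroup.normalizer ((Subgroup.centralizer (Q : Set G) : Subgroup G) : Set G) := by
  rw [Subgroup.le_normalizer_iff]
  intro m hm c hc
  rw [Subgroup.mem_centralizer_iff] at *
  intro y hy
  have hy' : m⁻¹ * y * m ∈ Q := by
    have := (Subgroup.mem_normalizer_iff.mp (inv_mem hm) y).mp hy
    simpa using this
  have h1 := hc _ hy'
  calc y * (m * c * m⁻¹) = m * ((m⁻¹ * y * m) * c) * m⁻¹ := by group
    _ = m * (c * (m⁻¹ * y * m)) * m⁻¹ := by rw [h1]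
    _ = m * c * m⁻¹ * y := by group

/-- An abelian minimal normal subgroup of order divisible by `p` is elementary abelian. -/
theorem IsMinNormal.isEA_of_dvd [Finite G] {M : Subgroup G} (hM : IsMinNormal M)
    (hc : ∀ x ∈ M, ∀ y ∈ M, x * y = y * x) {p : ℕ} (hp : p.Prime) (hpd : p ∣ Nat.card M) :
    IsElementaryAbelian p M := by
  have : Fact p.Prime := ⟨hp⟩
  obtain ⟨x, hx⟩ := exists_prime_orderOf_dvd_card' p hpd
  have hK := omegaSub_normal p M hc hM.1
  have hxK : (x : G) ∈ omegaSub p M hc := by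
    refine ⟨x.2, ?_⟩
    have : x ^ p = 1 := by rw [← hx]; exact pow_orderOf_eq_one x
    simpa using congrArg Subtype.val this
  have hne : omegaSub p M hc ≠ ⊥ := by
    intro hb
    rw [hb, Subgroup.mem_bot] at hxK
    have : x = 1 := by ext; simpa using hxK
    rw [this, orderOf_one] at hx
    exact hp.one_lt.ne hx
  have heq := (hM.2.2 _ hK (omegaSub_le p M hc)).resolve_left hne
  rw [isEA_iff]
  refine ⟨hc, fun a ha => ?_⟩
  rw [← heq] at ha
  exact ha.2

theorem dvd_card_of_isPGroup_ne_bot [Finite G] {p : ℕ} [Fact p.Prime] {M : Subgroup G}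
    (hM : IsPGroup p M) (hne : M ≠ ⊥) : p ∣ Nat.card M := by
  obtain ⟨d, hd⟩ := IsPGroup.iff_card.mp hM
  rcases Nat.eq_zero_or_pos d with rfl | h
  · exfalso; apply hne
    rw [pow_zero] at hd
    exact Subgroup.card_eq_one.mp hd
  · rw [hd]; exact dvd_pow_self p h.ne'

end Cfsg.Agent.Lib.Helper10
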