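/-
Helper library (helper10): Bender–Glauberman Theorem 12.4 (`p2Elem_mmax`, statement S1416),
modulo the uniqueness theorem `UT`, `PL1` (S1410), `H1414` (S1414) and `ExcThm` (BG Section 11).
-/
import Cfsg.Agent.Lib.Helper31.BG11a
import Cfsg.Agent.Lib.Helper68.BG121
import Cfsg.Agent.Lib.Helper10.BG95b
import Cfsg.Agent.Lib.Helper10.PCore
import Cfsg.Agent.Lib.Helper22.BG.FittingB
import Cfsg.Agent.Lib.Helper22.Generation2
import Cfsg.Agent.S1451
import Cfsg.Agent.S1482

set_option autoImplicit false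
set_option linter.unusedSimpArgs false
set_option linter.unusedVariables false
set_option linter.style.haveILetI false
set_option linter.unusedSectionVars false

namespace Cfsg.Agent.Lib.Helper10.BG124

open Subgroup Cfsg
open Cfsg.Agent.Lib
open Cfsg.Agent.Lib.Helper24 Cfsg.Agent.Lib.Helper34 Cfsg.Agent.Lib.Helper31.BG11
open scoped commutatorElement

universe u

variable {G : Type u} [Group G]

/-! ### General lemmas -/

theorem le_normalizer_of_forall_cj_le {M T : Subgroup G} (h : ∀ m ∈ M, cj m T ≤ T) :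
    M ≤ normalizer (T : Set G) := by
  intro m hm
  rw [mem_normalizer_iff]
  intro x
  constructor
  · intro hx
    exact h m hm (conj_mem_map_conj hx)
  · intro hx
    have := h m⁻¹ (M.inv_mem hm) (conj_mem_map_conj (g := m⁻¹) hx)
    simpa [mul_assoc] using this

theorem commutator_le_left_of_le_normalizer {K A : Subgroup G} (h : A ≤ normalizer (K : Set G)) :
    ⁅K, A⁆ ≤ K := by
  rw [commutator_le]
  intro k hk a ha
  have h1 : a * k⁻¹ * a⁻¹ ∈ K := (mem_normalizer_iff.mp (h ha) _).mp (K.inv_mem hk)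
  have : ⁅k, a⁆ = k * (a * k⁻¹ * a⁻¹) := by
    simp [commutatorElement_def, mul_assoc]
  rw [this]
  exact K.mul_mem hk h1

theorem commutator_le_right_of_le_normalizer {K A : Subgroup G} (h : K ≤ normalizer (A : Set G)) :
    ⁅K, A⁆ ≤ A := by
  rw [commutator_le]
  intro k hk a ha
  have h1 : k * a * k⁻¹ ∈ A := (mem_normalizer_iff.mp (h hk) _).mp ha
  exact A.mul_mem h1 (A.inv_mem ha)

theorem le_of_le_sup_of_coprime [Finite G] {X Y W : Subgroup G} (hn : Y ≤ normalizer (X : Set G))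
    (hW : W ≤ X ⊔ Y) (hcop : (Nat.card W).Coprime (Nat.card Y)) : W ≤ X := by
  haveI := Helper22.normal_subgroupOf_sup hn
  have h1 : X.relIndex (X ⊔ Y) ∣ Nat.card Y := by
    have h2 := Helper22.card_sup_dvd hn
    rw [← Helper22.relIndex_mul_natCard (le_sup_left : X ≤ X ⊔ Y), mul_comm] at h2
    exact Nat.dvd_of_mul_dvd_mul_left Nat.card_pos h2
  have h3 : (Nat.card (W.subgroupOf (X ⊔ Y))).Coprime (X.subgroupOf (X ⊔ Y)).index := by
    have : Nat.card (W.subgroupOf (X ⊔ Y)) = Nat.card W :=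
      Nat.card_congr (subgroupOfEquivOfLe hW).toEquiv
    rw [this]
    exact Nat.Coprime.coprime_dvd_right h1 hcop
  have h4 := Helper68.BG121.le_of_normal_of_coprime_index _ _ h3
  intro w hw
  have : (⟨w, hW hw⟩ : (X ⊔ Y : Subgroup G)) ∈ W.subgroupOf (X ⊔ Y) := by
    rw [mem_subgroupOf]; exact hw
  have := h4 this
  rw [mem_subgroupOf] at this
  exact this

theorem exists_qcompl [Finite G] {q : ℕ} [hq : Fact q.Prime] {S : Subgroup G}
    (h : HasNormalPComplement q ↥S) :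
    ∃ O : Subgroup G, O ≤ S ∧ ¬ q ∣ Nat.card O ∧
      (∀ U : Subgroup G, U ≤ S → ¬ q ∣ Nat.card U → U ≤ O) := by
  obtain ⟨P, N, hN, hc⟩ := h
  refine ⟨N.map S.subtype, map_subtype_le N, ?_, ?_⟩
  · rw [card_map_of_injective S.subtype_injective, ← hc.index_eq_card]
    exact P.not_dvd_index
  · intro U hUS hU
    have h3 : (Nat.card (U.subgroupOf S)).Coprime N.index := by
      have : Nat.card (U.subgroupOf S) = Nat.card U :=
        Nat.card_congr (subgroupOfEquivOfLe hUS).toEquiv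
      rw [this, hc.symm.index_eq_card]
      obtain ⟨n, hn⟩ := P.2.exists_card_eq
      rw [hn]
      exact Nat.Coprime.pow_right _ ((Nat.coprime_comm.mp ((Nat.Prime.coprime_iff_not_dvd hq.out).mpr hU)))
    have h4 := Helper68.BG121.le_of_normal_of_coprime_index _ _ h3
    intro w hw
    have : (⟨w, hUS hw⟩ : S) ∈ U.subgroupOf S := by
      rw [mem_subgroupOf]; exact hw
    exact ⟨⟨w, hUS hw⟩, h4 this, rfl⟩

theorem normalizer_le_normalizer_qcompl [Finite G] {q : ℕ} {S O : Subgroup G} (hOS : O ≤ S)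
    (hqO : ¬ q ∣ Nat.card O) (hmax : ∀ U : Subgroup G, U ≤ S → ¬ q ∣ Nat.card U → U ≤ O) :
    normalizer (S : Set G) ≤ normalizer (O : Set G) := by
  apply le_normalizer_of_forall_cj_le
  intro m hm
  apply hmax
  · calc cj m O ≤ cj m S := cj_mono m hOS
      _ = S := map_conj_eq_self_of_mem_normalizer hm
  · rw [card_map_conj]; exact hqO

/-! ### Conjugacy lemmas -/

theorem conj_of_alpha_sigma [Finite G] (hG : IsMinSimpleOddOrder G) (hU : UT G) {M H : Subgroup G}
    (hM : IsCoatom M) (hH : IsCoatom H) {q : ℕ} (hqM : q ∈ alpha M) (hqH : q ∈ sigma H) :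
    ∃ g, H = cj g M := by
  haveI : Fact q.Prime := ⟨hqM.1⟩
  have hqs := alpha_subset_sigma hG hU hM hqM
  obtain ⟨Q, hQ, -⟩ := exists_isSylowIn_ge (p := q) (bot_le : (⊥ : Subgroup G) ≤ M) IsPGroup.of_bot
  obtain ⟨Q', hQ', -⟩ := exists_isSylowIn_ge (p := q) (bot_le : (⊥ : Subgroup G) ≤ H) IsPGroup.of_bot
  obtain ⟨n, -, hn⟩ := isSylowIn_exists_cj_eq (sigma_isSylowIn_top hqH hQ')
    (sigma_isSylowIn_top hqs hQ)
  have hr : ¬ PRankLE q 2 Q := fun h => hqM.2 (pRankLE_of_isSylowIn hQ h)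
  have hUQ : InUniqueMaximal Q := hU.of_rank3 hqM.1 (MS_isPGroup_ne_top hG hQ.2.1) hr
  have h1 : Q ≤ cj n⁻¹ H := by
    rw [le_cj_iff, inv_inv, hn]
    exact hQ'.1
  have h2 := eq_of_inUniqueMaximal hUQ hM hQ.1 (isCoatom_cj hH n⁻¹) h1
  refine ⟨n, ?_⟩
  rw [← h2, cj_cj_inv]

theorem eq_of_sigma_cj [Finite G] (hG : IsMinSimpleOddOrder G) (hU : UT G) {M : Subgroup G}
    (hM : IsCoatom M) {p : ℕ} [Fact p.Prime] (hp : p ∈ sigma M) {X : Subgroup G}
    (hX : IsPGroup p X) (hXM : X ≤ M) {g : G} (hXg : X ≤ cj g M)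
    (hC : centralizer (X : Set G) ≤ cj g M) : cj g M = M := by
  obtain ⟨c, hc, hcM⟩ := sigma_trans hG hU p X hX M (cj g M) hM hp ⟨g, rfl⟩ hXM hXg
  have h1 : c ∈ cj c M := hcM ▸ hC hc
  rw [mem_map_conj] at h1
  have h2 : c ∈ M := by simpa using h1
  rw [hcM]
  exact map_conj_eq_self_of_mem h2

/-! ### BG Lemma 12.3 (variant) -/

theorem key123 [Finite G] (hG : IsMinSimpleOddOrder G) (hU : UT G) (h14 : H1414 G) (hE : ExcThm G)
    {p : ℕ} [hp : Fact p.Prime] {M H A X K : Subgroup G} (hM : IsCoatom M) (hH : IsCoatom H)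
    (hHM : H ≠ M) (hAM : A ≤ M) (hA : IsElementaryAbelian p A) (hcard : Nat.card A = p ^ 2)
    (hXA : X ≤ A) (hX : Nat.card X = p) (hNX : normalizer (X : Set G) ≤ H) (hKM : K ≤ M)
    (hAK : A ≤ normalizer (K : Set G)) (hpK : ¬ p ∣ Nat.card K)
    (hKX : K ≤ centralizer (X : Set G)) :
    ⁅K, A⁆ = ⊥ ∨ (p ∈ sigma H ∧ ∀ q : ℕ, q.Prime → q ∣ Nat.card ↥⁅K, A⁆ → q ∈ beta H) := by
  have hCX : centralizer (X : Set G) ≤ H := (centralizer_le_normalizer _).trans hNX
  have hAH : A ≤ H := (le_centralizer_of_comm hA.1 hXA).trans hCX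
  have hKH : K ≤ H := hKX.trans hCX
  have hWK : ⁅K, A⁆ ≤ K := commutator_le_left_of_le_normalizer hAK
  have hpW : ¬ p ∣ Nat.card ↥⁅K, A⁆ := Helper22.not_dvd_card_of_le hWK hpK
  have hpA : IsPGroup p A := isPGroup_of_exponent hA.2
  by_cases hps : p ∈ sigma H
  · right
    refine ⟨hps, ?_⟩
    intro q hq hqd
    by_contra hqb
    haveI : Fact q.Prime := ⟨hq⟩
    have hAs : A ≤ sigmaCore H := le_sc hG hU hH hps hAH hpA
    have hqH : q ∣ Nat.card H := hqd.trans (card_dvd_of_le (hWK.trans hKH))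
    obtain ⟨O, hOS, hqO, hmax⟩ := exists_qcompl (h14 H hH q hq hqH hqb)
    have hqp : q ≠ p := by
      rintro rfl
      exact hpW hqd
    have hAO : A ≤ O := by
      apply hmax A hAs
      rw [hcard]
      intro hd
      exact hqp ((Nat.prime_dvd_prime_iff_eq hq hp.out).mp (hq.dvd_of_dvd_pow hd))
    have hHO : H ≤ normalizer (O : Set G) :=
      (sc_norm H).trans (normalizer_le_normalizer_qcompl hOS hqO hmax)
    have hWO : ⁅K, A⁆ ≤ O :=
      (commutator_mono hKH hAO).trans (commutator_le_right_of_le_normalizer hHO)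
    exact hqO (hqd.trans (card_dvd_of_le hWO))
  · left
    have hExc : Exc H p A X := ⟨hH, hps, hAH, hA, hcard, hXA, hX, hNX⟩
    obtain ⟨-, -, hc, -, he, -⟩ := hE H p A X hExc
    have h1 : sigmaCore H ⊓ M = ⊥ := he M hM (Ne.symm hHM) hAM
    have h2 : ⁅K, A⁆ ≤ sigmaCore H ⊔ A :=
      (commutator_mono hKH le_sup_right).trans (commutator_le_right_of_le_normalizer hc)
    have h3 : ⁅K, A⁆ ≤ sigmaCore H := by
      refine le_of_le_sup_of_coprime (hAH.trans (sc_norm H)) h2 ?_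
      rw [hcard]
      exact Nat.Coprime.pow_right _ (Nat.coprime_comm.mp ((Nat.Prime.coprime_iff_not_dvd hp.out).mpr hpW))
    rw [eq_bot_iff, ← h1]
    exact le_inf h3 (hWK.trans hKM)

/-! ### The non-uniqueness context -/

/-- The hypothesis of part (b) of BG 12.4 (in a convenient form). -/
structure NU (M : Subgroup G) (p : ℕ) (A : Subgroup G) : Prop where
  coatom : IsCoatom M
  AM : A ≤ M
  elem : IsElementaryAbelian p A
  card : Nat.card A = p ^ 2
  nu : ∀ X : Subgroup G, X ≤ A → Nat.card X = p →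
    ∃ H : Subgroup G, IsCoatom H ∧ normalizer (X : Set G) ≤ H ∧ H ≠ M

namespace NU

variable [Finite G] {M A : Subgroup G} {p : ℕ} [hp : Fact p.Prime]

theorem pg (h : NU M p A) : IsPGroup p A := isPGroup_of_exponent h.elem.2

theorem comm (h : NU M p A) : A ≤ centralizer (A : Set G) :=
  le_centralizer_iff_isMulCommutative.mpr h.elem.1

theorem not_uniq (h : NU M p A) {X Y : Subgroup G} (hXA : X ≤ A) (hX : Nat.card X = p)
    (hYM : Y ≤ M) (hYX : Y ≤ normalizer (X : Set G)) : ¬ InUniqueMaximal Y := by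
  intro hY
  obtain ⟨H, hH, hNH, hHM⟩ := h.nu X hXA hX
  exact hHM (eq_of_inUniqueMaximal hY h.coatom hYM hH (hYX.trans hNH))

theorem card_zpowers (h : NU M p A) {a : G} (ha : a ∈ A) (ha1 : a ≠ 1) :
    Nat.card (zpowers a) = p := by
  rw [Nat.card_zpowers]
  exact orderOf_eq_prime (h.elem.2 a ha) ha1

theorem ne_bot (h : NU M p A) : A ≠ ⊥ := by
  intro hb
  have := h.card
  rw [hb, card_bot] at this
  have h2 := hp.out.one_lt
  nlinarith

theorem exists_ne_one (h : NU M p A) : ∃ a ∈ A, a ≠ 1 := by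
  by_contra hcon
  push Not at hcon
  exact h.ne_bot ((eq_bot_iff_forall A).mpr hcon)

theorem not_uniq_of_le_centralizer (h : NU M p A) {Y : Subgroup G} (hYM : Y ≤ M)
    (hYA : Y ≤ centralizer (A : Set G)) : ¬ InUniqueMaximal Y := by
  obtain ⟨a, ha, ha1⟩ := h.exists_ne_one
  have hXA : zpowers a ≤ A := zpowers_le.mpr ha
  refine h.not_uniq hXA (h.card_zpowers ha ha1) hYM ?_
  exact (hYA.trans (centralizer_le (by exact_mod_cast hXA))).trans (centralizer_le_normalizer _)

theorem e2 (h : NU M p A) (hG : IsMinSimpleOddOrder G) (hU : UT G) : E2 p A := by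
  refine ⟨h.elem, h.card, fun B hB hAB => ?_⟩
  by_contra hne
  have hlt : A < B := lt_of_le_of_ne hAB (Ne.symm hne)
  have hc : p ^ 2 < Nat.card B := by
    rw [← h.card]
    exact Helper22.natCard_lt_of_lt hlt
  have h1 : ¬ PRankLE p 2 (centralizer (A : Set G)) :=
    not_pRankLE_of_le (le_centralizer_of_comm hB.1 hAB) hB.1 hB.2 hc
  have h2 : ¬ PRankLE p 1 A := by
    refine not_pRankLE_of_le le_rfl h.elem.1 h.elem.2 ?_
    rw [h.card]
    exact Nat.pow_lt_pow_right hp.out.one_lt (by norm_num)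
  exact h.not_uniq_of_le_centralizer h.AM h.comm
    (hU.of_rank2_cent hp.out hp.out (MS_isPGroup_ne_top hG h.pg) h2 h1)

/-- a central element of order `p` of a Sylow `p`-subgroup of `M` containing `A`. -/
theorem exists_central (h : NU M p A) (hG : IsMinSimpleOddOrder G) (hU : UT G) {P : Subgroup G}
    (hP : IsPGroup p P) (hAP : A ≤ P) :
    ∃ z ∈ A, z ∈ centralizer (P : Set G) ∧ z ≠ 1 ∧ z ^ p = 1 := by
  have hPne : P ≠ ⊥ := fun hb => h.ne_bot (eq_bot_iff.mpr (hb ▸ hAP))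
  obtain ⟨z, hzP, hzC, hz1, hzp⟩ := exists_central_order_p hP hPne
  have hzCA : z ∈ centralizer (A : Set G) := centralizer_le (by exact_mod_cast hAP) hzC
  exact ⟨z, ((h.e2 hG hU).omega hzCA).mp hzp, hzC, hz1, hzp⟩

theorem not_alpha (h : NU M p A) (hG : IsMinSimpleOddOrder G) (hU : UT G) : p ∉ alpha M := by
  intro hpa
  obtain ⟨P, hP, hAP⟩ := exists_isSylowIn_ge h.AM h.pg
  obtain ⟨z, hzA, hzC, hz1, hzp⟩ := h.exists_central hG hU hP.2.1 hAP
  have hr : ¬ PRankLE p 2 P := fun hr => hpa.2 (pRankLE_of_isSylowIn hP hr)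
  have hUP : InUniqueMaximal P := hU.of_rank3 hp.out (MS_isPGroup_ne_top hG hP.2.1) hr
  refine h.not_uniq (zpowers_le.mpr hzA) (h.card_zpowers hzA hz1) hP.1 ?_ hUP
  refine le_trans ?_ (centralizer_le_normalizer _)
  rw [centralizer_zpowers_eq]
  intro x hx
  rw [mem_centralizer_singleton_iff]
  exact mem_centralizer_iff.mp hzC x hx

/-- The main reduction: `A` centralizes an `A`-invariant `p'`-subgroup `U` of `M` unless ... -/
theorem le_centralizer_of (h : NU M p A) (hG : IsMinSimpleOddOrder G) (hU : UT G) (h14 : H1414 G)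
    (hE : ExcThm G) {U : Subgroup G} (hUM : U ≤ M) (hAU : A ≤ normalizer (U : Set G))
    (hpU : ¬ p ∣ Nat.card U)
    (hbad : ∀ X H : Subgroup G, X ≤ A → Nat.card X = p → IsCoatom H → normalizer (X : Set G) ≤ H →
      H ≠ M → p ∈ sigma H → ∀ q : ℕ, q.Prime → q ∣ Nat.card U → q ∈ beta H → False) :
    U ≤ centralizer (A : Set G) := by
  have hAc : ∀ x ∈ A, ∀ y ∈ A, x * y = y * x := fun x hx y hy =>
    (mem_centralizer_iff.mp (h.comm hy) x hx)
  refine Helper22.le_of_forall_centralizer_le A U _ hAc h.elem.2 (by rw [h.card]) hpU hAU ?_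
  intro a ha ha1
  have hXA : zpowers a ≤ A := zpowers_le.mpr ha
  have hX := h.card_zpowers ha ha1
  obtain ⟨H, hH, hNH, hHM⟩ := h.nu _ hXA hX
  have hAa : A ≤ centralizer ({a} : Set G) := by
    intro x hx
    rw [mem_centralizer_singleton_iff]
    exact hAc _ hx _ ha
  have hAK : A ≤ normalizer ((U ⊓ centralizer ({a} : Set G) : Subgroup G) : Set G) :=
    Helper22.le_normalizer_inf hAU (hAa.trans le_normalizer)
  have hKX : U ⊓ centralizer ({a} : Set G) ≤ centralizer ((zpowers a : Subgroup G) : Set G) := by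
    rw [centralizer_zpowers_eq]
    exact inf_le_right
  rcases key123 hG hU h14 hE h.coatom hH hHM h.AM h.elem h.card hXA hX hNH
    (inf_le_left.trans hUM) hAK (Helper22.not_dvd_card_of_le inf_le_left hpU) hKX with h1 | ⟨h1, h2⟩
  · exact commutator_eq_bot_iff_le_centralizer.mp h1
  · by_contra hcon
    have hW : ⁅U ⊓ centralizer ({a} : Set G), A⁆ ≠ ⊥ :=
      fun hb => hcon (commutator_eq_bot_iff_le_centralizer.mp hb)
    have hcard : Nat.card ↥⁅U ⊓ centralizer ({a} : Set G), A⁆ ≠ 1 := fun h1 => hW (card_eq_one.mp h1)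
    obtain ⟨q, hq, hqd⟩ := Nat.exists_prime_and_dvd hcard
    exact hbad _ H hXA hX hH hNH hHM h1 q hq
      (hqd.trans (card_dvd_of_le ((commutator_le_left_of_le_normalizer hAK).trans inf_le_left)))
      (h2 q hq hqd)

theorem alphaCore_le (M : Subgroup G) : alphaCore M ≤ M := map_subtype_le _

theorem alphaCore_norm (M : Subgroup G) : M ≤ normalizer (alphaCore M : Set G) :=
  Helper22.le_normalizer_piCoreOf (alpha M) M

theorem alphaCore_primes (M : Subgroup G) {q : ℕ} (hq : q.Prime)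
    (hd : q ∣ Nat.card (alphaCore M)) : q ∈ alpha M :=
  Helper22.piCoreOf_primes (alpha M) M q hq hd

theorem alphaCore_hall (hG : IsMinSimpleOddOrder G) (hU : UT G) {M : Subgroup G}
    (hM : IsCoatom M) : IsPiHallOf (alpha M) (alphaCore M) M :=
  (piCoreOf_hall hG hU hM (alpha M) subset_rfl (fun q hq => alpha_subset_sigma hG hU hM hq)).1

theorem alphaCore_le_centralizer (h : NU M p A) (hG : IsMinSimpleOddOrder G) (hU : UT G)
    (h14 : H1414 G) (hE : ExcThm G) : alphaCore M ≤ centralizer (A : Set G) := by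
  refine h.le_centralizer_of hG hU h14 hE (alphaCore_le M) (h.AM.trans (alphaCore_norm M))
    (fun hd => h.not_alpha hG hU (alphaCore_primes M hp.out hd)) ?_
  intro X H hXA hX hH hNH hHM hpH q hq hqd hqb
  have hqM : q ∈ alpha M := alphaCore_primes M hq hqd
  have hqH : q ∈ sigma H := alpha_subset_sigma hG hU hH hqb.1
  obtain ⟨g, rfl⟩ := conj_of_alpha_sigma hG hU h.coatom hH hqM hqH
  have hpM : p ∈ sigma M := (sigma_cj_iff g).mp hpH
  have hCX : centralizer (X : Set G) ≤ cj g M := (centralizer_le_normalizer _).trans hNH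
  have hXc : X ≤ centralizer (X : Set G) :=
    hXA.trans (h.comm.trans (centralizer_le (by exact_mod_cast hXA)))
  exact hHM (eq_of_sigma_cj hG hU h.coatom hpM (h.pg.to_le hXA) (hXA.trans h.AM)
    (hXc.trans hCX) hCX)

theorem alphaCore_eq_bot (h : NU M p A) (hG : IsMinSimpleOddOrder G) (hU : UT G)
    (h14 : H1414 G) (hE : ExcThm G) : alphaCore M = ⊥ := by
  by_contra hne
  have hcard : Nat.card (alphaCore M) ≠ 1 := fun h1 => hne (card_eq_one.mp h1)
  obtain ⟨q, hq, hqd⟩ := Nat.exists_prime_and_dvd hcard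
  haveI : Fact q.Prime := ⟨hq⟩
  have hqM : q ∈ alpha M := alphaCore_primes M hq hqd
  obtain ⟨Q, hQ, -⟩ := exists_isSylowIn_ge (p := q) (bot_le : (⊥ : Subgroup G) ≤ alphaCore M)
    IsPGroup.of_bot
  have hQM : IsSylowIn q Q M :=
    isSylowIn_of_normal_hall (alphaCore_le M) ((alphaCore_hall hG hU h.coatom).2.2 q hq hqM) hQ
  have hr : ¬ PRankLE q 2 Q := fun hr => hqM.2 (pRankLE_of_isSylowIn hQM hr)
  exact h.not_uniq_of_le_centralizer hQM.1 (hQ.1.trans (h.alphaCore_le_centralizer hG hU h14 hE))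
    (hU.of_rank3 hq (MS_isPGroup_ne_top hG hQ.2.1) hr)

theorem alpha_empty (h : NU M p A) (hG : IsMinSimpleOddOrder G) (hU : UT G)
    (h14 : H1414 G) (hE : ExcThm G) (q : ℕ) : q ∉ alpha M := by
  intro hqM
  haveI : Fact q.Prime := ⟨hqM.1⟩
  have h1 := (alphaCore_hall hG hU h.coatom).2.2 q hqM.1 hqM
  rw [h.alphaCore_eq_bot hG hU h14 hE, relIndex_bot_left] at h1
  obtain ⟨F, hFM, hFc, hFp, hFcard⟩ := exists_of_not_pRankLE hqM.2
  exact h1 ((dvd_card_of_lt (isPGroup_of_exponent hFp) hFcard).trans (card_dvd_of_le hFM))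

theorem rankLE (h : NU M p A) (hG : IsMinSimpleOddOrder G) (hU : UT G)
    (h14 : H1414 G) (hE : ExcThm G) : RankLE 2 M :=
  fun q hq => by_contra fun hr => h.alpha_empty hG hU h14 hE q ⟨hq, hr⟩

theorem commutator_nilpotent (h : NU M p A) (hG : IsMinSimpleOddOrder G) (hU : UT G)
    (h14 : H1414 G) (hE : ExcThm G) : Group.IsNilpotent ↥(_root_.commutator ↥M) := by
  haveI := MS_solvable hG h.coatom.1
  exact (Cfsg.Agent.S1451.result (G := ↥M) (MS_odd hG M) (Or.inl (h.rankLE hG hU h14 hE))).1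

theorem commutator_le_fittingOf (h : NU M p A) (hG : IsMinSimpleOddOrder G) (hU : UT G)
    (h14 : H1414 G) (hE : ExcThm G) : ⁅M, M⁆ ≤ fittingOf M := by
  rw [← map_subtype_commutator]
  exact map_mono (Helper10.le_fitting inferInstance (h.commutator_nilpotent hG hU h14 hE))

end NU

theorem sc_le_commutator [Finite G] (hG : IsMinSimpleOddOrder G) (hU : UT G) {M : Subgroup G}
    (hM : IsCoatom M) : sigmaCore M ≤ ⁅M, M⁆ := by
  apply Helper22.le_of_forall_isSylowIn_le
  intro q hq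
  haveI : Fact q.Prime := ⟨hq⟩
  obtain ⟨Q, hQ, -⟩ := exists_isSylowIn_ge (p := q) (bot_le : (⊥ : Subgroup G) ≤ sigmaCore M)
    IsPGroup.of_bot
  refine ⟨Q, isSylowIn_to22 hQ, ?_⟩
  by_cases hb : Q = ⊥
  · rw [hb]; exact bot_le
  · have hqd : q ∣ Nat.card (sigmaCore M) :=
      (Helper10.dvd_card_of_isPGroup_ne_bot hQ.2.1 hb).trans (card_dvd_of_le hQ.1)
    have hqs := sc_primes M hq hqd
    exact sigma_sylow_le_commutator hG hU hM hqs (sc_sylow hG hU hM hqs hQ)

theorem NU.sc_nilpotent [Finite G] {M A : Subgroup G} {p : ℕ} [hp : Fact p.Prime] (h : NU M p A)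
    (hG : IsMinSimpleOddOrder G) (hU : UT G) (h14 : H1414 G) (hE : ExcThm G) :
    Group.IsNilpotent (sigmaCore M) := by
  have h1 : Group.IsNilpotent ↥⁅M, M⁆ := by
    rw [← map_subtype_commutator]
    haveI := h.commutator_nilpotent hG hU h14 hE
    exact Group.nilpotent_of_surjective ((M.subtype).subgroupMap (_root_.commutator ↥M))
      (MonoidHom.subgroupMap_surjective _ _)
  exact isNilpotent_of_le (sc_le_commutator hG hU h.coatom) h1

namespace NU

variable [Finite G] {M A : Subgroup G} {p : ℕ} [hp : Fact p.Prime]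

/-- `A` centralizes every normal `r`-subgroup of `M`, `r ≠ p`. -/
theorem normal_le_centralizer (h : NU M p A) (hG : IsMinSimpleOddOrder G) (hU : UT G)
    (h14 : H1414 G) (hE : ExcThm G) {r : ℕ} [hr : Fact r.Prime] (hrp : r ≠ p) {U : Subgroup G}
    (hUM : U ≤ M) (hMU : M ≤ normalizer (U : Set G)) (hUr : IsPGroup r U) :
    U ≤ centralizer (A : Set G) := by
  obtain ⟨n, hn⟩ := hUr.exists_card_eq
  refine h.le_centralizer_of hG hU h14 hE hUM (h.AM.trans hMU) ?_ ?_
  · intro hd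
    rw [hn] at hd
    exact hrp ((Nat.prime_dvd_prime_iff_eq hp.out hr.out).mp (hp.out.dvd_of_dvd_pow hd)).symm
  · intro X H hXA hX hH hNH hHM hpH q hq hqd hqb
    have hqr : q = r := by
      rw [hn] at hqd
      exact (Nat.prime_dvd_prime_iff_eq hq hr.out).mp (hq.dvd_of_dvd_pow hqd)
    subst hqr
    have hideal : IsIdealPrime q G := hqb.2
    have hUne : U ≠ ⊥ := by
      rintro rfl
      rw [card_bot] at hqd
      exact hq.one_lt.ne' (Nat.dvd_one.mp hqd)
    have hr2 : PRankLE q 2 M := h.rankLE hG hU h14 hE q hq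
    by_cases hqs : q ∈ sigma M
    · obtain ⟨R, hR, -⟩ := exists_isSylowIn_ge (p := q) (bot_le : (⊥ : Subgroup G) ≤ M)
        IsPGroup.of_bot
      have h1 : PRankLE q 2 (⊤ : Subgroup G) :=
        pRankLE_of_isSylowIn (sigma_isSylowIn_top hqs hR) (pRankLE_mono hR.1 hr2)
      exact hideal.2.1 (fun F hc he => (pRankLE_iff ⊤).mp h1 F le_top hc he)
    · by_cases hr1 : PRankLE q 1 M
      · have hVne : BG95.omZ q U ≠ ⊥ := BG95.omZ_ne_bot hUr hUne
        have hVe := BG95.omZ_elemAb q U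
        have hVM : BG95.omZ q U ≤ M := (BG95.omZ_le q U).trans hUM
        have hVp : IsPGroup q (BG95.omZ q U) := isPGroup_of_exponent hVe.2
        have hc1 : Nat.card (BG95.omZ q U) ≤ q ^ 1 := (pRankLE_iff M).mp hr1 _ hVM hVe.1 hVe.2
        have hc2 : q ∣ Nat.card (BG95.omZ q U) := Helper10.dvd_card_of_isPGroup_ne_bot hVp hVne
        have hc : Nat.card (BG95.omZ q U) = q :=
          le_antisymm (by simpa using hc1) (Nat.le_of_dvd Nat.card_pos hc2)
        have hN : normalizer (BG95.omZ q U : Set G) = M :=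
          Helper22.BG.normalizer_eq hG h.coatom hVne (MS_isPGroup_ne_top hG hVp)
            (hMU.trans (BG95.normalizer_le_normalizer_omZ q U))
        exact (sigma'_norm_mmax_rank2 hG hU h.coatom hqs hc hN.le).2.1 hideal
      · exact sigma'_rank2_not_ideal hG hU h.coatom hqs hr2 hr1 hideal

theorem isPGroup_T (h : NU M p A) : IsPGroup p (pCoreOf p M ⊔ A : Subgroup G) :=
  Helper22.isPGroup_sup (h.AM.trans (Helper47.le_normalizer_pCoreOf M))
    (Helper47.pCoreOf_isPGroup M) h.pg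

theorem fittingOf_le_normalizer_T (h : NU M p A) (hG : IsMinSimpleOddOrder G) (hU : UT G)
    (h14 : H1414 G) (hE : ExcThm G) :
    fittingOf M ≤ normalizer ((pCoreOf p M ⊔ A : Subgroup G) : Set G) := by
  rw [Cfsg.Agent.S1482.fittingOf_eq_iSup]
  refine iSup_le fun r => ?_
  haveI : Fact (r : ℕ).Prime := ⟨r.2⟩
  by_cases hrp : (r : ℕ) = p
  · rw [hrp]
    exact le_sup_left.trans le_normalizer
  · refine le_trans ?_ (centralizer_le_normalizer _)
    rw [le_centralizer_iff]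
    refine sup_le ?_ ?_
    · rw [← commutator_eq_bot_iff_le_centralizer, eq_bot_iff,
        ← Cfsg.Agent.S1482.inf_eq_bot_of_pGroups hp.out r.2 (Ne.symm hrp)
          (Helper47.pCoreOf_isPGroup M) (Helper47.pCoreOf_isPGroup M)]
      exact le_inf
        (commutator_le_left_of_le_normalizer
          ((Helper47.pCoreOf_le M).trans (Helper47.le_normalizer_pCoreOf M)))
        (commutator_le_right_of_le_normalizer
          ((Helper47.pCoreOf_le M).trans (Helper47.le_normalizer_pCoreOf M)))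
    · rw [le_centralizer_iff]
      exact h.normal_le_centralizer hG hU h14 hE hrp (Helper47.pCoreOf_le M)
        (Helper47.le_normalizer_pCoreOf M) (Helper47.pCoreOf_isPGroup M)

theorem cj_le_T (h : NU M p A) (hG : IsMinSimpleOddOrder G) (hU : UT G)
    (h14 : H1414 G) (hE : ExcThm G) {m : G} (hm : m ∈ M) : cj m A ≤ pCoreOf p M ⊔ A := by
  have hF : ∀ a ∈ A, m * a * m⁻¹ * a⁻¹ ∈ fittingOf M := fun a ha =>
    h.commutator_le_fittingOf hG hU h14 hE (commutator_mem_commutator hm (h.AM ha))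
  have hL : cj m A ≤ (pCoreOf p M ⊔ A) ⊔ fittingOf M := by
    rintro x ⟨a, ha, rfl⟩
    have : (MulAut.conj m).toMonoidHom a = (m * a * m⁻¹ * a⁻¹) * a := by simp
    rw [this]
    exact mul_mem (mem_sup_right (hF a ha)) (mem_sup_left (mem_sup_right ha))
  obtain ⟨S, hS, hAS⟩ := Helper22.BG.Syl.exists_ge (isPGroup_map_conj m h.pg) hL
  have hTS : pCoreOf p M ⊔ A ≤ S := Helper22.BG.Syl.normal_le hS h.isPGroup_T le_sup_left
    (sup_le le_normalizer (h.fittingOf_le_normalizer_T hG hU h14 hE))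
  rintro x ⟨a, ha, rfl⟩
  have hfS : m * a * m⁻¹ * a⁻¹ ∈ S :=
    S.mul_mem (hAS (conj_mem_map_conj ha)) (S.inv_mem (hTS (mem_sup_right ha)))
  have hfp : m * a * m⁻¹ * a⁻¹ ∈ pCoreOf p M :=
    BG95.le_pCoreOf_of_le_fittingOf (X := S ⊓ fittingOf M) (hS.pg.to_le inf_le_left) inf_le_right
      ⟨hfS, hF a ha⟩
  have : (MulAut.conj m).toMonoidHom a = (m * a * m⁻¹ * a⁻¹) * a := by simp
  rw [this]
  exact mul_mem (mem_sup_left hfp) (mem_sup_right ha)

theorem le_normalizer_T (h : NU M p A) (hG : IsMinSimpleOddOrder G) (hU : UT G)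
    (h14 : H1414 G) (hE : ExcThm G) :
    M ≤ normalizer ((pCoreOf p M ⊔ A : Subgroup G) : Set G) := by
  apply le_normalizer_of_forall_cj_le
  intro m hm
  have h1 : cj m (pCoreOf p M ⊔ A) = cj m (pCoreOf p M) ⊔ cj m A := Subgroup.map_sup _ _ _
  have h2 : cj m (pCoreOf p M) = pCoreOf p M :=
    map_conj_eq_self_of_mem_normalizer (Helper47.le_normalizer_pCoreOf M hm)
  rw [h1, h2]
  exact sup_le le_sup_left (h.cj_le_T hG hU h14 hE hm)

/-- **BG 12.4(a)** in the non-uniqueness case. -/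
theorem cent_le (h : NU M p A) (hG : IsMinSimpleOddOrder G) (hU : UT G)
    (h14 : H1414 G) (hE : ExcThm G) : centralizer (A : Set G) ≤ M := by
  set T : Subgroup G := pCoreOf p M ⊔ A with hT
  have hTp : IsPGroup p T := h.isPGroup_T
  have hAT : A ≤ T := le_sup_right
  have hTne : T ≠ ⊥ := fun hb => h.ne_bot (eq_bot_iff.mpr (hb ▸ hAT))
  have hVne : BG95.omZ p T ≠ ⊥ := BG95.omZ_ne_bot hTp hTne
  have hVp : IsPGroup p (BG95.omZ p T) := isPGroup_of_exponent (BG95.omZ_elemAb p T).2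
  have hVA : BG95.omZ p T ≤ A := by
    intro v hv
    have hvC : v ∈ centralizer (A : Set G) :=
      centralizer_le (by exact_mod_cast hAT) (BG95.omZ_le_centralizer p T hv)
    exact ((h.e2 hG hU).omega hvC).mp (BG95.omZ_pow v hv)
  have hN : normalizer (BG95.omZ p T : Set G) = M :=
    Helper22.BG.normalizer_eq hG h.coatom hVne (MS_isPGroup_ne_top hG hVp)
      ((h.le_normalizer_T hG hU h14 hE).trans (BG95.normalizer_le_normalizer_omZ p T))
  calc centralizer (A : Set G) ≤ centralizer (BG95.omZ p T : Set G) :=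
        centralizer_le (by exact_mod_cast hVA)
    _ ≤ normalizer (BG95.omZ p T : Set G) := centralizer_le_normalizer _
    _ = M := hN

theorem exists_normal_sylow (h : NU M p A) (hG : IsMinSimpleOddOrder G) (hU : UT G)
    (h14 : H1414 G) (hE : ExcThm G) :
    ∃ (q : ℕ) (Q : Subgroup G), q.Prime ∧ q ∣ Nat.card M ∧ IsSylowIn q Q M ∧
      M ≤ normalizer (Q : Set G) := by
  haveI := MS_solvable hG h.coatom.1
  have hcard : Nat.card M ≠ 1 := fun h1 => MS_coatom_ne_bot hG h.coatom (card_eq_one.mp h1)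
  have hne : (Nat.card M).primeFactors.Nonempty := by
    obtain ⟨q, hq, hqd⟩ := Nat.exists_prime_and_dvd hcard
    exact ⟨q, Nat.mem_primeFactors.mpr ⟨hq, hqd, Nat.card_pos.ne'⟩⟩
  set q := (Nat.card M).primeFactors.max' hne with hqdef
  have hqmem : q ∈ (Nat.card M).primeFactors := Finset.max'_mem _ hne
  have hq : q.Prime := (Nat.mem_primeFactors.mp hqmem).1
  have hqd : q ∣ Nat.card M := (Nat.mem_primeFactors.mp hqmem).2.1
  obtain ⟨N, hNchar, hNhall⟩ :=
    (Cfsg.Agent.S1451.result (G := ↥M) (MS_odd hG M) (Or.inl (h.rankLE hG hU h14 hE))).2.2 (q - 1)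
  refine ⟨q, N.map M.subtype, hq, hqd, ⟨map_subtype_le N, ?_, ?_⟩, ?_⟩
  · apply Helper22.isPGroup_of_primes
    intro r hr hrd
    rw [card_map_of_injective M.subtype_injective] at hrd
    have h1 : q - 1 < r := (hNhall.1 r hr hrd).2
    have h2 : r ≤ q := Finset.le_max' _ _
      (Nat.mem_primeFactors.mpr ⟨hr, hrd.trans (card_subgroup_dvd_card N), Nat.card_pos.ne'⟩)
    show r = q
    omega
  · rw [relIndex_map_subtype]
    exact hNhall.2 q hq ⟨hq, Nat.sub_lt hq.pos one_pos⟩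
  · exact Helper22.BG.le_normalizer_map_subtype N inferInstance

/-- **BG 12.4(b)**: `p ∈ σ(M)`. -/
theorem mem_sigma (h : NU M p A) (hG : IsMinSimpleOddOrder G) (hU : UT G) (hPL : PL1 G)
    (h14 : H1414 G) (hE : ExcThm G) : p ∈ sigma M := by
  by_contra hps
  obtain ⟨q, Q, hq, hqM, hQ, hMQ⟩ := h.exists_normal_sylow hG hU h14 hE
  haveI : Fact q.Prime := ⟨hq⟩
  have hQne : Q ≠ ⊥ := sylow_ne_bot_of_dvd hQ hqM
  have hNQ : normalizer (Q : Set G) = M :=
    Helper22.BG.normalizer_eq hG h.coatom hQne (MS_isPGroup_ne_top hG hQ.2.1) hMQ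
  have hqs : q ∈ sigma M := mem_sigma_iff.mpr ⟨hqM, Q, hQ, hNQ.le⟩
  have hqp : q ≠ p := by
    rintro rfl
    exact hps hqs
  have hQA : Q ≤ centralizer (A : Set G) :=
    h.normal_le_centralizer hG hU h14 hE hqp hQ.1 hMQ hQ.2.1
  obtain ⟨P, hP, hAP⟩ := exists_isSylowIn_ge h.AM h.pg
  have hpM : p ∣ Nat.card M :=
    (Dvd.intro_left p (by rw [h.card]; ring)).trans (card_dvd_of_le h.AM)
  obtain ⟨g, hgP, hgM⟩ : ∃ g ∈ normalizer (P : Set G), g ∉ M := by
    by_contra hcon
    push Not at hcon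
    exact hps (mem_sigma_iff.mpr ⟨hpM, P, hP, hcon⟩)
  obtain ⟨z, hzA, hzC, hz1, hzp⟩ := h.exists_central hG hU hP.2.1 hAP
  have hPg : cj g P = P := map_conj_eq_self_of_mem_normalizer hgP
  have hzC' : g * z * g⁻¹ ∈ centralizer (P : Set G) := by
    have h1 : g * z * g⁻¹ ∈ cj g (centralizer (P : Set G)) := conj_mem_map_conj hzC
    have h0 : centralizer ((cj g P : Subgroup G) : Set G) = cj g (centralizer (P : Set G)) :=
      centralizer_map_conj g P
    have h2 : centralizer ((cj g P : Subgroup G) : Set G) = centralizer (P : Set G) := by rw [hPg]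
    rw [← h2, h0]
    exact h1
  have hzA' : g * z * g⁻¹ ∈ A := by
    refine ((h.e2 hG hU).omega (centralizer_le (by exact_mod_cast hAP) hzC')).mp ?_
    rw [conj_pow, hzp]
    simp
  have hz1' : g * z * g⁻¹ ≠ 1 := by
    intro h1
    exact hz1 (conj_eq_one_iff.mp h1)
  have hH : centralizer ({g * z * g⁻¹} : Set G) ≠ ⊤ := Helper22.BG.centralizer_ne_top hG hz1'
  have hCA : centralizer (A : Set G) ≤ centralizer ({g * z * g⁻¹} : Set G) :=
    centralizer_le (by simpa using hzA')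
  have hAH : A ≤ centralizer ({g * z * g⁻¹} : Set G) := h.comm.trans hCA
  have h₁ : centralizer ({g * z * g⁻¹} : Set G) ⊓ Q ≠ ⊥ := by
    rw [inf_eq_right.mpr (hQA.trans hCA)]
    exact hQne
  have hQ₂ : IsSylowIn q (cj g Q) (cj g M) := hQ.map_conj g
  have hA₂ : A ≤ normalizer ((cj g Q : Subgroup G) : Set G) := by
    have h0 : normalizer ((cj g Q : Subgroup G) : Set G) = cj g (normalizer (Q : Set G)) :=
      normalizer_map_conj g Q
    rw [h0, hNQ]
    calc A ≤ P := hAP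
      _ = cj g P := hPg.symm
      _ ≤ cj g M := cj_mono g hP.1
  have hle₂ : cj g Q ≤ centralizer ({g * z * g⁻¹} : Set G) := by
    rintro x ⟨y, hy, rfl⟩
    rw [mem_centralizer_singleton_iff]
    have hyz : z * y = y * z := mem_centralizer_iff.mp (hQA hy) z hzA
    have : (MulAut.conj g).toMonoidHom y = g * y * g⁻¹ := by simp
    rw [this]
    calc g * y * g⁻¹ * (g * z * g⁻¹) = g * (y * z) * g⁻¹ := by group
      _ = g * (z * y) * g⁻¹ := by rw [hyz]
      _ = g * z * g⁻¹ * (g * y * g⁻¹) := by group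
  have h₂ : centralizer ({g * z * g⁻¹} : Set G) ⊓ cj g Q ≠ ⊥ := by
    rw [inf_eq_right.mpr hle₂]
    intro hb
    have h3 : Nat.card (cj g Q) = 1 := by rw [hb]; exact card_bot
    rw [card_map_conj] at h3
    exact hQne (card_eq_one.mp h3)
  have hqA : ¬ q ∣ Nat.card A := by
    rw [h.card]
    intro hd
    exact hqp ((Nat.prime_dvd_prime_iff_eq hq hp.out).mp (hq.dvd_of_dvd_pow hd))
  have hT := (h.e2 hG hU).trans hG hPL
  have m₁ := maxInvQ_of_sylow_top (sigma_isSylowIn_top hqs hQ) (h.AM.trans hMQ)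
  have m₂ := maxInvQ_of_sylow_top (sigma_isSylowIn_top (sigma_cj hqs g) hQ₂) hA₂
  obtain ⟨k, hk, hkQ⟩ := Helper23.TransHyp.conj_of_common_overgroup hG hT q hqA
    Q (cj g Q) m₁ m₂ _ hH hAH h₁ h₂
  have hkM : k ∈ M := h.cent_le hG hU h14 hE (Helper23.piCoreOf_le _ _ hk)
  have h3 : IsSylowIn q (cj g Q) M := by
    have := hQ.map_conj k
    rw [map_conj_eq_self_of_mem hkM] at this
    rw [← hkQ]
    exact this
  exact hgM (mem_of_sigma_sylow_le hqs h3 hQ₂.1)

end NU

/-- **BG Theorem 12.4** (statement S1416), modulo `UT`, `PL1`, `H1414`, `ExcThm`. -/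
theorem p2Elem_mmax [Finite G] (hG : IsMinSimpleOddOrder G) (hU : UT G) (hPL : PL1 G)
    (h14 : H1414 G) (hE : ExcThm G)
    (M : Subgroup G) (hM : IsCoatom M) (p : ℕ) [Fact p.Prime] (A : Subgroup G)
    (hA : (A ≤ M ∧ Cfsg.IsElementaryAbelian p A ∧ Nat.card A = p ^ 2)) :
    Subgroup.centralizer (A : Set G) ≤ M ∧
      ((∀ A₀ : Subgroup G, A₀ ≤ A → Nat.card A₀ = p →
          ¬ (Subgroup.normalizer (A₀ : Set G) ≤ M ∧ ∀ L : Subgroup G, IsCoatom L →
            Subgroup.normalizer (A₀ : Set G) ≤ L → L = M)) →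
        p ∈ Cfsg.sigma M ∧ Cfsg.alphaCore M = ⊥ ∧ Group.IsNilpotent (Cfsg.sigmaCore M)) := by
  have key : (∀ A₀ : Subgroup G, A₀ ≤ A → Nat.card A₀ = p →
          ¬ (Subgroup.normalizer (A₀ : Set G) ≤ M ∧ ∀ L : Subgroup G, IsCoatom L →
            Subgroup.normalizer (A₀ : Set G) ≤ L → L = M)) → NU M p A := by
    intro hnu
    refine ⟨hM, hA.1, hA.2.1, hA.2.2, ?_⟩
    intro X hXA hX
    have hXp : IsPGroup p X := (isPGroup_of_exponent hA.2.1.2).to_le hXA
    have hXne : X ≠ ⊥ := by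
      rintro rfl
      rw [card_bot] at hX
      exact (Fact.out : p.Prime).one_lt.ne hX
    by_cases hNM : normalizer (X : Set G) ≤ M
    · have := hnu X hXA hX
      push Not at this
      obtain ⟨L, hL, hNL, hLM⟩ := this hNM
      exact ⟨L, hL, hNL, hLM⟩
    · obtain ⟨L, hL, hNL⟩ := exists_coatom_ge
        (MS_normalizer_ne_top hG hXne (MS_isPGroup_ne_top hG hXp))
      refine ⟨L, hL, hNL, ?_⟩
      rintro rfl
      exact hNM hNL
  by_cases hnu : ∀ A₀ : Subgroup G, A₀ ≤ A → Nat.card A₀ = p →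
          ¬ (Subgroup.normalizer (A₀ : Set G) ≤ M ∧ ∀ L : Subgroup G, IsCoatom L →
            Subgroup.normalizer (A₀ : Set G) ≤ L → L = M)
  · have h := key hnu
    exact ⟨h.cent_le hG hU h14 hE, fun _ => ⟨h.mem_sigma hG hU hPL h14 hE,
      h.alphaCore_eq_bot hG hU h14 hE, h.sc_nilpotent hG hU h14 hE⟩⟩
  · refine ⟨?_, fun h => absurd h hnu⟩
    push Not at hnu
    obtain ⟨A₀, hA₀A, -, hN, -⟩ := hnu
    exact (centralizer_le (by exact_mod_cast hA₀A)).trans ((centralizer_le_normalizer _).trans hN)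

end Cfsg.Agent.Lib.Helper10.BG124
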