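import Cfsg.Agent.Lib.Helper10.BG95b
import Cfsg.Agent.Lib.Helper22.BG.Uniq
import Cfsg.Agent.Lib.Helper23.Uniq2

/-!
# BG Lemma 9.5: assembly
-/

set_option autoImplicit false

namespace Cfsg.Agent.Lib.Helper10.BG95

open Subgroup Cfsg
open Cfsg.Agent.Lib.Helper22 Cfsg.Agent.Lib.Helper22.BG Cfsg.Agent.Lib.Helper23
open scoped commutatorElement

variable {G : Type*} [Group G] [Finite G]

namespace Ctx

variable {p : ℕ} [hp : Fact p.Prime] {P A : Subgroup G}

/-- **Step 5** of BG 9.5 (version with `P ≤ H'`). -/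
theorem uniq_of_key' (C : Ctx p P A)
    (key : ∀ H H' : Subgroup G, IsCoatom H → IsCoatom H' → P ≤ ⁅H, H⁆ → P ≤ ⁅H', H'⁆ → H = H') :
    InUniqueMaximal A := by
  have hG := C.hG
  have hPne : P ≠ ⊥ := fun h => C.ne_bot (le_bot_iff.mp (h ▸ C.scn.1))
  set W := centerThompsonOf p P with hW
  set X := normalizer (W : Set G) with hX
  have hXne : X ≠ ⊤ := normalizer_ne_top C.hG (zj_ne_bot C.syl.pg hPne)
    (isPGroup_ne_top C.hG (C.syl.pg.to_le (zj_le P)))
  have hPX : P ≤ X := le_normalizer.trans (normalizer_le_normalizer_zj C.syl.pg)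
  have h1 : P ≤ ⁅X, X⁆ := le_commutator_normalizer_zj C.hG C.p_ne_two C.syl.toSylow
  obtain ⟨H0, hH0, hXH0⟩ := exists_max hXne
  have hA0 : P ≤ ⁅H0, H0⁆ := h1.trans (commutator_mono hXH0 hXH0)
  have hPH0 : P ≤ H0 := hPX.trans hXH0
  -- maximal `P`-invariant `q`-subgroups lie in `H0`
  have hQ : ∀ q : ℕ, q.Prime → q ≠ p → ∀ Q ∈ maxInvSubgroups ⊤ P {q}, Q ≤ H0 := by
    intro q hq hqp Q hQ
    have : Fact q.Prime := ⟨hq⟩
    by_cases hQb : Q = ⊥
    · rw [hQb]; exact bot_le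
    have hQq : IsPGroup q Q := (mem_maxInvSubgroups_top_iff.mp hQ).1.1
    obtain ⟨H, hH, hNH⟩ := exists_max (normalizer_ne_top hG hQb (isPGroup_ne_top hG hQq))
    have h2 : P ≤ ⁅H, H⁆ :=
      (C.le_commutator_normalizer hq hqp hQ).trans (commutator_mono hNH hNH)
    rw [← key H H0 hH hH0 h2 hA0]
    exact le_normalizer.trans hNH
  -- `P`-invariant `p'`-subgroups lie in `H0`
  have hY : ∀ Y : Subgroup G, (Nat.card Y).Coprime p → P ≤ normalizer (Y : Set G) → Y ≤ H0 := by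
    intro Y hYp hPY
    have hYp' : ¬ p ∣ Nat.card Y := by
      rw [← Nat.Prime.coprime_iff_not_dvd hp.out]; exact hYp.symm
    apply Cfsg.Agent.Lib.Helper23U.le_of_forall_sylow
    intro q hq
    have : Fact q.Prime := ⟨hq⟩
    obtain ⟨S, hS, hPS⟩ := exists_invariant_isSylowIn P Y C.syl.pg hYp' hPY q
    refine ⟨S, ⟨hS.le, hS.isPGroup, fun R hR h1 h2 => hS.eq_of_le hR h2 h1⟩, ?_⟩
    by_cases hqp : q = p
    · subst hqp
      have : S = ⊥ := by
        rw [← card_eq_one]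
        obtain ⟨n, hn⟩ := IsPGroup.iff_card.mp hS.isPGroup
        have hd : Nat.card S ∣ Nat.card Y := card_dvd_of_le hS.le
        rcases Nat.eq_zero_or_pos n with h0 | h0
        · rw [hn, h0, pow_zero]
        · exact absurd ((dvd_pow_self q h0.ne').trans (hn ▸ hd)) hYp'
      rw [this]; exact bot_le
    · obtain ⟨Q, hQm, hSQ⟩ := exists_maxInvQ_ge (A := P) (q := q) (U := S) ⟨hS.isPGroup, hPS⟩
      exact hSQ.trans (hQ q hq hqp Q (mem_maxInvSubgroups_top_iff.mpr hQm))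
  -- `A`-invariant `p'`-subgroups lie in `H0`
  have hYA : ∀ Y : Subgroup G, (Nat.card Y).Coprime p → A ≤ normalizer (Y : Set G) → Y ≤ H0 := by
    intro Y hYp hAY
    exact Cfsg.Agent.Lib.Helper23U.le_of_scn_invariant hG C.syl.toSylow (A := A) (K := H0)
      C.scn C.rk hY hYp hAY
  -- `P` lies only in `H0`
  have hPu : ∀ H, IsCoatom H → P ≤ H → H = H0 := by
    intro H hH hPH
    have hle : H ≤ H0 := by
      apply le_of_zj hG hH.1 (C.syl.mono hPH le_top)
      · exact hY _ (card_coreOf_coprime p H) (hPH.trans (le_normalizer_coreOf p H))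
      · exact inf_le_right.trans hXH0
    exact (hH.le_iff_eq hH0.1).mp hle |>.symm ▸ rfl
  rw [uniq_iff]
  refine ⟨H0, hH0, C.scn.1.trans hPH0, ?_⟩
  apply maxInt hG hH0 (C.scn.1.trans hPH0) C.pA C.ne_bot
  · intro H _ hAH
    exact hYA _ (card_coreOf_coprime p H) (hAH.trans (le_normalizer_coreOf p H))
  · intro P' hP' _ H hH hP'H
    obtain ⟨m, hm, hmP⟩ := (C.syl.mono hPH0 le_top).exists_conj hP'
    -- `conj m • P' = P`
    have h3 : P ≤ H.map (MulAut.conj m).toMonoidHom := by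
      rw [← hmP]
      exact map_mono hP'H
    have h4 := hPu _ (isCoatom_map_conj hH m) h3
    -- `H = H0^{m⁻¹} = H0`
    apply le_antisymm
    · intro x hx
      have h5 : m * x * m⁻¹ ∈ H0 := by
        rw [← h4]; exact ⟨x, hx, rfl⟩
      have : x = m⁻¹ * (m * x * m⁻¹) * m := by group
      rw [this]
      exact mul_mem (mul_mem (inv_mem hm) h5) hm
    · intro x hx
      have h5 : m * x * m⁻¹ ∈ H.map (MulAut.conj m).toMonoidHom := by
        rw [h4]; exact mul_mem (mul_mem hm hx) (inv_mem hm)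
      obtain ⟨y, hy, e⟩ := h5
      have e' : m * y * m⁻¹ = m * x * m⁻¹ := e
      have : y = x := by
        have := mul_right_cancel e'
        exact mul_left_cancel this
      exact this ▸ hy

/-- an elementary abelian subgroup of `A` of order exactly `p ^ 3` -/
theorem exists_E (C : Ctx p P A) :
    ∃ E : Subgroup G, E ≤ A ∧ (∀ x ∈ E, x ^ p = 1) ∧ Nat.card E = p ^ 3 := by
  obtain ⟨B, hBA, hBe, hBc⟩ := Cfsg.Agent.Lib.Helper23U.exists_elemAb_of_not_pRankLE C.rk
  have hBp : IsPGroup p B := isPGroup_of_pow_eq_one hBe.2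
  obtain ⟨n, hn⟩ := IsPGroup.iff_card.mp hBp
  have h3 : 3 ≤ n := by
    rw [hn] at hBc
    exact (Nat.pow_lt_pow_iff_right hp.out.one_lt).mp hBc
  obtain ⟨K, hK⟩ := Sylow.exists_subgroup_card_pow_prime (G := B) p (n := 3)
    (by rw [hn]; exact pow_dvd_pow p h3)
  refine ⟨K.map B.subtype, (map_subtype_le K).trans hBA, ?_, ?_⟩
  · rintro _ ⟨x, -, rfl⟩
    exact hBe.2 x x.2
  · rw [card_map_of_injective B.subtype_injective, hK]

/-- **BG Lemma 9.5.** -/
theorem uniq (C : Ctx p P A) : InUniqueMaximal A := by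
  by_contra hU
  obtain ⟨E, hEA, hEp, hE3⟩ := C.exists_E
  refine hU (C.uniq_of_key' fun H H' hH hH' h h' => ?_)
  obtain ⟨s, S, hg⟩ := C.exists_good hU hEA hEp hE3 hH h
  obtain ⟨t, S', hg'⟩ := C.exists_good hU hEA hEp hE3 hH' h'
  exact C.key_of_good hEA hEp hE3 hg hg'

end Ctx

end Cfsg.Agent.Lib.Helper10.BG95
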