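import Cfsg.Agent.Lib.Helper22.BG.FittingB
import Cfsg.Agent.S1395
import Cfsg.Agent.S0118
import Cfsg.Agent.S1907

/-!
# Bender–Glauberman Lemma 9.5, part (a): `P ≤ N(Q)'`
-/

set_option autoImplicit false
set_option linter.unusedSectionVars false
set_option linter.style.haveILetI false

namespace Cfsg.Agent.Lib.Helper10.BG95

open Subgroup Cfsg
open Cfsg.Agent.Lib.Helper22 Cfsg.Agent.Lib.Helper22.BG Cfsg.Agent.Lib.Helper23
open scoped commutatorElement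

variable {G : Type*} [Group G] [Finite G]

/-- If `X = K Y` with `K` normalized by `Y`, `P ≤ Y` of order coprime to `|K|`, then
`P ∩ X' ≤ Y'`. -/
theorem inf_commutator_le {X K Y P : Subgroup G} (hYK : Y ≤ normalizer (K : Set G))
    (hX : X ≤ K ⊔ Y) (hPY : P ≤ Y) (hcop : (Nat.card P).Coprime (Nat.card K)) :
    P ⊓ ⁅X, X⁆ ≤ ⁅Y, Y⁆ := by
  have hcomm : ⁅X, X⁆ ≤ K ⊔ ⁅Y, Y⁆ := by
    rw [commutator_le]
    intro g₁ hg₁ g₂ hg₂
    obtain ⟨k₁, hk₁, n₁, hn₁, rfl⟩ := (mem_sup_of_le_normalizer hYK).mp (hX hg₁)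
    obtain ⟨k₂, hk₂, n₂, hn₂, rfl⟩ := (mem_sup_of_le_normalizer hYK).mp (hX hg₂)
    have e : ⁅k₁ * n₁, k₂ * n₂⁆ = k₁ * (n₁ * k₂ * n₁⁻¹) *
        ((n₁ * n₂ * n₁⁻¹) * k₁⁻¹ * (n₁ * n₂ * n₁⁻¹)⁻¹) * (⁅n₁, n₂⁆ * k₂⁻¹ * ⁅n₁, n₂⁆⁻¹) * ⁅n₁, n₂⁆ := by
      simp only [commutatorElement_def]; group
    rw [e]
    have hc : ⁅n₁, n₂⁆ ∈ ⁅Y, Y⁆ := commutator_mem_commutator hn₁ hn₂
    have hcN : ⁅n₁, n₂⁆ ∈ Y := commutator_le_self Y hc
    refine mul_mem (mem_sup_left ?_) (mem_sup_right hc)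
    refine mul_mem (mul_mem (mul_mem hk₁ ?_) ?_) ?_
    · exact (mem_normalizer_iff.mp (hYK hn₁) _).mp hk₂
    · exact (mem_normalizer_iff.mp (hYK (mul_mem (mul_mem hn₁ hn₂) (inv_mem hn₁))) _).mp
        (inv_mem hk₁)
    · exact (mem_normalizer_iff.mp (hYK hcN) _).mp (inv_mem hk₂)
  intro x hx
  obtain ⟨hxP, hxN⟩ := mem_inf.mp hx
  have hle : ⁅Y, Y⁆ ≤ Y := commutator_le_self Y
  obtain ⟨k, hk, c, hc, hkc⟩ := (mem_sup_of_le_normalizer (hle.trans hYK)).mp (hcomm hxN)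
  have hxY : x ∈ Y := hPY hxP
  have hkY : k ∈ Y := by
    have : k = x * c⁻¹ := by rw [← hkc]; group
    rw [this]; exact mul_mem hxY (inv_mem (hle hc))
  have hcc : (⟨c, hle hc⟩ : Y) ∈ _root_.commutator Y := by
    have h1 : c ∈ (_root_.commutator Y).map Y.subtype := by
      rw [map_subtype_commutator]; exact hc
    obtain ⟨y, hy, hyc⟩ := h1
    have : y = ⟨c, hle hc⟩ := Subtype.ext hyc
    rwa [← this]
  have hfx : (Abelianization.of (⟨x, hxY⟩ : Y)) = Abelianization.of (⟨k, hkY⟩ : Y) := by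
    have h1 : (⟨x, hxY⟩ : Y) = ⟨k, hkY⟩ * ⟨c, hle hc⟩ := Subtype.ext hkc.symm
    rw [h1, map_mul]
    have h2 : Abelianization.of (⟨c, hle hc⟩ : Y) = 1 := by
      rw [← MonoidHom.mem_ker, Abelianization.ker_of]; exact hcc
    rw [h2, mul_one]
  have hpK : k ^ Nat.card K = 1 := by
    have := pow_card_eq_one' (x := (⟨k, hk⟩ : K))
    exact congrArg Subtype.val this
  have hpP : x ^ Nat.card P = 1 := by
    have := pow_card_eq_one' (x := (⟨x, hxP⟩ : P))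
    exact congrArg Subtype.val this
  have h1 : (Abelianization.of (⟨x, hxY⟩ : Y)) ^ Nat.card K = 1 := by
    rw [hfx, ← map_pow]
    have : (⟨k, hkY⟩ : Y) ^ Nat.card K = 1 := Subtype.ext hpK
    rw [this, map_one]
  have h2 : (Abelianization.of (⟨x, hxY⟩ : Y)) ^ Nat.card P = 1 := by
    rw [← map_pow]
    have : (⟨x, hxY⟩ : Y) ^ Nat.card P = 1 := Subtype.ext hpP
    rw [this, map_one]
  have h3 : Abelianization.of (⟨x, hxY⟩ : Y) = 1 := by
    have := pow_gcd_eq_one.mpr ⟨h2, h1⟩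
    rwa [hcop.gcd_eq_one, pow_one] at this
  have h4 : (⟨x, hxY⟩ : Y) ∈ _root_.commutator Y := by
    rw [← Abelianization.ker_of, MonoidHom.mem_ker]; exact h3
  rw [← map_subtype_commutator]
  exact ⟨_, h4, rfl⟩

/-- A group of odd order has no section isomorphic to `SL(2,p)`, `p` odd. -/
theorem no_sl2_section (hodd : Odd (Nat.card G)) {p : ℕ} [hp : Fact p.Prime] (hp2 : p ≠ 2) :
    ¬ ∃ (H K : Subgroup G) (hK : (K.subgroupOf H).Normal),
      Nonempty ((H ⧸ K.subgroupOf H) ≃* Matrix.SpecialLinearGroup (Fin 2) (ZMod p)) := by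
  rintro ⟨H, K, hK, ⟨e⟩⟩
  have h1 : Nat.card (H ⧸ K.subgroupOf H) ∣ Nat.card G :=
    (Subgroup.card_quotient_dvd_card _).trans (Subgroup.card_subgroup_dvd_card H)
  have hodd' : Odd (Nat.card (H ⧸ K.subgroupOf H)) := Odd.of_dvd_nat hodd h1
  set z : Matrix.SpecialLinearGroup (Fin 2) (ZMod p) := -1 with hz
  have hz2 : z ^ 2 = 1 := by
    rw [hz]; ext i j; fin_cases i <;> fin_cases j <;> simp [pow_two]
  have hz1 : z ≠ 1 := by
    intro h
    have h2 := congrArg (fun m : Matrix.SpecialLinearGroup (Fin 2) (ZMod p) => m.1 0 0) h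
    simp only [hz, Matrix.SpecialLinearGroup.coe_neg, Matrix.SpecialLinearGroup.coe_one,
      Matrix.neg_apply, Matrix.one_apply_eq] at h2
    have h3 : (2 : ZMod p) = 0 := by linear_combination -h2
    have h4 : ((2 : ℕ) : ZMod p) = 0 := by exact_mod_cast h3
    rw [ZMod.natCast_eq_zero_iff] at h4
    exact hp2 ((Nat.prime_dvd_prime_iff_eq hp.out Nat.prime_two).mp h4)
  have ho : orderOf z = 2 := orderOf_eq_prime hz2 hz1
  have h5 : 2 ∣ Nat.card (Matrix.SpecialLinearGroup (Fin 2) (ZMod p)) := by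
    have := _root_.orderOf_dvd_natCard z
    rwa [ho] at this
  rw [← Nat.card_congr e.toEquiv] at h5
  exact (Nat.not_even_iff_odd.mpr hodd') (even_iff_two_dvd.mpr h5)

theorem commutator_eq_top (hG : IsMinSimpleOddOrder G) : _root_.commutator G = ⊤ := by
  haveI := hG.2.1
  rcases (inferInstance : (_root_.commutator G).Normal).eq_bot_or_eq_top with h | h
  · exfalso
    apply hG.2.2.1
    refine ⟨⟨fun x y => ?_⟩⟩
    have h1 : ⁅x, y⁆ ∈ _root_.commutator G := commutator_mem_commutator (mem_top x) (mem_top y)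
    rw [h, mem_bot] at h1
    exact commutatorElement_eq_one_iff_mul_comm.mp h1
  · exact h

/-- `P ≤ N(Z(J(P)))'`. -/
theorem le_commutator_normalizer_zj (hG : IsMinSimpleOddOrder G) {p : ℕ} [hp : Fact p.Prime]
    (hp2 : p ≠ 2) (P : Sylow p G) :
    (P : Subgroup G) ≤ ⁅normalizer (centerThompsonOf p (P : Subgroup G) : Set G),
      normalizer (centerThompsonOf p (P : Subgroup G) : Set G)⁆ := by
  set X := normalizer (centerThompsonOf p (P : Subgroup G) : Set G) with hX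
  have hPX : (P : Subgroup G) ≤ X := le_normalizer.trans (normalizer_le_normalizer_zj P.isPGroup')
  have h1 : (P : Subgroup G) = (P : Subgroup G).focalSubgroup := by
    rw [← commutator_inf_eq_focalSubgroup P, commutator_eq_top hG, top_inf_eq]
  rw [h1, focalSubgroup_def, closure_le]
  rintro g ⟨hgP, x, hxP, u, rfl⟩
  have h2 : u * x * u⁻¹ ∈ (P : Subgroup G) := by
    have : u * x * u⁻¹ = (x⁻¹ * ⁅x, u⁆)⁻¹ := by simp only [commutatorElement_def]; group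
    rw [this]
    exact inv_mem (mul_mem (inv_mem hxP) hgP)
  obtain ⟨n, hn, hnx⟩ := Cfsg.Agent.S0118.result hp2 (no_sl2_section hG.1 hp2) P {x}
    (by intro y hy; rw [Set.mem_singleton_iff.mp hy]; exact hxP) u⁻¹
    (by
      rintro _ ⟨y, hy, rfl⟩
      rw [Set.mem_singleton_iff.mp hy]
      show u⁻¹⁻¹ * x * u⁻¹ ∈ (P : Subgroup G)
      rw [inv_inv]; exact h2)
  have h3 : n⁻¹ * x * n = u * x * u⁻¹ := by simpa using hnx x rfl
  have h4 : ⁅x, u⁆ = ⁅x, n⁻¹⁆ := by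
    have e1 : ⁅x, u⁆ = x * (u * x * u⁻¹)⁻¹ := by simp only [commutatorElement_def]; group
    have e2 : ⁅x, n⁻¹⁆ = x * (n⁻¹ * x * n)⁻¹ := by simp only [commutatorElement_def]; group
    rw [e1, e2, h3]
  show ⁅x, u⁆ ∈ ⁅X, X⁆
  rw [h4]
  exact commutator_mem_commutator (hPX hxP) (inv_mem hn)

/-- Factorization `X = N_X(T) O_{p'}(X)` with `A ≤ T = P ∩ O_{p',p}(X)`. -/
theorem exists_factor (hG : IsMinSimpleOddOrder G) {p : ℕ} [hp : Fact p.Prime] {X P A : Subgroup G}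
    (hX : X ≠ ⊤) (hP : Syl p P X) (hAP : A ≤ P) (hAc : A ≤ centralizer (A : Set G))
    (hPA : P ≤ normalizer (A : Set G)) :
    ∃ T : Subgroup G, A ≤ T ∧ T ≤ P ∧ P ≤ normalizer (T : Set G) ∧
      ∀ x ∈ X, ∃ n ∈ X ⊓ normalizer (T : Set G), ∃ d ∈ coreOf p X, x = n * d := by
  haveI : Group.IsSolvable X := solv hG hX
  have hAc' : IsMulCommutative (A.subgroupOf X) := by
    refine ⟨⟨fun x y => Subtype.ext (Subtype.ext ?_)⟩⟩
    exact mem_centralizer_iff.mp (hAc (mem_subgroupOf.mp y.2)) _ (mem_subgroupOf.mp x.2)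
  have h1 := Cfsg.Agent.S1457.result (G := X) (odd_card hG X) p hP.toSylowSub (A.subgroupOf X)
    (by rw [Syl.coe_toSylowSub]; exact Subgroup.comap_mono hAP) hAc'
    (by rw [Syl.coe_toSylowSub]; exact le_normalizer_subgroupOf hPA)
  set T' : Subgroup X := (hP.toSylowSub : Subgroup X) ⊓ pPrimePCore p X with hT'
  have hnorm : ∀ n : X, n ∈ normalizer (T' : Set X) →
      (n : G) ∈ normalizer ((T'.map X.subtype : Subgroup G) : Set G) := by
    intro n hn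
    exact le_normalizer_map X.subtype ⟨n, hn, rfl⟩
  refine ⟨T'.map X.subtype, ?_, ?_, ?_, ?_⟩
  · intro a ha
    have haX : a ∈ X := hP.le (hAP ha)
    refine ⟨⟨a, haX⟩, mem_inf.mpr ⟨?_, h1 (mem_subgroupOf.mpr ha)⟩, rfl⟩
    rw [Syl.coe_toSylowSub]
    exact mem_subgroupOf.mpr (hAP ha)
  · rintro _ ⟨t, ht, rfl⟩
    have := ht.1
    rw [Syl.coe_toSylowSub] at this
    exact mem_subgroupOf.mp this
  · intro y hy
    have hyX : y ∈ X := hP.le hy
    apply hnorm ⟨y, hyX⟩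
    have hy' : (⟨y, hyX⟩ : X) ∈ (hP.toSylowSub : Subgroup X) := by
      rw [Syl.coe_toSylowSub]; exact mem_subgroupOf.mpr hy
    haveI : (pPrimePCore p X).Normal := Cfsg.Agent.S1907.pPrimePCore_normal
    apply le_normalizer_inf (A := (hP.toSylowSub : Subgroup X)) le_normalizer ?_ hy'
    rw [normalizer_eq_top]
    exact le_top
  · intro x hx
    obtain ⟨n, hn, d, hd, e⟩ := Cfsg.Agent.S1907.frattini hP.toSylowSub (⟨x, hx⟩ : X)
    refine ⟨n, mem_inf.mpr ⟨n.2, hnorm n hn⟩, d, ⟨d, hd, rfl⟩, ?_⟩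
    exact congrArg Subtype.val e

/-- The standing hypotheses of BG Lemma 9.5. -/
structure Ctx (p : ℕ) (P A : Subgroup G) : Prop where
  hG : IsMinSimpleOddOrder G
  syl : Syl p P ⊤
  scn : IsSCN P A
  rk : ¬ PRankLE p 2 A

namespace Ctx

variable {p : ℕ} [hp : Fact p.Prime] {P A : Subgroup G}

theorem trans (C : Ctx p P A) : TransitivityHypothesis A :=
  transHyp_of_scn C.hG C.syl C.scn (not_pRankLE_mono hp.out.pos (by norm_num) C.rk)

theorem pA (C : Ctx p P A) : IsPGroup p A := C.syl.pg.to_le C.scn.1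

theorem ne_bot (C : Ctx p P A) : A ≠ ⊥ := C.trans.1

theorem p_ne_two (C : Ctx p P A) : p ≠ 2 := ne_two_of_isPGroup C.hG C.pA C.ne_bot

theorem comm (C : Ctx p P A) : A ≤ centralizer (A : Set G) := scn_comm C.scn

theorem not_dvd (C : Ctx p P A) {q : ℕ} (hq : q.Prime) (hqp : q ≠ p) : ¬ q ∣ Nat.card A := by
  intro hd
  obtain ⟨n, hn⟩ := IsPGroup.iff_card.mp C.pA
  rw [hn] at hd
  exact hqp ((Nat.prime_dvd_prime_iff_eq hq hp.out).mp (hq.dvd_of_dvd_pow hd))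

theorem p_dvd (C : Ctx p P A) : p ∣ Nat.card A := by
  rcases C.pA.card_eq_or_dvd with h | h
  · exact absurd (Subgroup.card_eq_one.mp h) C.ne_bot
  · exact h

theorem htr (C : Ctx p P A) {q : ℕ} (hq : q.Prime) (hqp : q ≠ p) :
    ∀ Q₁ ∈ maxInvSubgroups ⊤ A {q}, ∀ Q₂ ∈ maxInvSubgroups ⊤ A {q},
      ∃ k ∈ piCoreOf (primesNotDvd (Nat.card A)) (centralizer (A : Set G)),
        Q₂ = Q₁.map (MulAut.conj k).toMonoidHom := by
  have hZ : ¬ RankLE 2 ↥(A ⊓ centralizer (A : Set G)) := by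
    rw [inf_of_le_left C.comm]
    exact fun h => C.rk (h p hp.out)
  exact Cfsg.Agent.S1393.result C.hG A C.trans hZ q hq (C.not_dvd hq hqp)

/-- the conclusions of BG 7.5 for `A ≤ T ≤ P` -/
theorem s1395 (C : Ctx p P A) {q : ℕ} (hq : q.Prime) (hqp : q ≠ p) {T : Subgroup G}
    (hAT : A ≤ T) (hTP : T ≤ P) :
    maxInvSubgroups ⊤ T {q} ⊆ maxInvSubgroups ⊤ A {q} ∧
      ∀ Q ∈ maxInvSubgroups ⊤ T {q}, normalizer (T : Set G) = Cfsg.Agent.S1395.KK A T ⊔
        (normalizer (T : Set G) ⊓ normalizer (Q : Set G)) := by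
  have key := Cfsg.Agent.S1395.result C.hG A C.trans q hq (C.not_dvd hq hqp) T
    (isPGroup_ne_top C.hG (C.syl.pg.to_le hTP))
    (by
      intro r hr hd
      obtain ⟨n, hn⟩ := IsPGroup.iff_card.mp (C.syl.pg.to_le hTP)
      rw [hn] at hd
      rw [(Nat.prime_dvd_prime_iff_eq hr hp.out).mp (hr.dvd_of_dvd_pow hd)]
      exact C.p_dvd)
    hAT
    (by
      have : (A.subgroupOf T).Normal :=
        (normal_subgroupOf_iff_le_normalizer hAT).mpr (hTP.trans C.scn.2.1)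
      exact this.isSubnormal)
    (C.htr hq hqp)
  exact ⟨key.2.2.1, fun Q hQ => (key.2.2.2 Q hQ).2⟩

theorem maxInv_sub (C : Ctx p P A) {q : ℕ} (hq : q.Prime) (hqp : q ≠ p) {T Q : Subgroup G}
    (hAT : A ≤ T) (hTP : T ≤ P) (hQ : Q ∈ maxInvSubgroups ⊤ P {q}) :
    Q ∈ maxInvSubgroups ⊤ T {q} := by
  have h1 : Q ∈ maxInvSubgroups ⊤ A {q} := (C.s1395 hq hqp C.scn.1 le_rfl).1 hQ
  refine ⟨⟨hQ.1.1, hQ.1.2.1, hTP.trans hQ.1.2.2⟩, ?_⟩
  intro R hR hQR
  exact h1.2 R ⟨hR.1, hR.2.1, hAT.trans hR.2.2⟩ hQR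

theorem normalizer_eq_sup (C : Ctx p P A) {q : ℕ} (hq : q.Prime) (hqp : q ≠ p) {T Q : Subgroup G}
    (hAT : A ≤ T) (hTP : T ≤ P) (hQ : Q ∈ maxInvSubgroups ⊤ P {q}) :
    normalizer (T : Set G) = Cfsg.Agent.S1395.KK A T ⊔
      (normalizer (T : Set G) ⊓ normalizer (Q : Set G)) :=
  (C.s1395 hq hqp hAT hTP).2 Q (C.maxInv_sub hq hqp hAT hTP hQ)

theorem coprime_KK (C : Ctx p P A) (T : Subgroup G) :
    (Nat.card P).Coprime (Nat.card (Cfsg.Agent.S1395.KK A T)) := by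
  obtain ⟨n, hn⟩ := IsPGroup.iff_card.mp C.syl.pg
  rw [hn]
  apply Nat.Coprime.pow_left
  rw [Nat.Prime.coprime_iff_not_dvd hp.out]
  intro hd
  exact (Cfsg.Agent.Lib.Helper22.piCoreOf_primes _ _ p hp.out hd).2 C.p_dvd

/-- **Key step**: `P ≤ N(Q)'` for every maximal `P`-invariant `q`-subgroup `Q`. -/
theorem le_commutator_normalizer (C : Ctx p P A) {q : ℕ} (hq : q.Prime) (hqp : q ≠ p)
    {Q : Subgroup G} (hQ : Q ∈ maxInvSubgroups ⊤ P {q}) :
    P ≤ ⁅normalizer (Q : Set G), normalizer (Q : Set G)⁆ := by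
  have hPne : P ≠ ⊥ := fun h => C.ne_bot (le_bot_iff.mp (h ▸ C.scn.1))
  set W := centerThompsonOf p P with hW
  set X := normalizer (W : Set G) with hX
  have hXne : X ≠ ⊤ := normalizer_ne_top C.hG (zj_ne_bot C.syl.pg hPne)
    (isPGroup_ne_top C.hG (C.syl.pg.to_le (zj_le P)))
  have hPX : P ≤ X := le_normalizer.trans (normalizer_le_normalizer_zj C.syl.pg)
  have h1 : P ≤ ⁅X, X⁆ := le_commutator_normalizer_zj C.hG C.p_ne_two C.syl.toSylow
  obtain ⟨T, hAT, hTP, hPT, hfac⟩ := exists_factor C.hG hXne (C.syl.mono hPX le_top) C.scn.1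
    C.comm C.scn.2.1
  have h2 : P ⊓ ⁅X, X⁆ ≤ ⁅X ⊓ normalizer (T : Set G), X ⊓ normalizer (T : Set G)⁆ := by
    apply inf_commutator_le (K := coreOf p X) (inf_le_left.trans (le_normalizer_coreOf p X))
    · intro x hx
      obtain ⟨n, hn, d, hd, rfl⟩ := hfac x hx
      exact mul_mem (mem_sup_right hn) (mem_sup_left hd)
    · exact le_inf hPX hPT
    · obtain ⟨n, hn⟩ := IsPGroup.iff_card.mp C.syl.pg
      rw [hn]
      exact (Nat.Coprime.pow_right n (card_coreOf_coprime p X)).symm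
  have h3 : P ≤ ⁅normalizer (T : Set G), normalizer (T : Set G)⁆ :=
    (le_inf le_rfl h1).trans (h2.trans (commutator_mono inf_le_right inf_le_right))
  have h4 : P ⊓ ⁅normalizer (T : Set G), normalizer (T : Set G)⁆ ≤
      ⁅normalizer (T : Set G) ⊓ normalizer (Q : Set G),
        normalizer (T : Set G) ⊓ normalizer (Q : Set G)⁆ := by
    apply inf_commutator_le (K := Cfsg.Agent.S1395.KK A T)
      (inf_le_left.trans (Cfsg.Agent.S1395.normalizer_le_normalizer_KK A T))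
    · exact (C.normalizer_eq_sup hq hqp hAT hTP hQ).le
    · exact le_inf hPT hQ.1.2.2
    · exact C.coprime_KK T
  exact (le_inf le_rfl h3).trans (h4.trans (commutator_mono inf_le_right inf_le_right))

end Ctx

end Cfsg.Agent.Lib.Helper10.BG95
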