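/-
Helper library (helper10): S1416 (BG 12.4) from `ExcNormal G` (BG 11.7) only; also the standing
hypotheses `UT`, `PL1`, `H1412`, `H1414`, `ExcThm` as consequences of landed rows.
-/
import Cfsg.Agent.Lib.Helper10.BG124
import Cfsg.Agent.Lib.Helper31.BG11c
import Cfsg.Agent.Lib.Helper49.BG11Abel
import Cfsg.Agent.Lib.Helper25.BG11
import Cfsg.Agent.S3769
import Cfsg.Agent.S1403
import Cfsg.Agent.S1410
import Cfsg.Agent.S1412
import Cfsg.Agent.S1414

set_option autoImplicit false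

namespace Cfsg.Agent.Lib.Helper10.BG124

open Subgroup Cfsg
open Cfsg.Agent.Lib
open Cfsg.Agent.Lib.Helper24 Cfsg.Agent.Lib.Helper34 Cfsg.Agent.Lib.Helper31.BG11

universe u

variable {G : Type u} [Group G] [Finite G]

theorem ut (hG : IsMinSimpleOddOrder G) : UT G :=
  fun K hK hK2 hK3 => Cfsg.Agent.S1403.result hG K hK hK2 hK3

theorem pl1 (hG : IsMinSimpleOddOrder G) : PL1 G :=
  fun p _ H hH => Cfsg.Agent.S1410.result hG p H hH

theorem h1412 (hG : IsMinSimpleOddOrder G) : H1412 G :=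
  fun p _ P hr => Cfsg.Agent.S1412.result hG p P hr

theorem h1414 (hG : IsMinSimpleOddOrder G) : H1414 G :=
  fun M hM p hp hd hb => ((Cfsg.Agent.S1414.result hG M hM).2.2.2.2 p hp hd hb).2.1

theorem excThm_of_excNormal (hG : IsMinSimpleOddOrder G) (hn : ExcNormal G) : ExcThm G :=
  ExcThm.of (excThm' hG (ut hG) (pl1 hG)
    (Cfsg.Agent.Lib.Helper49.BG11.excAbel hG (ut hG) (pl1 hG) (h1412 hG))) hn

theorem h3769 : H3769.{u} :=
  fun G hsolv hodd V _ hℓ hV hℓG hGV K R hKG hKn hHall hRG hR hKR hKRG hCV =>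
    Cfsg.Agent.S3769.result G hsolv hodd V hℓ hV hℓG hGV K R hKG hKn hHall hRG hR hKR hKRG hCV

theorem excThm'_all (hG : IsMinSimpleOddOrder G) : ExcThm' G :=
  excThm' hG (ut hG) (pl1 hG) (Cfsg.Agent.Lib.Helper49.BG11.excAbel hG (ut hG) (pl1 hG) (h1412 hG))

theorem excNormal_all (hG : IsMinSimpleOddOrder G) : ExcNormal G :=
  Cfsg.Agent.Lib.Helper25.BG11.excNormal hG (ut hG) (pl1 hG) (h1414 hG) h3769 (excThm'_all hG)

/-- BG Section 11, unconditionally. -/
theorem excThm_all (hG : IsMinSimpleOddOrder G) : ExcThm G :=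
  ExcThm.of (excThm'_all hG) (excNormal_all hG)

/-- S1416 from BG 11.7. -/
theorem s1416_of_excNormal (hG : IsMinSimpleOddOrder G) (hn : ExcNormal G)
    (M : Subgroup G) (hM : IsCoatom M) (p : ℕ) [Fact p.Prime] (A : Subgroup G)
    (hA : (A ≤ M ∧ Cfsg.IsElementaryAbelian p A ∧ Nat.card A = p ^ 2)) :
    Subgroup.centralizer (A : Set G) ≤ M ∧
      ((∀ A₀ : Subgroup G, A₀ ≤ A → Nat.card A₀ = p →
          ¬ (Subgroup.normalizer (A₀ : Set G) ≤ M ∧ ∀ L : Subgroup G, IsCoatom L →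
            Subgroup.normalizer (A₀ : Set G) ≤ L → L = M)) →
        p ∈ Cfsg.sigma M ∧ Cfsg.alphaCore M = ⊥ ∧ Group.IsNilpotent (Cfsg.sigmaCore M)) :=
  p2Elem_mmax hG (ut hG) (pl1 hG) (h1414 hG) (excThm_of_excNormal hG hn) M hM p A hA

end Cfsg.Agent.Lib.Helper10.BG124
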