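/-
Helper library (helper10): Bender–Glauberman Theorem 14.7, part 1.
The structure `KP M K` records the content of BG Proposition 14.2 (rows S1430, S1431, S1351)
for a maximal subgroup `M` with a nontrivial Hall `κ(M)`-subgroup `K`.  From it: the set
`Ẑ = K K* - (K ∪ K*)` is a TI-set with normalizer `K K*`.
-/
import Cfsg.Agent.Lib.Helper10.BG124b
import Cfsg.Agent.Lib.Helper34.BG16b

set_option autoImplicit false
set_option linter.unusedSimpArgs false
set_option linter.unusedVariables false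
set_option linter.style.haveILetI false
set_option linter.unusedSectionVars false

namespace Cfsg.Agent.Lib.Helper10.BG147

open Subgroup Cfsg
open Cfsg.Agent.Lib
open Cfsg.Agent.Lib.Helper24 Cfsg.Agent.Lib.Helper34 Cfsg.Agent.Lib.Helper31.BG11

universe u

variable {G : Type u} [Group G]

/-- `K* = C_{M_σ}(K)`. -/
abbrev ks (M K : Subgroup G) : Subgroup G := sigmaCore M ⊓ centralizer (K : Set G)

/-- `Z = K K*`. -/
abbrev zz (M K : Subgroup G) : Subgroup G := K ⊔ ks M K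

/-- `Ẑ = Z - (K ∪ K*)`. -/
abbrev zhat (M K : Subgroup G) : Set G :=
  (↑(zz M K) : Set G) \ ((K : Set G) ∪ ↑(ks M K))

/-- The content of BG Proposition 14.2. -/
structure KP (M K : Subgroup G) : Prop where
  coatom : IsCoatom M
  hall : IsPiHallOf (kappa M) K M
  ne : K ≠ ⊥
  act : ∀ k ∈ K, k ≠ 1 → sigmaCore M ⊓ centralizer ({k} : Set G) = ks M K
  exU : ∃ U : Subgroup G, IsMulCommutative U ∧
    IsPiHallOf {q | q.Prime ∧ q ∉ kappa M ∧ q ∉ sigma M} U M ∧
    K ≤ normalizer (U : Set G) ∧ ∀ k ∈ K, k ≠ 1 → U ⊓ centralizer ({k} : Set G) = ⊥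
  nX : ∀ X : Subgroup G, X ≤ K → (Nat.card X).Prime → M ⊓ normalizer (X : Set G) = zz M K
  nK : M ⊓ normalizer (K : Set G) = zz M K
  sX : ∀ X : Subgroup G, X ≤ K → (Nat.card X).Prime → ∀ L : Subgroup G, IsCoatom L →
    normalizer (X : Set G) ≤ L → X ≤ sigmaCore L
  ti1 : ∀ g : G, g ∉ M → ks M K ⊓ cj g M = ⊥
  ti2 : ∀ g ∈ M, g ∉ zz M K → K ⊓ cj g K = ⊥
  syl : ∀ p : ℕ, p.Prime → p ∣ Nat.card (ks M K) → ∀ S : Sylow p ↥(sigmaCore M),
    InUniqueMaximal ((S : Subgroup ↥(sigmaCore M)).map (sigmaCore M).subtype) ∧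
    (S : Subgroup ↥(sigmaCore M)).map (sigmaCore M).subtype ≤ M ∧
    ¬ (S : Subgroup ↥(sigmaCore M)).map (sigmaCore M).subtype ≤ ks M K
  sub : ∀ Y : Subgroup G, (∀ p : ℕ, p.Prime → p ∣ Nat.card Y → p ∈ sigma M) →
    Y ⊓ ks M K ≠ ⊥ → Y ≤ sigmaCore M

namespace KP

variable [Finite G] {M K : Subgroup G}

theorem K_le (h : KP M K) : K ≤ M := h.hall.1

theorem ks_le_sc (M K : Subgroup G) : ks M K ≤ sigmaCore M := inf_le_left

theorem ks_le (M K : Subgroup G) : ks M K ≤ M := inf_le_left.trans (sc_le M)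

theorem zz_le (h : KP M K) : zz M K ≤ M := sup_le h.K_le (ks_le M K)

theorem comm (M K : Subgroup G) : ∀ a ∈ K, ∀ b ∈ ks M K, a * b = b * a := by
  intro a ha b hb
  exact mem_centralizer_iff.mp hb.2 a ha

theorem coprime (h : KP M K) : (Nat.card K).Coprime (Nat.card (ks M K)) := by
  apply Nat.Coprime.symm
  apply Nat.coprime_of_dvd
  intro p hp hpk hpK
  have h1 : p ∈ sigma M := sc_primes M hp (hpk.trans (card_dvd_of_le (ks_le_sc M K)))
  exact (h.hall.2.1 p hp hpK).2.2.1 h1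

theorem exists_prime_le (h : KP M K) : ∃ X : Subgroup G, X ≤ K ∧ (Nat.card X).Prime := by
  have h1 : Nat.card K ≠ 1 := fun hc => h.ne (card_eq_one.mp hc)
  obtain ⟨p, hp, hd⟩ := Nat.exists_prime_and_dvd h1
  haveI : Fact p.Prime := ⟨hp⟩
  obtain ⟨x, hx⟩ := exists_prime_orderOf_dvd_card' (G := K) p hd
  refine ⟨zpowers (x : G), ?_, ?_⟩
  · rw [zpowers_le]; exact x.2
  · rw [Nat.card_zpowers, Subgroup.orderOf_coe, hx]; exact hp

/-- For `k ∈ K - 1`, `C_M(k) ≤ Z`. -/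
theorem cent_le (h : KP M K) {k : G} (hk : k ∈ K) (hk1 : k ≠ 1) :
    M ⊓ centralizer ({k} : Set G) ≤ zz M K := by
  have h1 : orderOf k ≠ 1 := fun hc => hk1 (orderOf_eq_one_iff.mp hc)
  obtain ⟨p, hp, hd⟩ := Nat.exists_prime_and_dvd h1
  obtain ⟨m, hm⟩ := hd
  have hpos : 0 < orderOf k := orderOf_pos k
  have hm0 : m ≠ 0 := by
    rintro rfl
    rw [mul_zero] at hm
    omega
  have ho : orderOf (k ^ m) = p := by
    rw [orderOf_pow' k hm0, hm, Nat.gcd_eq_right (Dvd.intro_left p rfl)]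
    exact Nat.mul_div_cancel _ (Nat.pos_of_ne_zero hm0)
  have hX : zpowers (k ^ m) ≤ K := by rw [zpowers_le]; exact K.pow_mem hk m
  rw [← h.nX (zpowers (k ^ m)) hX (by rw [Nat.card_zpowers, ho]; exact hp)]
  refine inf_le_inf_left _ ?_
  refine le_trans ?_ (centralizer_le_normalizer _)
  intro c hc
  rw [mem_centralizer_iff]
  intro y hy
  obtain ⟨i, rfl⟩ := mem_zpowers_iff.mp hy
  have hck : Commute k c := by
    have := mem_centralizer_singleton_iff.mp hc
    exact this.symm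
  exact ((hck.pow_left m).zpow_left i)

theorem ks_ne_bot (hG : IsMinSimpleOddOrder G) (h : KP M K) : ks M K ≠ ⊥ := by
  obtain ⟨X, hXK, hX⟩ := h.exists_prime_le
  set p := Nat.card X with hp
  haveI : Fact p.Prime := ⟨hX⟩
  have hpK : p ∣ Nat.card K := card_dvd_of_le hXK
  have hκ : p ∈ kappa M := h.hall.2.1 p hX hpK
  -- a Sylow `p`-subgroup of `M` contained in `K`
  obtain ⟨P₀⟩ : Nonempty (Sylow p ↥(K.subgroupOf M)) := inferInstance
  obtain ⟨P, hP⟩ := (P₀.2.map (K.subgroupOf M).subtype).exists_le_sylow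
  obtain ⟨hcyc, x, hxP, hx1, y, hy, hy1, hxy⟩ := hκ.2.2.2 P
  -- `P₀` is already Sylow in `M`
  have hPeq : (P₀ : Subgroup ↥(K.subgroupOf M)).map (K.subgroupOf M).subtype = P := by
    apply eq_of_le_of_card_ge hP
    have h1 : Nat.card ((P₀ : Subgroup ↥(K.subgroupOf M)).map (K.subgroupOf M).subtype) =
        Nat.card (P₀ : Subgroup ↥(K.subgroupOf M)) :=
      card_map_of_injective (subtype_injective _)
    rw [h1, P₀.card_eq_multiplicity, P.card_eq_multiplicity]
    apply Nat.pow_le_pow_right hX.pos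
    have h2 : Nat.card M = Nat.card (K.subgroupOf M) * (K.subgroupOf M).index :=
      (card_mul_index _).symm
    rw [h2, Nat.factorization_mul (Nat.card_pos.ne') (index_ne_zero_of_finite)]
    have h3 : ((K.subgroupOf M).index).factorization p = 0 := by
      apply Nat.factorization_eq_zero_of_not_dvd
      exact h.hall.2.2 p hX hκ
    simp [h3]
  have hxK : (x : G) ∈ K := by
    rw [← hPeq] at hxP
    obtain ⟨w, hw, rfl⟩ := mem_map.mp hxP
    exact mem_subgroupOf.mp w.2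
  have hx1' : (x : G) ≠ 1 := fun hc => hx1 (Subtype.ext hc)
  intro hbot
  have : y ∈ sigmaCore M ⊓ centralizer ({(x : G)} : Set G) :=
    mem_inf.mpr ⟨hy, mem_centralizer_singleton_iff.mpr hxy.symm⟩
  rw [h.act _ hxK hx1', hbot, mem_bot] at this
  exact hy1 this

/-- decomposition of the elements of `Ẑ`. -/
theorem zhat_decomp (h : KP M K) {z : G} (hz : z ∈ zhat M K) :
    ∃ x ∈ K, ∃ y ∈ ks M K, x ≠ 1 ∧ y ≠ 1 ∧ z = x * y ∧ x * y = y * x := by
  obtain ⟨x, hx, y, hy, rfl⟩ := exists_mul_of_mem_sup_of_commute (comm M K) hz.1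
  refine ⟨x, hx, y, hy, ?_, ?_, rfl, comm M K x hx y hy⟩
  · rintro rfl
    exact hz.2 (Or.inr (by simpa using hy))
  · rintro rfl
    exact hz.2 (Or.inl (by simpa using hx))

theorem mem_zhat (h : KP M K) {x y : G} (hx : x ∈ K) (hy : y ∈ ks M K) (hx1 : x ≠ 1)
    (hy1 : y ≠ 1) : x * y ∈ zhat M K := by
  have hdisj : K ⊓ ks M K = ⊥ := (disjoint_of_coprime_natCard h.coprime).eq_bot
  refine ⟨mul_mem (mem_sup_left hx) (mem_sup_right hy), ?_⟩
  rintro (hc | hc)
  · have : y ∈ K := by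
      have := K.mul_mem (K.inv_mem hx) hc
      simpa using this
    exact hy1 ((mem_bot).mp (hdisj ▸ mem_inf.mpr ⟨this, hy⟩))
  · have : x ∈ ks M K := by
      have := (ks M K).mul_mem hc ((ks M K).inv_mem hy)
      simpa using this
    exact hx1 ((mem_bot).mp (hdisj ▸ mem_inf.mpr ⟨hx, this⟩))

theorem pow_ne_one_of_coprime {A : Subgroup G} {a : G} (ha : a ∈ A) (ha1 : a ≠ 1) {n : ℕ}
    (hn : (Nat.card A).Coprime n) : a ^ n ≠ 1 := by
  intro hc
  have h1 : orderOf a ∣ n := orderOf_dvd_of_pow_eq_one hc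
  have h2 : orderOf a ∣ Nat.card A := by
    have := orderOf_dvd_natCard (⟨a, ha⟩ : A)
    rwa [Subgroup.orderOf_mk] at this
  have h3 : orderOf a = 1 := Nat.eq_one_of_dvd_coprimes hn h2 h1
  exact ha1 (orderOf_eq_one_iff.mp h3)

theorem pow_card_eq_one_of_mem {A : Subgroup G} {a : G} (ha : a ∈ A) : a ^ Nat.card A = 1 := by
  have := _root_.pow_card_eq_one' (G := A) (x := ⟨a, ha⟩)
  exact congrArg Subtype.val this

/-- the key fusion statement: `z, g z g⁻¹ ∈ Ẑ` forces `g ∈ Z`. -/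
theorem mem_zz_of_conj (h : KP M K) {z g : G} (hz : z ∈ zhat M K)
    (hgz : g * z * g⁻¹ ∈ zhat M K) : g ∈ zz M K := by
  obtain ⟨x, hx, y, hy, hx1, hy1, rfl, hxy⟩ := h.zhat_decomp hz
  obtain ⟨x', hx', y', hy', hx1', hy1', he, hxy'⟩ := h.zhat_decomp hgz
  have hc : Commute x y := hxy
  have hc' : Commute x' y' := hxy'
  -- `σ`-parts
  have e1 : g * y ^ Nat.card K * g⁻¹ = y' ^ Nat.card K := by
    have h1 : (g * (x * y) * g⁻¹) ^ Nat.card K = g * y ^ Nat.card K * g⁻¹ := by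
      rw [conj_pow, hc.mul_pow, pow_card_eq_one_of_mem hx, one_mul]
    rw [← h1, he, hc'.mul_pow, pow_card_eq_one_of_mem hx', one_mul]
  have e2 : g * x ^ Nat.card (ks M K) * g⁻¹ = x' ^ Nat.card (ks M K) := by
    have h1 : (g * (x * y) * g⁻¹) ^ Nat.card (ks M K) = g * x ^ Nat.card (ks M K) * g⁻¹ := by
      rw [conj_pow, hc.mul_pow, pow_card_eq_one_of_mem hy, mul_one]
    rw [← h1, he, hc'.mul_pow, pow_card_eq_one_of_mem hy', mul_one]
  have hgM : g ∈ M := by
    by_contra hg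
    have h1 := h.ti1 g hg
    have h2 : y' ^ Nat.card K ∈ ks M K ⊓ cj g M := by
      refine mem_inf.mpr ⟨(ks M K).pow_mem hy' _, ?_⟩
      rw [← e1]
      exact conj_mem_map_conj (M.pow_mem (ks_le M K hy) _)
    rw [h1, mem_bot] at h2
    exact pow_ne_one_of_coprime hy' hy1' h.coprime.symm h2
  by_contra hg
  have h1 := h.ti2 g hgM hg
  have h2 : x' ^ Nat.card (ks M K) ∈ K ⊓ cj g K := by
    refine mem_inf.mpr ⟨K.pow_mem hx' _, ?_⟩
    rw [← e2]
    exact conj_mem_map_conj (K.pow_mem hx _)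
  rw [h1, mem_bot] at h2
  exact pow_ne_one_of_coprime hx' hx1' h.coprime h2

theorem zhat_nonempty (hG : IsMinSimpleOddOrder G) (h : KP M K) : (zhat M K).Nonempty := by
  obtain ⟨x, hx, hx1⟩ := (bot_or_exists_ne_one K).resolve_left h.ne
  obtain ⟨y, hy, hy1⟩ := (bot_or_exists_ne_one _).resolve_left (h.ks_ne_bot hG)
  exact ⟨x * y, h.mem_zhat hx hy hx1 hy1⟩

theorem zz_le_normalizer_K (M K : Subgroup G) : zz M K ≤ normalizer (K : Set G) :=
  sup_le le_normalizer (inf_le_right.trans (centralizer_le_normalizer _))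

theorem zz_le_normalizer_ks (M K : Subgroup G) : zz M K ≤ normalizer (ks M K : Set G) := by
  refine sup_le ?_ le_normalizer
  refine le_trans ?_ (centralizer_le_normalizer _)
  intro a ha
  rw [mem_centralizer_iff]
  intro b hb
  exact (comm M K a ha b hb).symm

theorem zz_le_normalizer_zhat (h : KP M K) : zz M K ≤ normalizer (zhat M K) := by
  have key : ∀ g ∈ zz M K, ∀ z ∈ zhat M K, g * z * g⁻¹ ∈ zhat M K := by
    intro g hg z hz
    refine ⟨mul_mem (mul_mem hg hz.1) (inv_mem hg), ?_⟩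
    rintro (hc | hc)
    · exact hz.2 (Or.inl ((mem_normalizer_iff.mp (zz_le_normalizer_K M K hg) z).mpr hc))
    · exact hz.2 (Or.inr ((mem_normalizer_iff.mp (zz_le_normalizer_ks M K hg) z).mpr hc))
  intro g hg
  rw [mem_set_normalizer_iff]
  intro z
  refine ⟨key g hg z, fun hz => ?_⟩
  have := key g⁻¹ (inv_mem hg) _ hz
  have e : g⁻¹ * (g * z * g⁻¹) * g⁻¹⁻¹ = z := by group
  rwa [e] at this

theorem normalizer_zhat (hG : IsMinSimpleOddOrder G) (h : KP M K) :
    normalizer (zhat M K) = zz M K := by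
  apply le_antisymm _ h.zz_le_normalizer_zhat
  intro g hg
  obtain ⟨z, hz⟩ := h.zhat_nonempty hG
  exact h.mem_zz_of_conj hz ((mem_set_normalizer_iff.mp hg z).mp hz)

theorem zhat_TI (h : KP M K) : IsTISubset (zhat M K) := by
  intro g hg z hz hgz
  exact absurd (h.zz_le_normalizer_zhat (h.mem_zz_of_conj hz hgz)) hg

end KP

end Cfsg.Agent.Lib.Helper10.BG147
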