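/-
Helper library (helper10): `KP M K` from the rows S1430, S1431 (BG Proposition 14.2).
-/
import Cfsg.Agent.Lib.Helper10.BG147a
import Cfsg.Agent.S1430
import Cfsg.Agent.S1431

set_option autoImplicit false
set_option linter.style.haveILetI false

namespace Cfsg.Agent.Lib.Helper10.BG147

open Subgroup Cfsg
open Cfsg.Agent.Lib
open Cfsg.Agent.Lib.Helper24 Cfsg.Agent.Lib.Helper34 Cfsg.Agent.Lib.Helper31.BG11

universe u

variable {G : Type u} [Group G] [Finite G]

theorem kp (hG : IsMinSimpleOddOrder G) {M K : Subgroup G} (hM : IsCoatom M)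
    (hK : IsPiHallOf (kappa M) K M) (hK1 : K ≠ ⊥) : KP M K := by
  obtain ⟨h1, h2, h3⟩ := Cfsg.Agent.S1430.result hG M hM K hK hK1
  obtain ⟨h4, h5, h6, h7⟩ := Cfsg.Agent.S1431.result hG M hM K hK hK1
  have hex : ∃ X : Subgroup G, X ≤ K ∧ (Nat.card X).Prime := by
    have h1 : Nat.card K ≠ 1 := fun hc => hK1 (card_eq_one.mp hc)
    obtain ⟨p, hp, hd⟩ := Nat.exists_prime_and_dvd h1
    haveI : Fact p.Prime := ⟨hp⟩
    obtain ⟨x, hx⟩ := exists_prime_orderOf_dvd_card' (G := K) p hd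
    refine ⟨zpowers (x : G), ?_, ?_⟩
    · rw [zpowers_le]; exact x.2
    · rw [Nat.card_zpowers, Subgroup.orderOf_coe, hx]; exact hp
  obtain ⟨X₀, hX₀, hX₀p⟩ := hex
  exact
    { coatom := hM
      hall := hK
      ne := hK1
      act := h1
      exU := h2
      nX := fun X hX hp => (h3 X hX hp).1
      nK := (h3 X₀ hX₀ hX₀p).2.1
      sX := fun X hX hp => (h3 X hX hp).2.2
      ti1 := h4
      ti2 := h5
      syl := h6
      sub := h7 }

theorem kp_of_decomp (hG : IsMinSimpleOddOrder G) {M K U : Subgroup G} (hM : IsCoatom M)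
    (hKU : IsSigmaDecomposition M K U) (hK1 : K ≠ ⊥) : KP M K :=
  kp hG hM hKU.hall hK1

end Cfsg.Agent.Lib.Helper10.BG147
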