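/-
Helper library (helper10): Bender–Glauberman Theorem 14.7, part 2:
Hall-subgroup tools, the normal subgroup `U M_σ`, and `A₀(M) - A(M) = ⋃ Ẑ^m` (row S1371).
-/
import Cfsg.Agent.Lib.Helper10.BG147a
import Cfsg.Agent.Lib.Helper62.HallCoprime

set_option autoImplicit false
set_option linter.unusedSimpArgs false
set_option linter.unusedVariables false
set_option linter.style.haveILetI false
set_option linter.unusedSectionVars false

namespace Cfsg.Agent.Lib.Helper10.BG147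

open Subgroup Cfsg
open Cfsg.Agent.Lib
open Cfsg.Agent.Lib.Helper24 Cfsg.Agent.Lib.Helper34 Cfsg.Agent.Lib.Helper31.BG11
open Cfsg.Agent.Lib.Helper34.BG13 Cfsg.Agent.Lib.Helper34.BG16

universe u

variable {G : Type u} [Group G] [Finite G]

/-! ### Hall subgroups of solvable subgroups -/

theorem hall_superset (π : Set ℕ) {H U : Subgroup G} (hs : Group.IsSolvable H) (hU : U ≤ H)
    (hUπ : ∀ p : ℕ, p.Prime → p ∣ Nat.card U → p ∈ π) : ∃ K, IsPiHallOf π K H ∧ U ≤ K := by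
  obtain ⟨K, hK, -, hUK⟩ := Helper62.invariant_le_invariant_hall_aux π _ G ⊥ H U rfl bot_le
    (by simp) hs hU bot_le hUπ
  exact ⟨K, hK, hUK⟩

theorem hall_conj {π : Set ℕ} {H K K' : Subgroup G} (hs : Group.IsSolvable H)
    (hK : IsPiHallOf π K H) (hK' : IsPiHallOf π K' H) : ∃ g ∈ H, cj g K = K' := by
  obtain ⟨g, hg, h⟩ := Helper62.IsPiHallOf.exists_conj hs hK hK'
  exact ⟨g, hg, h⟩

theorem exists_cj_le_hall {π : Set ℕ} {H K U : Subgroup G} (hs : Group.IsSolvable H)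
    (hK : IsPiHallOf π K H) (hU : U ≤ H)
    (hUπ : ∀ p : ℕ, p.Prime → p ∣ Nat.card U → p ∈ π) : ∃ g ∈ H, cj g U ≤ K := by
  obtain ⟨K', hK', hUK'⟩ := hall_superset π hs hU hUπ
  obtain ⟨g, hg, h⟩ := hall_conj hs hK' hK
  exact ⟨g, hg, h ▸ cj_mono g hUK'⟩

/-! ### The normal subgroup `U M_σ` -/

section decomp

variable {M K U : Subgroup G}

theorem decomp_normal (hKU : IsSigmaDecomposition M K U) :
    M ≤ normalizer ((U ⊔ sigmaCore M : Subgroup G) : Set G) := by
  intro m hm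
  obtain ⟨a, ha, b, hb, rfl⟩ := hKU.compl.2.2.2 m hm
  refine mul_mem (le_normalizer (mem_sup_left ha)) ?_
  have h1 : K ⊔ sigmaCore M ≤ normalizer ((U ⊔ sigmaCore M : Subgroup G) : Set G) := by
    refine sup_le ?_ (le_trans (le_sup_right : sigmaCore M ≤ U ⊔ sigmaCore M) le_normalizer)
    refine le_trans (le_inf hKU.normal (hKU.hall.1.trans (sc_norm M))) ?_
    exact normalizer_inf_normalizer_le_normalizer_sup U (sigmaCore M)
  exact h1 hb

theorem decomp_relIndex_dvd (hKU : IsSigmaDecomposition M K U) :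
    (U ⊔ sigmaCore M : Subgroup G).relIndex M ∣ Nat.card K := by
  have hUn : U ≤ normalizer (sigmaCore M : Set G) := hKU.compl.1.trans (sc_norm M)
  have hKn : K ≤ normalizer (sigmaCore M : Set G) := hKU.hall.1.trans (sc_norm M)
  have hd : Disjoint U (sigmaCore M) := by
    rw [disjoint_iff]
    exact le_bot_iff.mp (hKU.compl.2.2.1 ▸ inf_le_inf_left U le_sup_right)
  have h1 : Nat.card (U ⊔ sigmaCore M : Subgroup G) = Nat.card U * Nat.card (sigmaCore M) :=
    Helper1.card_sup_of_disjoint hUn hd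
  have h2 := Helper23.complIn_card_mul hKU.compl
  have h3 : Nat.card (K ⊔ sigmaCore M : Subgroup G) ∣ Nat.card K * Nat.card (sigmaCore M) :=
    Helper1.card_sup_dvd hKn
  have h4 := Helper23.card_mul_relIndex (decomp_sup_le hKU)
  have h5 : Nat.card (U ⊔ sigmaCore M : Subgroup G) * (U ⊔ sigmaCore M : Subgroup G).relIndex M ∣
      Nat.card (U ⊔ sigmaCore M : Subgroup G) * Nat.card K := by
    rw [h4, ← h2, h1]
    have : Nat.card U * Nat.card (sigmaCore M) * Nat.card K =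
        Nat.card U * (Nat.card K * Nat.card (sigmaCore M)) := by ring
    rw [this]
    exact Nat.mul_dvd_mul_left _ h3
  exact Nat.dvd_of_mul_dvd_mul_left Nat.card_pos h5

theorem decomp_coprime (hKU : IsSigmaDecomposition M K U) :
    (Nat.card (U ⊔ sigmaCore M : Subgroup G)).Coprime (Nat.card K) := by
  apply Nat.coprime_of_dvd
  intro p hp h1 h2
  exact kappa_not_dvd_card hKU (hKU.hall.2.1 p hp h2) h1

end decomp

namespace KP

variable {M K U : Subgroup G}

/-- every element of `M` outside `U M_σ` is `M`-conjugate to an element of `Z - K*`. -/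
theorem exists_conj_mem_zz (hG : IsMinSimpleOddOrder G) (h : KP M K)
    (hKU : IsSigmaDecomposition M K U) {a : G} (ha : a ∈ M) (haN : a ∉ U ⊔ sigmaCore M) :
    ∃ m ∈ M, m * a * m⁻¹ ∈ zz M K := by
  set N : Subgroup G := U ⊔ sigmaCore M with hN
  have hNM : N ≤ M := decomp_sup_le hKU
  have hn : M ≤ normalizer (N : Set G) := decomp_normal hKU
  have hcop : (Nat.card N).Coprime (Nat.card K) := decomp_coprime hKU
  have haK : a ^ Nat.card K ∈ N := by
    obtain ⟨c, hc⟩ := decomp_relIndex_dvd hKU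
    rw [hc, pow_mul]
    exact N.pow_mem (pow_relIndex_mem hNM hn ha) c
  set b := a ^ Nat.card N with hb
  have hb1 : b ≠ 1 := by
    intro hc
    have h1 : a ^ Nat.card N ∈ N := by rw [← hb, hc]; exact N.one_mem
    exact haN (BG16.mem_of_pow_mem_of_coprime hcop h1 haK)
  have hbK : b ^ Nat.card K = 1 := by
    rw [hb, ← pow_mul, mul_comm, pow_mul]
    exact pow_card_eq_one_of_mem haK
  have hbM : b ∈ M := M.pow_mem ha _
  have hsolv : Group.IsSolvable M := MS_solvable hG h.coatom.1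
  obtain ⟨m, hm, hmb⟩ := exists_cj_le_hall (U := zpowers b) hsolv h.hall
    (by rw [zpowers_le]; exact hbM) (by
      intro p hp hd
      rw [Nat.card_zpowers] at hd
      exact h.hall.2.1 p hp (hd.trans (orderOf_dvd_of_pow_eq_one hbK)))
  refine ⟨m, hm, ?_⟩
  have hk : m * b * m⁻¹ ∈ K := hmb (conj_mem_map_conj (mem_zpowers b))
  have hk1 : m * b * m⁻¹ ≠ 1 := by
    intro hc
    apply hb1
    have : b = m⁻¹ * (m * b * m⁻¹) * m := by group
    rw [this, hc]; group
  apply h.cent_le hk hk1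
  refine mem_inf.mpr ⟨mul_mem (mul_mem hm ha) (inv_mem hm), ?_⟩
  rw [mem_centralizer_singleton_iff]
  have hab : a * b = b * a := by
    rw [hb, ← pow_succ', ← pow_succ]
  calc m * a * m⁻¹ * (m * b * m⁻¹) = m * (a * b) * m⁻¹ := by group
    _ = m * (b * a) * m⁻¹ := by rw [hab]
    _ = m * b * m⁻¹ * (m * a * m⁻¹) := by group

theorem conj_zhat_eq (hG : IsMinSimpleOddOrder G) (h : KP M K)
    (hKU : IsSigmaDecomposition M K U) :
    {a : G | ∃ m ∈ M, ∃ z ∈ zhat M K, a = m * z * m⁻¹} = sigmaA0 M K \ sigmaA M U := by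
  have hn : M ≤ normalizer ((U ⊔ sigmaCore M : Subgroup G) : Set G) := decomp_normal hKU
  ext a
  constructor
  · rintro ⟨m, hm, z, hz, rfl⟩
    obtain ⟨x, hx, y, hy, hx1, hy1, rfl, hxy⟩ := h.zhat_decomp hz
    have hc : Commute x y := hxy
    have hzM : x * y ∈ M := mul_mem (h.K_le hx) (ks_le M K hy)
    refine ⟨⟨⟨mul_mem (mul_mem hm hzM) (inv_mem hm), m * y * m⁻¹,
      le_normalizer_iff.mp (sc_norm M) m hm y hy.1, ?_, ?_⟩, ?_⟩, ?_⟩
    · intro hc'
      apply hy1
      have : y = m⁻¹ * (m * y * m⁻¹) * m := by group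
      rw [this, hc']; group
    · calc m * (x * y) * m⁻¹ * (m * y * m⁻¹) = m * ((x * y) * y) * m⁻¹ := by group
        _ = m * (y * (x * y)) * m⁻¹ := by rw [hxy, mul_assoc y x y, hxy]
        _ = m * y * m⁻¹ * (m * (x * y) * m⁻¹) := by group
    · rintro ⟨k, hk, hk1, m', hm', he⟩
      have h1 : (m * (x * y) * m⁻¹) ^ Nat.card K = 1 := by
        rw [he, conj_pow, pow_card_eq_one_of_mem hk]; group
      rw [conj_pow, hc.mul_pow, pow_card_eq_one_of_mem hx, one_mul] at h1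
      have h2 : y ^ Nat.card K = 1 := by
        have : y ^ Nat.card K = m⁻¹ * (m * y ^ Nat.card K * m⁻¹) * m := by group
        rw [this, h1]; group
      exact pow_ne_one_of_coprime hy hy1 h.coprime.symm h2
    · rintro ⟨-, hN⟩
      have h1 : x * y ∈ U ⊔ sigmaCore M := by
        have := le_normalizer_iff.mp hn m⁻¹ (inv_mem hm) _ hN
        have e : m⁻¹ * (m * (x * y) * m⁻¹) * m⁻¹⁻¹ = x * y := by group
        rwa [e] at this
      have h2 : x ∈ U ⊔ sigmaCore M := by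
        have := mul_mem h1 (inv_mem (mem_sup_right hy.1 : y ∈ U ⊔ sigmaCore M))
        simpa using this
      have h3 : x ^ Nat.card (U ⊔ sigmaCore M : Subgroup G) = 1 := pow_card_eq_one_of_mem h2
      exact pow_ne_one_of_coprime hx hx1 (decomp_coprime hKU).symm h3
  · rintro ⟨⟨⟨haM, hhat⟩, hnK⟩, hnA⟩
    have haN : a ∉ U ⊔ sigmaCore M := fun hc => hnA ⟨⟨haM, hhat⟩, hc⟩
    obtain ⟨m, hm, hmz⟩ := h.exists_conj_mem_zz hG hKU haM haN
    refine ⟨m⁻¹, inv_mem hm, m * a * m⁻¹, ⟨hmz, ?_⟩, by group⟩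
    rintro (hc | hc)
    · apply hnK
      refine ⟨m * a * m⁻¹, hc, ?_, m⁻¹, inv_mem hm, by group⟩
      intro h1
      apply haN
      have : a = m⁻¹ * (m * a * m⁻¹) * m := by group
      rw [this, h1]
      simp
    · apply haN
      have h1 : m * a * m⁻¹ ∈ U ⊔ sigmaCore M := mem_sup_right hc.1
      have := le_normalizer_iff.mp hn m⁻¹ (inv_mem hm) _ h1
      have e : m⁻¹ * (m * a * m⁻¹) * m⁻¹⁻¹ = a := by group
      rwa [e] at this

theorem conj_zhat_TI (h : KP M K) :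
    IsTISubset {a : G | ∃ m ∈ M, ∃ z ∈ zhat M K, a = m * z * m⁻¹} := by
  intro g hg a ha hga
  exfalso
  apply hg
  obtain ⟨m, hm, z, hz, rfl⟩ := ha
  obtain ⟨m', hm', z', hz', he⟩ := hga
  have h1 : (m'⁻¹ * g * m) * z * (m'⁻¹ * g * m)⁻¹ ∈ zhat M K := by
    have : (m'⁻¹ * g * m) * z * (m'⁻¹ * g * m)⁻¹ = m'⁻¹ * (g * (m * z * m⁻¹) * g⁻¹) * m' := by
      group
    rw [this, he]
    have e : m'⁻¹ * (m' * z' * m'⁻¹) * m' = z' := by group
    rw [e]; exact hz'
  have h2 : m'⁻¹ * g * m ∈ M := h.zz_le (h.mem_zz_of_conj hz h1)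
  have hgM : g ∈ M := by
    have := mul_mem (mul_mem hm' h2) (inv_mem hm)
    have e : m' * (m'⁻¹ * g * m) * m⁻¹ = g := by group
    rwa [e] at this
  have key : ∀ g ∈ M, ∀ a ∈ {a : G | ∃ m ∈ M, ∃ z ∈ zhat M K, a = m * z * m⁻¹},
      g * a * g⁻¹ ∈ {a : G | ∃ m ∈ M, ∃ z ∈ zhat M K, a = m * z * m⁻¹} := by
    rintro g hg a ⟨m, hm, z, hz, rfl⟩
    exact ⟨g * m, mul_mem hg hm, z, hz, by group⟩
  rw [mem_set_normalizer_iff]
  intro a
  refine ⟨key g hgM a, fun ha => ?_⟩
  have := key g⁻¹ (inv_mem hgM) _ ha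
  have e : g⁻¹ * (g * a * g⁻¹) * g⁻¹⁻¹ = a := by group
  rwa [e] at this

end KP

end Cfsg.Agent.Lib.Helper10.BG147
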