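/-
Helper library (helper10): Bender–Glauberman Theorem 14.7, part 3: the partner of a P-pair `(M, K)`
attached to a subgroup `X ≤ K` of prime order (steps 1-3).
-/
import Cfsg.Agent.Lib.Helper10.BG147b
import Cfsg.Agent.Lib.Helper10.BG147c
import Cfsg.Agent.S1378
import Cfsg.Agent.S1432

set_option autoImplicit false
set_option linter.unusedSimpArgs false
set_option linter.unusedVariables false
set_option linter.style.haveILetI false
set_option linter.unusedSectionVars false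

namespace Cfsg.Agent.Lib.Helper10.BG147

open Subgroup Cfsg
open Cfsg.Agent.Lib
open Cfsg.Agent.Lib.Helper24 Cfsg.Agent.Lib.Helper34 Cfsg.Agent.Lib.Helper31.BG11
open Cfsg.Agent.Lib.Helper34.BG13 Cfsg.Agent.Lib.Helper34.BG16

universe u

variable {G : Type u} [Group G] [Finite G]

theorem sigma_disjoint (hG : IsMinSimpleOddOrder G) {M L : Subgroup G} (hM : IsCoatom M)
    (hL : IsCoatom L) (hnc : ∀ g, L ≠ cj g M) {q : ℕ} (hqM : q ∈ sigma M) : q ∉ sigma L := by
  intro hqL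
  obtain ⟨g, hg⟩ := (Cfsg.Agent.S1378.result hG).2 M L hM hL ⟨q, hqM, hqL⟩
  exact hnc g hg

theorem sc_inf_sc (hG : IsMinSimpleOddOrder G) {M L : Subgroup G} (hM : IsCoatom M)
    (hL : IsCoatom L) (hnc : ∀ g, L ≠ cj g M) : sigmaCore M ⊓ sigmaCore L = ⊥ := by
  apply (disjoint_of_coprime_natCard _).eq_bot
  apply Nat.coprime_of_dvd
  intro q hq h1 h2
  exact sigma_disjoint hG hM hL hnc (sc_primes M hq h1) (sc_primes L hq h2)

theorem orderOf_dvd_card_of_mem {A : Subgroup G} {a : G} (ha : a ∈ A) :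
    orderOf a ∣ Nat.card A := by
  have := orderOf_dvd_natCard (⟨a, ha⟩ : A)
  rwa [Subgroup.orderOf_mk] at this

/-- BG Corollary 14.3 in the form used here. -/
theorem kappa_of_commuting (hG : IsMinSimpleOddOrder G) {M L : Subgroup G} (hM : IsCoatom M)
    (hL : IsCoatom L) (hLM : L ≠ M) {x x' : G} (hx : x ∈ sigmaCore M) (hx1 : x ≠ 1)
    (hx' : x' ∈ M) (hc : x' * x = x * x') (hx'1 : x' ≠ 1)
    (hσ : ∀ p : ℕ, p.Prime → p ∣ orderOf x' → p ∉ sigma M)
    (hcL : centralizer ({x'} : Set G) ≤ L) :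
    ∀ p : ℕ, p.Prime → p ∣ orderOf x' → p ∈ kappa M := by
  rcases Cfsg.Agent.S1432.result hG M hM x hx hx1 x'
    (mem_inf.mpr ⟨hx', mem_centralizer_singleton_iff.mpr hc⟩) hx'1 hσ with h | h
  · exact h.1
  · exact absurd (h.2.2.2 L hL hcL) hLM

namespace KP

variable {M K : Subgroup G}

/-- `C_G(y) ≤ M` for `y ∈ K* - 1`. -/
theorem cent_ks_le (h : KP M K) {y : G} (hy : y ∈ ks M K) (hy1 : y ≠ 1) :
    centralizer ({y} : Set G) ≤ M := by
  intro c hc
  by_contra hcM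
  have h1 := h.ti1 c hcM
  have h2 : y ∈ ks M K ⊓ cj c M := by
    refine mem_inf.mpr ⟨hy, ?_⟩
    have e : c * y * c⁻¹ = y := by
      rw [mem_centralizer_singleton_iff.mp hc]; group
    rw [← e]
    exact conj_mem_map_conj (ks_le M K hy)
  rw [h1, mem_bot] at h2
  exact hy1 h2

/-- `N_G(Y) ≤ M` for `1 ≠ Y ≤ K*`. -/
theorem norm_ks_le (h : KP M K) {Y : Subgroup G} (hY : Y ≤ ks M K) (hY1 : Y ≠ ⊥) :
    normalizer (Y : Set G) ≤ M := by
  intro c hc
  by_contra hcM
  have h1 := h.ti1 c hcM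
  obtain ⟨y, hy, hy1⟩ := (bot_or_exists_ne_one Y).resolve_left hY1
  have h2 : c * y * c⁻¹ ∈ ks M K ⊓ cj c M :=
    mem_inf.mpr ⟨hY ((mem_normalizer_iff.mp hc y).mp hy), conj_mem_map_conj (ks_le M K (hY hy))⟩
  rw [h1, mem_bot] at h2
  apply hy1
  have : y = c⁻¹ * (c * y * c⁻¹) * c := by group
  rw [this, h2]; group

theorem K_inf_sc (h : KP M K) : K ⊓ sigmaCore M = ⊥ := by
  apply (disjoint_of_coprime_natCard _).eq_bot
  apply Nat.coprime_of_dvd
  intro q hq h1 h2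
  exact (h.hall.2.1 q hq h1).2.2.1 (sc_primes M hq h2)

/-- `Z ∩ M_σ = K*`. -/
theorem zz_inf_sc (h : KP M K) : zz M K ⊓ sigmaCore M = ks M K := by
  apply le_antisymm
  · intro z hz
    obtain ⟨x, hx, y, hy, rfl⟩ := exists_mul_of_mem_sup_of_commute (comm M K) hz.1
    have hx' : x ∈ K ⊓ sigmaCore M := by
      refine mem_inf.mpr ⟨hx, ?_⟩
      have := (sigmaCore M).mul_mem hz.2 ((sigmaCore M).inv_mem hy.1)
      simpa using this
    rw [h.K_inf_sc, mem_bot] at hx'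
    rw [hx', one_mul]; exact hy
  · exact le_inf le_sup_right inf_le_left

theorem exists_prime_le_ks (hG : IsMinSimpleOddOrder G) (h : KP M K) :
    ∃ y ∈ ks M K, (orderOf y).Prime := by
  have h1 : Nat.card (ks M K) ≠ 1 := fun hc => h.ks_ne_bot hG (card_eq_one.mp hc)
  obtain ⟨p, hp, hd⟩ := Nat.exists_prime_and_dvd h1
  haveI : Fact p.Prime := ⟨hp⟩
  obtain ⟨x, hx⟩ := exists_prime_orderOf_dvd_card' (G := ks M K) p hd
  exact ⟨x, x.2, by rw [Subgroup.orderOf_coe, hx]; exact hp⟩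

/-- The partner attached to `X`. -/
theorem partner (hG : IsMinSimpleOddOrder G) (h : KP M K) {X L : Subgroup G} (hXK : X ≤ K)
    (hXp : (Nat.card X).Prime) (hL : IsCoatom L) (hNL : normalizer (X : Set G) ≤ L) :
    ∃ K₁, KP L K₁ ∧ ks M K ≤ K₁ ∧ X ≤ ks L K₁ ∧ ks L K₁ ≤ K ∧ zz L K₁ = zz M K ∧
      M ⊓ L = zz M K ∧ ∀ g, L ≠ cj g M := by
  have hM := h.coatom
  set p := Nat.card X with hp
  have hX1 : X ≠ ⊥ := by
    intro hc
    rw [hc] at hp
    simp at hp
    rw [hp] at hXp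
    exact Nat.not_prime_one hXp
  obtain ⟨x, hxX, hx1⟩ := (bot_or_exists_ne_one X).resolve_left hX1
  have hXσ : X ≤ sigmaCore L := h.sX X hXK hXp L hL hNL
  have hpL : p ∈ sigma L := sc_primes L hXp (card_dvd_of_le hXσ)
  have hpM : p ∉ sigma M := (h.hall.2.1 p hXp (card_dvd_of_le hXK)).2.2.1
  have hnc : ∀ g, L ≠ cj g M := by
    intro g hg
    rw [hg, sigma_cj_iff] at hpL
    exact hpM hpL
  have hLM : L ≠ M := fun hc => hnc 1 (by rw [cj_one]; exact hc)
  have hnc' : ∀ g, M ≠ cj g L := by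
    intro g hg
    apply hnc g⁻¹
    rw [hg, cj_inv_cj]
  have hksC : ks M K ≤ centralizer (X : Set G) := inf_le_right.trans (centralizer_le hXK)
  have hksL : ks M K ≤ L := hksC.trans ((centralizer_le_normalizer _).trans hNL)
  -- `K*` is a `κ(L)`-group
  have hksκ : ∀ q : ℕ, q.Prime → q ∣ Nat.card (ks M K) → q ∈ kappa L := by
    intro q hq hd
    haveI : Fact q.Prime := ⟨hq⟩
    obtain ⟨y, hy⟩ := exists_prime_orderOf_dvd_card' (G := ks M K) q hd
    have hyo : orderOf (y : G) = q := by rw [Subgroup.orderOf_coe, hy]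
    have hy1 : (y : G) ≠ 1 := by
      intro hc
      rw [hc, orderOf_one] at hyo
      exact hq.one_lt.ne hyo
    refine kappa_of_commuting hG hL hM hLM.symm (hXσ hxX) hx1 (hksL y.2) ?_ hy1 ?_
      (h.cent_ks_le y.2 hy1) q hq (by rw [hyo])
    · exact (mem_centralizer_iff.mp (hksC y.2) x hxX).symm
    · intro r hr hrd
      rw [hyo] at hrd
      have : r = q := (Nat.prime_dvd_prime_iff_eq hr hq).mp hrd
      rw [this]
      exact sigma_disjoint hG hM hL hnc (sc_primes M hq (hd.trans (card_dvd_of_le (ks_le_sc M K))))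
  obtain ⟨K₁, hK₁, hksK₁⟩ := hall_superset (kappa L) (MS_solvable hG hL.1) hksL hksκ
  have hK₁1 : K₁ ≠ ⊥ := fun hc => h.ks_ne_bot hG (le_bot_iff.mp (hc ▸ hksK₁))
  have h₁ : KP L K₁ := kp hG hL hK₁ hK₁1
  obtain ⟨y, hy, hyp⟩ := h.exists_prime_le_ks hG
  have hy1 : y ≠ 1 := by
    intro hc
    rw [hc, orderOf_one] at hyp
    exact Nat.not_prime_one hyp
  have hyK₁ : y ∈ K₁ := hksK₁ hy
  have hact := h₁.act y hyK₁ hy1
  -- `X ≤ K₁*`
  have hXks : X ≤ ks L K₁ := by
    rw [← hact]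
    refine le_inf hXσ ?_
    intro a ha
    rw [mem_centralizer_singleton_iff]
    exact mem_centralizer_iff.mp (hksC hy) a ha
  set Y := zpowers y with hY
  have hYks : Y ≤ ks M K := by rw [hY, zpowers_le]; exact hy
  have hY1 : Y ≠ ⊥ := by rw [hY, Ne, zpowers_eq_bot]; exact hy1
  have hYp : (Nat.card Y).Prime := by rw [hY, Nat.card_zpowers]; exact hyp
  have hnY := h₁.nX Y (hYks.trans hksK₁) hYp
  have hZ₁M : zz L K₁ ≤ M := by
    rw [← hnY]
    exact inf_le_right.trans (h.norm_ks_le hYks hY1)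
  have hZL : zz M K ≤ L := by
    rw [← h.nX X hXK hXp]
    exact inf_le_right.trans hNL
  -- `M ∩ L_σ = K₁*`
  have hMσ : M ⊓ sigmaCore L ≤ ks L K₁ := by
    rw [← hact]
    intro d hd
    refine mem_inf.mpr ⟨hd.2, ?_⟩
    rw [mem_centralizer_singleton_iff]
    have h1 : d * y * d⁻¹ * y⁻¹ ∈ sigmaCore M ⊓ sigmaCore L := by
      refine mem_inf.mpr ⟨?_, ?_⟩
      · exact mul_mem (le_normalizer_iff.mp (sc_norm M) d hd.1 y hy.1) (inv_mem hy.1)
      · have h2 : y * d⁻¹ * y⁻¹ ∈ sigmaCore L :=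
          le_normalizer_iff.mp (sc_norm L) y (hksL hy) d⁻¹ (inv_mem hd.2)
        have h3 := mul_mem hd.2 h2
        have e : d * (y * d⁻¹ * y⁻¹) = d * y * d⁻¹ * y⁻¹ := by group
        rwa [e] at h3
    rw [sc_inf_sc hG hM hL hnc, mem_bot] at h1
    calc d * y = (d * y * d⁻¹ * y⁻¹) * (y * d) := by group
      _ = y * d := by rw [h1, one_mul]
  -- `K₁*` is a `κ(M)`-group
  have hks₁κ : ∀ r : ℕ, r.Prime → r ∣ Nat.card (ks L K₁) → r ∈ kappa M := by
    intro r hr hd
    haveI : Fact r.Prime := ⟨hr⟩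
    obtain ⟨w, hw⟩ := exists_prime_orderOf_dvd_card' (G := ks L K₁) r hd
    have hwo : orderOf (w : G) = r := by rw [Subgroup.orderOf_coe, hw]
    have hw1 : (w : G) ≠ 1 := by
      intro hc
      rw [hc, orderOf_one] at hwo
      exact hr.one_lt.ne hwo
    refine kappa_of_commuting hG hM hL hLM hy.1 hy1 (hZ₁M (mem_sup_right w.2)) ?_ hw1 ?_
      (h₁.cent_ks_le w.2 hw1) r hr (by rw [hwo])
    · exact (comm L K₁ y hyK₁ w w.2).symm
    · intro s hs hsd
      rw [hwo] at hsd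
      have : s = r := (Nat.prime_dvd_prime_iff_eq hs hr).mp hsd
      rw [this]
      exact sigma_disjoint hG hL hM hnc'
        (sc_primes L hr (hd.trans (card_dvd_of_le (ks_le_sc L K₁))))
  -- `K₁* ≤ K`
  have hks₁K : ks L K₁ ≤ K := by
    obtain ⟨m, hm, hmle⟩ := exists_cj_le_hall (MS_solvable hG hM.1) h.hall
      ((le_sup_right : ks L K₁ ≤ zz L K₁).trans hZ₁M) hks₁κ
    have hmZ : m ∈ zz M K := by
      by_contra hc
      have h1 := h.ti2 m hm hc
      have h2 : m * x * m⁻¹ ∈ K ⊓ cj m K :=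
        mem_inf.mpr ⟨hmle (conj_mem_map_conj (hXks hxX)), conj_mem_map_conj (hXK hxX)⟩
      rw [h1, mem_bot] at h2
      apply hx1
      have : x = m⁻¹ * (m * x * m⁻¹) * m := by group
      rw [this, h2]; group
    intro w hw
    have h1 : m * w * m⁻¹ ∈ K := hmle (conj_mem_map_conj hw)
    exact (mem_normalizer_iff.mp (zz_le_normalizer_K M K hmZ) w).mpr h1
  have hZeq : zz L K₁ = zz M K := by
    apply le_antisymm
    · refine sup_le ?_ (hks₁K.trans le_sup_left)
      rw [← h.nX X hXK hXp]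
      refine le_inf ((le_sup_left : K₁ ≤ zz L K₁).trans hZ₁M) ?_
      refine le_trans ?_ (centralizer_le_normalizer _)
      intro k hk
      rw [mem_centralizer_iff]
      intro a ha
      exact (comm L K₁ k hk a (hXks ha)).symm
    · rw [← hnY]
      refine le_inf hZL (sup_le ?_ ?_)
      · refine le_trans ?_ (centralizer_le_normalizer _)
        intro k hk
        rw [mem_centralizer_iff]
        intro a ha
        exact (comm M K k hk a (hYks ha)).symm
      · have : K₁ ≤ L ⊓ normalizer (Y : Set G) := by rw [hnY]; exact le_sup_left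
        exact hksK₁.trans (this.trans inf_le_right)
  refine ⟨K₁, h₁, hksK₁, hXks, hks₁K, hZeq, ?_, hnc⟩
  apply le_antisymm _ (le_inf h.zz_le hZL)
  intro d hd
  by_contra hc
  have h1 := h.ti2 d hd.1 hc
  have h2 : d * x * d⁻¹ ∈ K ⊓ cj d K := by
    refine mem_inf.mpr ⟨hks₁K (hMσ (mem_inf.mpr ⟨?_, ?_⟩)), conj_mem_map_conj (hXK hxX)⟩
    · exact mul_mem (mul_mem hd.1 (h.K_le (hXK hxX))) (inv_mem hd.1)
    · exact le_normalizer_iff.mp (sc_norm L) d hd.2 x (hXσ hxX)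
  rw [h1, mem_bot] at h2
  apply hx1
  have : x = d⁻¹ * (d * x * d⁻¹) * d := by group
  rw [this, h2]; group

end KP

end Cfsg.Agent.Lib.Helper10.BG147
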