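/-
Helper library (helper10): Bender–Glauberman Theorem 14.7: the counting inputs `N6`, `N7`
(from helper65's library) in the `KP` form.
-/
import Cfsg.Agent.Lib.Helper10.BG147b
import Cfsg.Agent.Lib.Helper10.BG147c
import Cfsg.Agent.Lib.Helper65.BG147d

set_option autoImplicit false

namespace Cfsg.Agent.Lib.Helper10.BG147

open Subgroup Cfsg
open Cfsg.Agent.Lib
open Cfsg.Agent.Lib.Helper34

universe u

variable {G : Type u} [Group G] [Finite G]

theorem h30 (hG : IsMinSimpleOddOrder G) : BGRows.H1430 G :=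
  fun M hM K hK hK1 => Cfsg.Agent.S1430.result hG M hM K hK hK1

theorem h31 (hG : IsMinSimpleOddOrder G) : BGRows.H1431 G :=
  fun M hM K hK hK1 => Cfsg.Agent.S1431.result hG M hM K hK hK1

theorem KP.pp {N K : Subgroup G} (h : KP N K) : Helper65.BG147.PP N K :=
  ⟨h.coatom, h.hall, h.ne⟩

theorem card_of_P1 (hG : IsMinSimpleOddOrder G) {N K : Subgroup G} (h : KP N K)
    (hP1 : ∀ r : ℕ, r.Prime → r ∣ Nat.card N → r ∈ sigma N ∨ r ∈ kappa N) :
    Nat.card N = Nat.card (sigmaCore N) * Nat.card K :=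
  h.pp.card_of_P1 hG (fun q hq hd hσ => (hP1 q hq hd).resolve_left hσ)

theorem three_mul_le (hG : IsMinSimpleOddOrder G) {N K : Subgroup G} (h : KP N K) :
    3 * Nat.card (ks N K) ≤ Nat.card (sigmaCore N) :=
  h.pp.three_mul_le hG (h30 hG) (h31 hG)

end Cfsg.Agent.Lib.Helper10.BG147
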