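/-
Helper library (helper10): Bender–Glauberman Theorem 14.7, part 4: the family of maximal subgroups
attached to `Z = K K*`, the polygon count, and the existence of the partner `M*`.
-/
import Cfsg.Agent.Lib.Helper10.BG147d
import Cfsg.Agent.Lib.Helper10.BG147n
import Cfsg.Agent.Lib.Helper62.BG147N1
import Cfsg.Agent.Lib.Helper62.BG147N2
import Cfsg.Agent.Lib.Helper34.BG147N3
import Cfsg.Agent.Lib.Helper34.BG147N4
import Cfsg.Agent.Lib.Helper34.BG147N5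
import Cfsg.Agent.S1377

set_option autoImplicit false
set_option linter.unusedSimpArgs false
set_option linter.unusedVariables false
set_option linter.style.haveILetI false
set_option linter.unusedSectionVars false

namespace Cfsg.Agent.Lib.Helper10.BG147

open Subgroup Cfsg
open Cfsg.Agent.Lib
open Cfsg.Agent.Lib.Helper24 Cfsg.Agent.Lib.Helper34 Cfsg.Agent.Lib.Helper31.BG11
open Cfsg.Agent.Lib.Helper34.BG13 Cfsg.Agent.Lib.Helper34.BG16
open Cfsg.Agent.Lib.Helper62.BG147N Cfsg.Agent.Lib.Helper34.BG147N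

universe u

variable {G : Type u} [Group G] [Finite G]

/-- The maximal subgroups of type `P` attached to `Z`. -/
def Fam (Z : Subgroup G) : Set (Subgroup G) := {N | ∃ K, KP N K ∧ zz N K = Z}

theorem mem_sc_of_primes (hG : IsMinSimpleOddOrder G) {N : Subgroup G} (hN : IsCoatom N) {w : G}
    (hw : w ∈ N) (hp : ∀ r : ℕ, r.Prime → r ∣ orderOf w → r ∈ sigma N) : w ∈ sigmaCore N :=
  le_sc_of_primes hG (BG124.ut hG) hN (zpowers_le.mpr hw)
    (fun r hr hd => hp r hr (by rwa [Nat.card_zpowers] at hd)) (mem_zpowers w)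

theorem orderOf_conj_eq (g t : G) : orderOf (g * t * g⁻¹) = orderOf t := by
  simpa using orderOf_injective (MulAut.conj g).toMonoidHom (MulAut.conj g).injective t

namespace KP

variable {M K : Subgroup G}

theorem card_zz (h : KP M K) : Nat.card (zz M K) = Nat.card K * Nat.card (ks M K) :=
  Helper1.card_sup_of_disjoint (le_sup_left.trans (zz_le_normalizer_ks M K))
    (disjoint_of_coprime_natCard h.coprime)

theorem mem_fam (h : KP M K) : M ∈ Fam (zz M K) := ⟨K, h, rfl⟩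

theorem exists_sigma_prime (hG : IsMinSimpleOddOrder G) (h : KP M K) :
    ∃ r : ℕ, r.Prime ∧ r ∣ Nat.card (ks M K) ∧ r ∈ sigma M := by
  have h1 : Nat.card (ks M K) ≠ 1 := fun hc => h.ks_ne_bot hG (card_eq_one.mp hc)
  obtain ⟨p, hp, hd⟩ := Nat.exists_prime_and_dvd h1
  exact ⟨p, hp, hd, sc_primes M hp (hd.trans (card_dvd_of_le (ks_le_sc M K)))⟩

end KP

theorem fam_eq (hG : IsMinSimpleOddOrder G) {Z N N' : Subgroup G} (hN : N ∈ Fam Z)
    (hN' : N' ∈ Fam Z) {r : ℕ} (h1 : r ∈ sigma N) (h2 : r ∈ sigma N') : N = N' := by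
  obtain ⟨K, h, hZ⟩ := hN
  obtain ⟨K', h', hZ'⟩ := hN'
  obtain ⟨g, hg⟩ := (Cfsg.Agent.S1378.result hG).2 N N' h.coatom h'.coatom ⟨r, h1, h2⟩
  obtain ⟨w, hw, hw1⟩ := (bot_or_exists_ne_one _).resolve_left (h'.ks_ne_bot hG)
  have hwZ : w ∈ zz N K := by rw [hZ, ← hZ']; exact mem_sup_right hw
  have hwσ : w ∈ sigmaCore N := by
    refine mem_sc_of_primes hG h.coatom (h.zz_le hwZ) ?_
    intro s hs hd
    have h3 : s ∈ sigma N' := sc_primes N' hs (hd.trans (orderOf_dvd_card_of_mem hw.1))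
    rw [hg] at h3
    exact (sigma_cj_iff g).mp h3
  have hwks : w ∈ ks N K := by
    rw [← h.zz_inf_sc]; exact mem_inf.mpr ⟨hwZ, hwσ⟩
  have hgN : g ∈ N := by
    by_contra hc
    have h3 := h.ti1 g hc
    have h5 : w ∈ cj g N := by
      have := KP.ks_le N' K' hw
      rwa [hg] at this
    have h4 : w ∈ ks N K ⊓ cj g N := mem_inf.mpr ⟨hwks, h5⟩
    rw [h3, mem_bot] at h4
    exact hw1 h4
  rw [hg]
  exact (map_conj_eq_self_of_mem hgN).symm

theorem fam_not_conj (hG : IsMinSimpleOddOrder G) {Z N N' : Subgroup G} (hN : N ∈ Fam Z)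
    (hN' : N' ∈ Fam Z) (hne : N ≠ N') : ∀ g, N' ≠ cj g N := by
  intro g hg
  obtain ⟨K, h, hZ⟩ := hN
  obtain ⟨r, hr, -, hrσ⟩ := h.exists_sigma_prime hG
  apply hne
  refine fam_eq hG ⟨K, h, hZ⟩ hN' hrσ ?_
  rw [hg]
  exact (sigma_cj_iff g).mpr hrσ

theorem KP.exists_partner (hG : IsMinSimpleOddOrder G) {M K X : Subgroup G} (h : KP M K)
    (hXK : X ≤ K) (hXp : (Nat.card X).Prime) :
    ∃ L K₁, KP L K₁ ∧ ks M K ≤ K₁ ∧ X ≤ ks L K₁ ∧ ks L K₁ ≤ K ∧ zz L K₁ = zz M K ∧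
      M ⊓ L = zz M K ∧ ∀ g, L ≠ cj g M := by
  have hX1 : X ≠ ⊥ := by
    intro hc
    rw [hc] at hXp
    simp at hXp
    exact Nat.not_prime_one hXp
  have hXtop : X ≠ ⊤ := ne_top_of_le_ne_top h.coatom.1 (hXK.trans h.K_le)
  obtain ⟨L, hL, hNL⟩ := exists_coatom_ge (MS_normalizer_ne_top hG hX1 hXtop)
  obtain ⟨K₁, h₁⟩ := h.partner hG hXK hXp hL hNL
  exact ⟨L, K₁, h₁⟩

theorem KP.exists_fam (hG : IsMinSimpleOddOrder G) {M K : Subgroup G} (h : KP M K) {r : ℕ}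
    (hr : r.Prime) (hd : r ∣ Nat.card (zz M K)) : ∃ N ∈ Fam (zz M K), r ∈ sigma N := by
  rw [h.card_zz] at hd
  rcases (Nat.Prime.dvd_mul hr).mp hd with h1 | h1
  · haveI : Fact r.Prime := ⟨hr⟩
    obtain ⟨x, hx⟩ := exists_prime_orderOf_dvd_card' (G := K) r h1
    have hXK : zpowers (x : G) ≤ K := by rw [zpowers_le]; exact x.2
    have hXc : Nat.card (zpowers (x : G)) = r := by
      rw [Nat.card_zpowers, Subgroup.orderOf_coe, hx]
    obtain ⟨L, K₁, h₁, -, hX, -, hZ, -, -⟩ := h.exists_partner hG hXK (by rw [hXc]; exact hr)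
    refine ⟨L, ⟨K₁, h₁, hZ⟩, sc_primes L hr ?_⟩
    rw [← hXc]
    exact card_dvd_of_le (hX.trans (KP.ks_le_sc L K₁))
  · exact ⟨M, h.mem_fam, sc_primes M hr (h1.trans (card_dvd_of_le (KP.ks_le_sc M K)))⟩

/-- `t ∈ Z` outside all the `N_σ`: it lies in some `Ẑ_N`, determined by a prime of its order. -/
theorem T_conj (hG : IsMinSimpleOddOrder G) {M K : Subgroup G} (h : KP M K) {t g : G}
    (ht : t ∈ zz M K) (htσ : ∀ N ∈ Fam (zz M K), t ∉ sigmaCore N) (hgt : g * t * g⁻¹ ∈ zz M K)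
    (hgtσ : ∀ N ∈ Fam (zz M K), g * t * g⁻¹ ∉ sigmaCore N) : g ∈ zz M K := by
  have ht1 : orderOf t ≠ 1 := by
    intro hc
    rw [orderOf_eq_one_iff] at hc
    exact htσ M h.mem_fam (hc ▸ one_mem _)
  obtain ⟨r, hr, hd⟩ := Nat.exists_prime_and_dvd ht1
  obtain ⟨N, hN, hrN⟩ := h.exists_fam hG hr (hd.trans (orderOf_dvd_card_of_mem ht))
  obtain ⟨K', h', hZ⟩ := id hN
  have key : ∀ s : G, s ∈ zz M K → s ∉ sigmaCore N → r ∣ orderOf s → s ∈ zhat N K' := by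
    intro s hs hsσ hrs
    refine ⟨hZ ▸ hs, ?_⟩
    rintro (hc | hc)
    · exact (h'.hall.2.1 r hr (hrs.trans (orderOf_dvd_card_of_mem hc))).2.2.1 hrN
    · exact hsσ hc.1
  rw [← hZ]
  exact h'.mem_zz_of_conj (key t ht (htσ N hN) hd)
    (key _ hgt (hgtσ N hN) (by rw [orderOf_conj_eq]; exact hd))

theorem KP.exists_not_P1 (hG : IsMinSimpleOddOrder G) {M K : Subgroup G} (h : KP M K) :
    ∃ N K', KP N K' ∧ zz N K' = zz M K ∧
      ∃ r : ℕ, r.Prime ∧ r ∣ Nat.card N ∧ r ∉ sigma N ∧ r ∉ kappa N := by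
  by_contra hcon
  push Not at hcon
  set Z := zz M K with hZdef
  set I : Finset (Subgroup G) := (Set.toFinite (Fam Z)).toFinset with hI
  have hmem : ∀ N, N ∈ I ↔ N ∈ Fam Z := fun N => Set.Finite.mem_toFinset _
  set T : Set G := {t : G | t ∈ Z ∧ ∀ N ∈ I, t ∉ sigmaCore N} with hT
  obtain ⟨X, hXK, hXp⟩ := h.exists_prime_le
  obtain ⟨L, K₁, h₁, -, -, -, hZL, -, hnc⟩ := h.exists_partner hG hXK hXp
  refine ngon_count Z I sigmaCore (fun N => tildeOf N ((sigmaCore N : Set G) \ {1}))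
    {a : G | ∃ g : G, ∃ t ∈ T, a = g * t * g⁻¹} T ?_ hT ?_ ?_ ?_ ?_ ?_ ?_
  · refine Finset.one_lt_card.mpr ⟨M, (hmem M).mpr h.mem_fam, L, (hmem L).mpr ⟨K₁, h₁, hZL⟩, ?_⟩
    intro hc
    exact hnc 1 (by rw [cj_one]; exact hc.symm)
  · apply card_conj_TI
    · intro z hz t ht
      refine ⟨mul_mem (mul_mem hz ht.1) (inv_mem hz), ?_⟩
      intro N hN hc
      obtain ⟨K', h', hZ'⟩ := (hmem N).mp hN
      have hzN : z ∈ N := h'.zz_le (hZ' ▸ hz)
      exact ht.2 N hN ((mem_normalizer_iff.mp (sc_norm N hzN) t).mpr hc)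
    · intro t ht g hgt
      exact T_conj hG h ht.1 (fun N hN => ht.2 N ((hmem N).mpr hN)) hgt.1
        (fun N hN => hgt.2 N ((hmem N).mpr hN))
  · intro N hN
    obtain ⟨K', h', hZ'⟩ := (hmem N).mp hN
    exact Cfsg.Agent.S1377.result hG N h'.coatom
  · intro N hN
    obtain ⟨K', h', hZ'⟩ := (hmem N).mp hN
    have h1 : Nat.card N = Nat.card (sigmaCore N) * Nat.card K' := by
      apply card_of_P1 hG h'
      intro r hr hd
      by_cases hσ : r ∈ sigma N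
      · exact Or.inl hσ
      · exact Or.inr (hcon N K' h' hZ' r hr hd hσ)
    rw [← hZ', h'.zz_inf_sc, h'.card_zz, h1]
    ring
  · intro N hN
    obtain ⟨K', h', hZ'⟩ := (hmem N).mp hN
    rw [← hZ', h'.zz_inf_sc]
    exact three_mul_le hG h'
  · intro N hN N' hN' hne
    obtain ⟨K', h', hZ'⟩ := (hmem N).mp hN
    obtain ⟨K'', h'', hZ''⟩ := (hmem N').mp hN'
    exact tilde_disjoint hG h'.coatom h''.coatom
      (fam_not_conj hG ((hmem N).mp hN) ((hmem N').mp hN') hne)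
  · intro N hN
    obtain ⟨K', h', hZ'⟩ := (hmem N).mp hN
    rw [Set.disjoint_left]
    rintro a ⟨g, t, ht, rfl⟩
    exact conj_not_mem_tilde hG h' (hZ' ▸ ht.1) (ht.2 N hN) g

/-- **BG Theorem 14.7**, existence of the partner. -/
theorem KP.main (hG : IsMinSimpleOddOrder G) {M K : Subgroup G} (h : KP M K) :
    ∃ L, KP L (ks M K) ∧ ks L (ks M K) = K ∧ M ⊓ L = zz M K ∧ (∀ g, L ≠ cj g M) ∧
      (∀ N ∈ Fam (zz M K), N = M ∨ N = L) ∧
      (((∃ r : ℕ, r.Prime ∧ r ∣ Nat.card M ∧ r ∉ sigma M ∧ r ∉ kappa M) ∧ (Nat.card K).Prime) ∨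
        ((∃ r : ℕ, r.Prime ∧ r ∣ Nat.card L ∧ r ∉ sigma L ∧ r ∉ kappa L) ∧
          (Nat.card (ks M K)).Prime)) := by
  obtain ⟨X, hXK, hXp⟩ := h.exists_prime_le
  obtain ⟨L, K₁, h₁, hksK₁, hXks, hks₁K, hZL, hML, hnc⟩ := h.exists_partner hG hXK hXp
  obtain ⟨N₀, K₀, h₀, hZ₀, r₀, hr₀, hd₀, hσ₀, hκ₀⟩ := h.exists_not_P1 hG
  have hp : (Nat.card K₀).Prime := prime_card_of_not_P1 hG h₀ hr₀ hd₀ hσ₀ hκ₀
  set p := Nat.card K₀ with hpdef
  have hLM : L ≠ M := fun hc => hnc 1 (by rw [cj_one]; exact hc)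
  have hMf : M ∈ Fam (zz M K) := h.mem_fam
  have hLf : L ∈ Fam (zz M K) := ⟨K₁, h₁, hZL⟩
  have hN₀f : N₀ ∈ Fam (zz M K) := ⟨K₀, h₀, hZ₀⟩
  have hA : ∀ N ∈ Fam (zz M K), N ≠ N₀ → p ∈ sigma N := by
    intro N hN hne
    obtain ⟨K', h', hZ'⟩ := id hN
    obtain ⟨r, hr, hrd, hrσ⟩ := h'.exists_sigma_prime hG
    have h1 : r ∣ Nat.card K₀ * Nat.card (ks N₀ K₀) := by
      rw [← h₀.card_zz, hZ₀, ← hZ']
      exact hrd.trans (card_dvd_of_le le_sup_right)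
    rcases (Nat.Prime.dvd_mul hr).mp h1 with h2 | h2
    · rw [← (Nat.prime_dvd_prime_iff_eq hr hp).mp h2]; exact hrσ
    · exact absurd (fam_eq hG hN hN₀f hrσ
        (sc_primes N₀ hr (h2.trans (card_dvd_of_le (KP.ks_le_sc N₀ K₀))))) hne
  have hB : ∀ N ∈ Fam (zz M K), ∀ N' ∈ Fam (zz M K), N ≠ N₀ → N' ≠ N₀ → N = N' :=
    fun N hN N' hN' h1 h2 => fam_eq hG hN hN' (hA N hN h1) (hA N' hN' h2)
  have hC : ∀ N ∈ Fam (zz M K), N = M ∨ N = L := by
    intro N hN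
    by_cases hM0 : M = N₀
    · by_cases hNM : N = M
      · exact Or.inl hNM
      · exact Or.inr (hB N hN L hLf (hM0 ▸ hNM) (hM0 ▸ hLM))
    · have hL0 : L = N₀ := by
        by_contra hc
        exact hLM (hB L hLf M hMf hc hM0)
      by_cases hN0 : N = N₀
      · exact Or.inr (hN0.trans hL0.symm)
      · exact Or.inl (hB N hN M hMf hN0 hM0)
  have hKL : K ≤ L := by
    have h1 : zz M K ≤ L := by rw [← hML]; exact inf_le_right
    exact le_sup_left.trans h1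
  have hD : K ≤ sigmaCore L := by
    refine le_sc_of_primes hG (BG124.ut hG) h₁.coatom hKL ?_
    intro r hr hd
    obtain ⟨N, hN, hrN⟩ := h.exists_fam hG hr (hd.trans (card_dvd_of_le le_sup_left))
    rcases hC N hN with rfl | rfl
    · exact absurd hrN (h.hall.2.1 r hr hd).2.2.1
    · exact hrN
  have hE : ks L K₁ = K := by
    apply le_antisymm hks₁K
    rw [← h₁.zz_inf_sc, hZL]
    exact le_inf le_sup_left hD
  have hF : K₁ = ks M K := by
    symm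
    apply eq_of_le_of_card_ge hksK₁
    have h1 := h.card_zz
    rw [← hZL, h₁.card_zz, hE, mul_comm] at h1
    exact (Nat.eq_of_mul_eq_mul_left Nat.card_pos h1).le
  subst hF
  refine ⟨L, h₁, hE, hML, hnc, hC, ?_⟩
  -- which one is not of type `P₁`
  have hcard : ∀ N K' K'' : Subgroup G, KP N K' → KP N K'' → zz N K' = zz N K'' →
      Nat.card K' = Nat.card K'' := by
    intro N K' K'' h' h'' he
    have h1 := h'.card_zz
    rw [he, h''.card_zz, ← h''.zz_inf_sc, ← he, h'.zz_inf_sc] at h1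
    exact (Nat.eq_of_mul_eq_mul_right Nat.card_pos h1).symm
  rcases hC N₀ hN₀f with rfl | rfl
  · left
    exact ⟨⟨r₀, hr₀, hd₀, hσ₀, hκ₀⟩, by rw [← hcard _ K₀ K h₀ h hZ₀]; exact hp⟩
  · right
    exact ⟨⟨r₀, hr₀, hd₀, hσ₀, hκ₀⟩, by rw [← hcard _ K₀ _ h₀ h₁ (hZ₀.trans hZL.symm)]; exact hp⟩

end Cfsg.Agent.Lib.Helper10.BG147
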