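/-
Helper library (helper10): Bender–Glauberman Theorem 14.7, part 5: consequences of `KP.main`
(rows S1366, S1368, S1369, S1373).
-/
import Cfsg.Agent.Lib.Helper10.BG147e
import Cfsg.Agent.Lib.Helper65.BG147a

set_option autoImplicit false
set_option linter.unusedSimpArgs false
set_option linter.unusedVariables false
set_option linter.style.haveILetI false
set_option linter.unusedSectionVars false

namespace Cfsg.Agent.Lib.Helper10.BG147

open Subgroup Cfsg
open Cfsg.Agent.Lib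
open Cfsg.Agent.Lib.Helper24 Cfsg.Agent.Lib.Helper34 Cfsg.Agent.Lib.Helper31.BG11
open Cfsg.Agent.Lib.Helper34.BG13 Cfsg.Agent.Lib.Helper34.BG16

universe u

variable {G : Type u} [Group G] [Finite G]

/-- "not of type `P₁`". -/
def NotP1 (M : Subgroup G) : Prop :=
  ∃ r : ℕ, r.Prime ∧ r ∣ Nat.card M ∧ r ∉ sigma M ∧ r ∉ kappa M

/-- The facts on a partner `Ms` of `(M, K)`. -/
structure Partner (M K Ms : Subgroup G) : Prop where
  kp : KP Ms (ks M K)
  ks_eq : ks Ms (ks M K) = K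
  inf_eq : M ⊓ Ms = zz M K
  nconj : ∀ g, Ms ≠ cj g M
  fam : ∀ N ∈ Fam (zz M K), N = M ∨ N = Ms
  alt : (NotP1 M ∧ (Nat.card K).Prime) ∨ (NotP1 Ms ∧ (Nat.card (ks M K)).Prime)

namespace KP

variable {M K : Subgroup G}

theorem exists_Partner (hG : IsMinSimpleOddOrder G) (h : KP M K) : ∃ Ms, Partner M K Ms := by
  obtain ⟨L, h1, h2, h3, h4, h5, h6⟩ := h.main hG
  exact ⟨L, h1, h2, h3, h4, h5, h6⟩

theorem partner_unique (hG : IsMinSimpleOddOrder G) (h : KP M K) {L Ms : Subgroup G}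
    (hL : Partner M K L) (hMs : IsCoatom Ms)
    (hKst : K = sigmaCore Ms ⊓ centralizer ((sigmaCore M ⊓ centralizer (K : Set G) : Subgroup G) : Set G))
    (hH : IsPiHallOf (kappa Ms) (sigmaCore M ⊓ centralizer (K : Set G)) Ms) : Ms = L := by
  have h' : KP Ms (ks M K) := BG147.kp hG hMs hH (h.ks_ne_bot hG)
  have hz : zz Ms (ks M K) = zz M K := by
    show ks M K ⊔ (sigmaCore Ms ⊓ centralizer ((ks M K : Subgroup G) : Set G)) = K ⊔ ks M K
    rw [← hKst, sup_comm]
  rcases hL.fam Ms ⟨_, h', hz⟩ with rfl | rfl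
  · exfalso
    apply h.ne
    have h1 : K ≤ K ⊓ sigmaCore Ms := le_inf le_rfl (by
      conv_lhs => rw [hKst]
      exact inf_le_left)
    rw [h.K_inf_sc] at h1
    exact le_bot_iff.mp h1
  · rfl

theorem partner_of (hG : IsMinSimpleOddOrder G) (h : KP M K) {Ms : Subgroup G}
    (hMs : IsCoatom Ms)
    (hKst : K = sigmaCore Ms ⊓ centralizer ((sigmaCore M ⊓ centralizer (K : Set G) : Subgroup G) : Set G))
    (hH : IsPiHallOf (kappa Ms) (sigmaCore M ⊓ centralizer (K : Set G)) Ms) : Partner M K Ms := by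
  obtain ⟨L, hL⟩ := h.exists_Partner hG
  rw [h.partner_unique hG hL hMs hKst hH]
  exact hL

end KP

/-! ### cyclicity -/

theorem isZGroup_of_kappa {N A : Subgroup G} (hAN : A ≤ N)
    (hA : ∀ p : ℕ, p.Prime → p ∣ Nat.card A → p ∈ kappa N) : IsZGroup A := by
  refine ⟨fun p hp P => ?_⟩
  haveI : Fact p.Prime := ⟨hp⟩
  by_cases hd : p ∣ Nat.card A
  · have hκ := hA p hp hd
    obtain ⟨Q, hQ⟩ := (P.2.map (inclusion hAN)).exists_le_sylow
    haveI : IsCyclic Q := (hκ.2.2.2 Q).1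
    let f : ↥(P : Subgroup A) →* ↥(Q : Subgroup N) :=
      { toFun := fun x => ⟨inclusion hAN x.1, hQ (mem_map_of_mem _ x.2)⟩
        map_one' := by ext; simp
        map_mul' := fun a b => by ext; simp }
    have hf : Function.Injective f := by
      intro a b hab
      have h1 : (inclusion hAN a.1 : N) = inclusion hAN b.1 := congrArg Subtype.val hab
      exact Subtype.ext (inclusion_injective hAN h1)
    exact isCyclic_of_injective f hf
  · have h1 : Nat.card (P : Subgroup A) = 1 := by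
      rw [P.card_eq_multiplicity, Nat.factorization_eq_zero_of_not_dvd hd, pow_zero]
    haveI : Subsingleton (P : Subgroup A) := (Nat.card_eq_one_iff_unique.mp h1).1
    exact isCyclic_of_subsingleton

theorem isCyclic_of_kappa_nilpotent {N A B : Subgroup G} (hAN : A ≤ N)
    (hA : ∀ p : ℕ, p.Prime → p ∣ Nat.card A → p ∈ kappa N) (hAB : A ≤ B)
    (hB : Group.IsNilpotent B) : IsCyclic A := by
  haveI := isZGroup_of_kappa hAN hA
  haveI : Group.IsNilpotent A := isNilpotent_of_le hAB hB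
  infer_instance

theorem sc_nilpotent_of_notP1 (hG : IsMinSimpleOddOrder G) {M : Subgroup G} (hM : IsCoatom M)
    (h : NotP1 M) : Group.IsNilpotent (sigmaCore M) := by
  obtain ⟨r, hr, hd, hσ, hκ⟩ := h
  haveI : Fact r.Prime := ⟨hr⟩
  exact (Cfsg.Agent.S1429.result hG M hM (fun hc => hκ (hc r hr hd hσ)) r hd
    (by rintro (h | h); exacts [hσ h, hκ h]) default).2.2

namespace Partner

variable {M K Ms : Subgroup G}

theorem K_cyclic (hG : IsMinSimpleOddOrder G) (h : KP M K) (hp : Partner M K Ms) : IsCyclic K := by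
  rcases hp.alt with ⟨-, h1⟩ | ⟨h1, -⟩
  · haveI : Fact (Nat.card K).Prime := ⟨h1⟩
    exact isCyclic_of_prime_card rfl
  · refine isCyclic_of_kappa_nilpotent h.K_le h.hall.2.1 ?_
      (sc_nilpotent_of_notP1 hG hp.kp.coatom h1)
    conv_lhs => rw [← hp.ks_eq]
    exact inf_le_left

theorem ks_cyclic (hG : IsMinSimpleOddOrder G) (h : KP M K) (hp : Partner M K Ms) :
    IsCyclic (ks M K) := by
  rcases hp.alt with ⟨h1, -⟩ | ⟨-, h1⟩
  · exact isCyclic_of_kappa_nilpotent hp.kp.K_le hp.kp.hall.2.1 inf_le_left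
      (sc_nilpotent_of_notP1 hG h.coatom h1)
  · haveI : Fact (Nat.card (ks M K)).Prime := ⟨h1⟩
    exact isCyclic_of_prime_card rfl

theorem zz_cyclic (hG : IsMinSimpleOddOrder G) (h : KP M K) (hp : Partner M K Ms) :
    IsCyclic (zz M K) := by
  haveI := hp.K_cyclic hG h
  haveI := hp.ks_cyclic hG h
  obtain ⟨x, hx⟩ := IsCyclic.exists_ofOrder_eq_natCard (α := K)
  obtain ⟨y, hy⟩ := IsCyclic.exists_ofOrder_eq_natCard (α := ks M K)
  have hc : Commute (x : G) (y : G) := KP.comm M K x x.2 y y.2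
  have hx' : orderOf (x : G) = Nat.card K := by rw [Subgroup.orderOf_coe, hx]
  have hy' : orderOf (y : G) = Nat.card (ks M K) := by rw [Subgroup.orderOf_coe, hy]
  have ho : orderOf ((x : G) * y) = Nat.card (zz M K) := by
    rw [hc.orderOf_mul_eq_mul_orderOf_of_coprime (by rw [hx', hy']; exact h.coprime), hx', hy',
      h.card_zz]
  refine isCyclic_of_orderOf_eq_card
    (⟨(x : G) * y, mul_mem (mem_sup_left x.2) (mem_sup_right y.2)⟩ : zz M K) ?_
  rw [← ho, ← Subgroup.orderOf_coe]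

end Partner

/-! ### `U = 1` means type `P₁` -/

theorem U_ne_bot_of_notP1 {M K U : Subgroup G} (hKU : IsSigmaDecomposition M K U)
    (h : NotP1 M) : U ≠ ⊥ := by
  rintro rfl
  obtain ⟨r, hr, hd, hσ, hκ⟩ := h
  have h2 := Helper23.complIn_card_mul hKU.compl
  rw [Subgroup.card_bot, one_mul] at h2
  have h3 : Nat.card (K ⊔ sigmaCore M : Subgroup G) ∣ Nat.card K * Nat.card (sigmaCore M) :=
    Helper1.card_sup_dvd (hKU.hall.1.trans (sc_norm M))
  rw [← h2] at hd
  rcases (Nat.Prime.dvd_mul hr).mp (hd.trans h3) with h4 | h4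
  · exact hκ (hKU.hall.2.1 r hr h4)
  · exact hσ (sc_primes M hr h4)

/-! ### every maximal subgroup of type `P` is conjugate to `M` or `M*` -/

theorem conj_of_kappa (hG : IsMinSimpleOddOrder G) {M K Ms H : Subgroup G} (h : KP M K)
    (hp : Partner M K Ms) (hH : IsCoatom H) (hκ : (kappa H).Nonempty) :
    ∃ g : G, H = cj g M ∨ H = cj g Ms := by
  obtain ⟨p, hpκ⟩ := hκ
  obtain ⟨K', hK'⟩ := Helper62.exists_isPiHallOf (kappa H) H (MS_solvable hG hH.1)
  have hK'1 : K' ≠ ⊥ := by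
    rintro rfl
    apply hK'.2.2 p hpκ.1 hpκ
    rw [relIndex_bot_left]
    exact hpκ.2.1
  have h' : KP H K' := kp hG hH hK' hK'1
  have c1 := Helper65.BG147.PP.half_lt ⟨h.coatom, h.hall, h.ne⟩ hG (h30 hG) (h31 hG)
  have c2 := Helper65.BG147.PP.half_lt ⟨hH, hK', hK'1⟩ hG (h30 hG) (h31 hG)
  set A : Set G := {a : G | ∃ g : G, ∃ z ∈ Helper65.BG147.zhat M K, a = g * z * g⁻¹} with hA
  set B : Set G := {a : G | ∃ g : G, ∃ z ∈ Helper65.BG147.zhat H K', a = g * z * g⁻¹} with hB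
  have hne : ¬ Disjoint A B := by
    intro hd
    have h1 := Set.ncard_union_eq hd (Set.toFinite A) (Set.toFinite B)
    have h2 : (A ∪ B).ncard ≤ Nat.card G := by
      rw [← Set.ncard_univ]
      exact Set.ncard_le_ncard (Set.subset_univ _) (Set.toFinite _)
    omega
  rw [Set.not_disjoint_iff] at hne
  obtain ⟨a, ⟨g, z, hz, rfl⟩, ⟨g', z', hz', he⟩⟩ := hne
  obtain ⟨x', hx', y', hy', hx1', hy1', rfl, hxy'⟩ := h'.zhat_decomp hz'
  have ho1 : orderOf y' ≠ 1 := fun hc => hy1' (orderOf_eq_one_iff.mp hc)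
  obtain ⟨r, hr, hrd⟩ := Nat.exists_prime_and_dvd ho1
  have hrH : r ∈ sigma H := sc_primes H hr (hrd.trans (orderOf_dvd_card_of_mem hy'.1))
  have hcop : (orderOf x').Coprime (orderOf y') :=
    Nat.Coprime.coprime_dvd_left (orderOf_dvd_card_of_mem hx')
      (Nat.Coprime.coprime_dvd_right (orderOf_dvd_card_of_mem hy') h'.coprime)
  have ho : orderOf (x' * y') = orderOf x' * orderOf y' :=
    Commute.orderOf_mul_eq_mul_orderOf_of_coprime hxy' hcop
  have hoz : orderOf z = orderOf (x' * y') := by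
    rw [← orderOf_conj_eq g z, he, orderOf_conj_eq]
  have hrz : r ∣ Nat.card K * Nat.card (ks M K) := by
    rw [← h.card_zz]
    refine Dvd.dvd.trans ?_ (orderOf_dvd_card_of_mem hz.1)
    rw [hoz, ho]
    exact Dvd.dvd.mul_left hrd _
  rcases (Nat.Prime.dvd_mul hr).mp hrz with h1 | h1
  · have hrMs : r ∈ sigma Ms := by
      refine sc_primes Ms hr (h1.trans (card_dvd_of_le ?_))
      conv_lhs => rw [← hp.ks_eq]
      exact inf_le_left
    obtain ⟨c, hc⟩ := (Cfsg.Agent.S1378.result hG).2 Ms H hp.kp.coatom hH ⟨r, hrMs, hrH⟩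
    exact ⟨c, Or.inr hc⟩
  · have hrM : r ∈ sigma M := sc_primes M hr (h1.trans (card_dvd_of_le (KP.ks_le_sc M K)))
    obtain ⟨c, hc⟩ := (Cfsg.Agent.S1378.result hG).2 M H h.coatom hH ⟨r, hrM, hrH⟩
    exact ⟨c, Or.inl hc⟩

end Cfsg.Agent.Lib.Helper10.BG147
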