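/-
Helper library (helper10): Bender–Glauberman Theorem 14.7(h): `M' = U M_σ`, and `K* ≤ M''`
(row S1365).
-/
import Cfsg.Agent.Lib.Helper10.BG147c
import Cfsg.Agent.Lib.Helper10.BG124
import Cfsg.Agent.Lib.Helper23.BGU6
import Cfsg.Agent.Lib.Helper22.SupLemmas
import Cfsg.Agent.Lib.Helper1.Coprime2
import Cfsg.Agent.Lib.Helper68.BG121
import Cfsg.Agent.S1426
import Cfsg.Agent.S1429

set_option autoImplicit false
set_option linter.unusedSimpArgs false
set_option linter.unusedVariables false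
set_option linter.style.haveILetI false
set_option linter.unusedSectionVars false

namespace Cfsg.Agent.Lib.Helper10.BG147

open Subgroup Cfsg
open Cfsg.Agent.Lib
open Cfsg.Agent.Lib.Helper24 Cfsg.Agent.Lib.Helper34 Cfsg.Agent.Lib.Helper31.BG11
open Cfsg.Agent.Lib.Helper34.BG13 Cfsg.Agent.Lib.Helper34.BG16
open scoped commutatorElement

universe u

variable {G : Type u} [Group G] [Finite G]

theorem le_of_coprime_relIndex {H N M : Subgroup G} (hH : H ≤ M) (hN : N ≤ M)
    (hn : M ≤ normalizer (N : Set G)) (h : (Nat.card H).Coprime (N.relIndex M)) : H ≤ N := by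
  haveI : (N.subgroupOf M).Normal := (normal_subgroupOf_iff_le_normalizer hN).mpr hn
  have h1 : Nat.card (H.subgroupOf M) = Nat.card H :=
    Nat.card_congr (subgroupOfEquivOfLe hH).toEquiv
  have h2 := Helper68.BG121.le_of_normal_of_coprime_index (H.subgroupOf M) (N.subgroupOf M)
    (by rw [h1]; exact h)
  intro x hx
  have h3 : (⟨x, hH hx⟩ : M) ∈ H.subgroupOf M := mem_subgroupOf.mpr hx
  exact mem_subgroupOf.mp (h2 h3)

variable {M K U : Subgroup G}

/-- a fixed-point-free element `k` normalizing `U`: every element of `U` is a commutator. -/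
theorem le_commutator_of_fpf {k : G} (hkM : k ∈ M) (hUM : U ≤ M)
    (hk : k ∈ normalizer (U : Set G)) (hfix : U ⊓ centralizer ({k} : Set G) = ⊥) :
    U ≤ ⁅M, M⁆ := by
  let f : U → U := fun u => ⟨(u : G) * (k * (u : G)⁻¹ * k⁻¹),
    mul_mem u.2 ((mem_normalizer_iff.mp hk _).mp (inv_mem u.2))⟩
  have hf : Function.Injective f := by
    intro u v huv
    have h1 : (u : G) * (k * (u : G)⁻¹ * k⁻¹) = (v : G) * (k * (v : G)⁻¹ * k⁻¹) :=
      congrArg Subtype.val huv
    have h2 : (v : G)⁻¹ * u ∈ U ⊓ centralizer ({k} : Set G) := by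
      refine mem_inf.mpr ⟨mul_mem (inv_mem v.2) u.2, ?_⟩
      rw [mem_centralizer_singleton_iff]
      have h3 : (v : G)⁻¹ * u * k = k * ((v : G)⁻¹ * u) := by
        have h4 : (v : G)⁻¹ * ((u : G) * (k * (u : G)⁻¹ * k⁻¹)) * (k * u) =
            (v : G)⁻¹ * ((v : G) * (k * (v : G)⁻¹ * k⁻¹)) * (k * u) := by rw [h1]
        have h5 : (v : G)⁻¹ * ((u : G) * (k * (u : G)⁻¹ * k⁻¹)) * (k * u) = (v : G)⁻¹ * u * k := by
          group
        have h6 : (v : G)⁻¹ * ((v : G) * (k * (v : G)⁻¹ * k⁻¹)) * (k * u) = k * ((v : G)⁻¹ * u) := by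
          group
        rw [← h5, h4, h6]
      exact h3
    rw [hfix, mem_bot] at h2
    exact Subtype.ext (inv_mul_eq_one.mp h2).symm
  have hs : Function.Surjective f := Finite.injective_iff_surjective.mp hf
  intro u hu
  obtain ⟨v, hv⟩ := hs ⟨u, hu⟩
  have h1 : (v : G) * (k * (v : G)⁻¹ * k⁻¹) = u := congrArg Subtype.val hv
  have h2 : ⁅(v : G), k⁆ = u := by
    rw [commutatorElement_def, ← h1]
    group
  rw [← h2]
  exact commutator_mem_commutator (hUM v.2) hkM

theorem decomp_complIn (hKU : IsSigmaDecomposition M K U) :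
    IsComplIn (U ⊔ sigmaCore M) K M := by
  refine ⟨sup_le hKU.compl.1 (sc_le M), hKU.hall.1, ?_, ?_⟩
  · exact (disjoint_of_coprime_natCard (decomp_coprime hKU)).eq_bot
  · intro m hm
    obtain ⟨a, ha, b, hb, rfl⟩ := hKU.compl.2.2.2 m hm
    rw [sup_comm, Helper22.mem_sup_of_le_normalizer (hKU.hall.1.trans (sc_norm M))] at hb
    obtain ⟨s, hs, k, hk, rfl⟩ := hb
    exact ⟨a * s, mul_mem (mem_sup_left ha) (mem_sup_right hs), k, hk, by group⟩

theorem decomp_commutator_le (hKU : IsSigmaDecomposition M K U) : ⁅M, M⁆ ≤ U ⊔ sigmaCore M := by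
  haveI := hKU.cyclic
  refine Helper23U.commutator_le_of_compl (decomp_complIn hKU) (decomp_normal hKU) ?_
  intro a ha b hb
  have := IsCyclic.commGroup.mul_comm (⟨a, ha⟩ : K) ⟨b, hb⟩
  exact congrArg Subtype.val this

theorem decomp_commutator_eq (hG : IsMinSimpleOddOrder G) (hM : IsCoatom M)
    (hKU : IsSigmaDecomposition M K U) (hK1 : K ≠ ⊥)
    (hfix : ∀ k ∈ K, k ≠ 1 → U ⊓ centralizer ({k} : Set G) = ⊥) :
    ⁅M, M⁆ = U ⊔ sigmaCore M := by
  refine le_antisymm (decomp_commutator_le hKU) (sup_le ?_ (BG124.sc_le_commutator hG (BG124.ut hG) hM))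
  obtain ⟨k, hk, hk1⟩ : ∃ k ∈ K, k ≠ 1 := by
    obtain ⟨k, hk⟩ := Subgroup.ne_bot_iff_exists_ne_one.mp hK1
    exact ⟨k.1, k.2, fun h => hk (Subtype.ext h)⟩
  exact le_commutator_of_fpf (hKU.hall.1 hk) hKU.compl.1 (hKU.normal hk) (hfix k hk hk1)

theorem decomp_ks_le (hG : IsMinSimpleOddOrder G) (hM : IsCoatom M)
    (hKU : IsSigmaDecomposition M K U) (hK1 : K ≠ ⊥)
    (hfix : ∀ k ∈ K, k ≠ 1 → U ⊓ centralizer ({k} : Set G) = ⊥) :
    sigmaCore M ⊓ centralizer (K : Set G) ≤ ⁅⁅M, M⁆, ⁅M, M⁆⁆ := by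
  have hc := decomp_commutator_eq hG hM hKU hK1 hfix
  by_cases hU : U = ⊥
  · rw [hc, hU, bot_sup_eq]
    exact (Cfsg.Agent.S1426.result hG M hM K (Helper23U.compl_of_U_bot hKU hU).2).1
  · refine inf_le_left.trans ?_
    -- a prime divisor `r` of `|U|`
    have hU1 : Nat.card U ≠ 1 := fun h => hU ((card_eq_one).mp h)
    obtain ⟨r, hr, hrU⟩ := Nat.exists_prime_and_dvd hU1
    haveI : Fact r.Prime := ⟨hr⟩
    have hrM : r ∣ Nat.card M := hrU.trans (card_dvd_of_le hKU.compl.1)
    have hcard := Helper23.complIn_card_mul hKU.compl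
    have hKn : K ≤ normalizer (sigmaCore M : Set G) := hKU.hall.1.trans (sc_norm M)
    have hrκ : r ∉ kappa M := fun h =>
      kappa_not_dvd_card hKU h (hrU.trans (card_dvd_of_le le_sup_left))
    have hrσ : r ∉ sigma M := by
      intro h
      obtain ⟨x, hx⟩ := exists_prime_orderOf_dvd_card' (G := U) r hrU
      have hx' : orderOf (x : G) = r := by rw [Subgroup.orderOf_coe, hx]
      have h1 : (x : G) ∈ sigmaCore M := by
        refine le_sc_of_primes hG (BG124.ut hG) hM (zpowers_le.mpr (hKU.compl.1 x.2)) ?_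
          (mem_zpowers (x : G))
        intro q hq hd
        rw [Nat.card_zpowers, hx'] at hd
        rwa [(Nat.prime_dvd_prime_iff_eq hq hr).mp hd]
      have h2 : (x : G) ∈ U ⊓ (K ⊔ sigmaCore M) := mem_inf.mpr ⟨x.2, mem_sup_right h1⟩
      rw [hKU.compl.2.2.1, mem_bot] at h2
      rw [h2, orderOf_one] at hx'
      exact hr.one_lt.ne hx'
    have h29 := Cfsg.Agent.S1429.result hG M hM (fun hcc => hrκ (hcc r hr hrM hrσ)) r hrM
      (by rintro (h | h); exacts [hrσ h, hrκ h]) default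
    set S : Sylow r M := default with hS
    set A : Subgroup G := closure {x : G | x ∈ (S : Subgroup M).map M.subtype ∧ x ^ r = 1} with hA
    have hAS : A ≤ (S : Subgroup M).map M.subtype := by
      rw [hA, closure_le]
      exact fun x hx => hx.1
    have hSM : (S : Subgroup M).map M.subtype ≤ M := map_subtype_le _
    have hSp : IsPGroup r ((S : Subgroup M).map M.subtype) := S.2.map _
    have hAp : IsPGroup r A := hSp.to_le hAS
    have hrK : ¬ r ∣ Nat.card K := fun h => hrκ (hKU.hall.2.1 r hr h)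
    have hSN : (S : Subgroup M).map M.subtype ≤ U ⊔ sigmaCore M := by
      refine le_of_coprime_relIndex hSM (sup_le hKU.compl.1 (sc_le M)) (decomp_normal hKU) ?_
      obtain ⟨n, hn⟩ := (IsPGroup.iff_card).mp hSp
      rw [hn]
      refine Nat.Coprime.pow_left n ?_
      rw [Nat.Prime.coprime_iff_not_dvd hr]
      exact fun h => hrK (h.trans (decomp_relIndex_dvd hKU))
    have hcop : (Nat.card A).Coprime (Nat.card (sigmaCore M)) := by
      obtain ⟨n, hn⟩ := (IsPGroup.iff_card).mp hAp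
      rw [hn]
      refine Nat.Coprime.pow_left n ?_
      rw [Nat.Prime.coprime_iff_not_dvd hr]
      exact fun h => hrσ (sc_primes M hr h)
    haveI := h29.2.2
    have h3 := Helper1.commutator_sup_centralizer A (sigmaCore M)
      ((hAS.trans hSM).trans (sc_norm M)) hcop (Or.inr inferInstance)
    rw [h29.2.1, sup_bot_eq] at h3
    rw [hc]
    conv_lhs => rw [← h3]
    exact commutator_mono le_sup_right (hAS.trans hSN)

end Cfsg.Agent.Lib.Helper10.BG147
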