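/-
Helper library (helper10): Bender–Glauberman Theorem 14.7 / 15.7: the case `U ≠ 1` (row S1372).
-/
import Cfsg.Agent.Lib.Helper10.BG147f
import Cfsg.Agent.Lib.Helper68.BG157b
import Cfsg.Agent.Lib.Helper72.BG37b
import Cfsg.Agent.S1353

set_option autoImplicit false
set_option linter.unusedSimpArgs false
set_option linter.unusedVariables false
set_option linter.style.haveILetI false
set_option linter.unusedSectionVars false

namespace Cfsg.Agent.Lib.Helper10.BG147

open Subgroup Cfsg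
open Cfsg.Agent.Lib
open Cfsg.Agent.Lib.Helper24 Cfsg.Agent.Lib.Helper34 Cfsg.Agent.Lib.Helper31.BG11
open Cfsg.Agent.Lib.Helper34.BG13 Cfsg.Agent.Lib.Helper34.BG16

universe u

variable {G : Type u} [Group G] [Finite G] {M K U : Subgroup G}

theorem notP1_of_U_ne_bot (hG : IsMinSimpleOddOrder G) (hM : IsCoatom M)
    (hKU : IsSigmaDecomposition M K U) (hU : U ≠ ⊥) : NotP1 M := by
  have hU1 : Nat.card U ≠ 1 := fun h => hU ((card_eq_one).mp h)
  obtain ⟨r, hr, hrU⟩ := Nat.exists_prime_and_dvd hU1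
  haveI : Fact r.Prime := ⟨hr⟩
  have hrM : r ∣ Nat.card M := hrU.trans (card_dvd_of_le hKU.compl.1)
  have hrκ : r ∉ kappa M := fun h =>
    kappa_not_dvd_card hKU h (hrU.trans (card_dvd_of_le le_sup_left))
  have hrσ : r ∉ sigma M := by
    intro h
    obtain ⟨x, hx⟩ := exists_prime_orderOf_dvd_card' (G := U) r hrU
    have hx' : orderOf (x : G) = r := by rw [Subgroup.orderOf_coe, hx]
    have h1 : (x : G) ∈ sigmaCore M := by
      refine le_sc_of_primes hG (BG124.ut hG) hM (zpowers_le.mpr (hKU.compl.1 x.2)) ?_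
        (mem_zpowers (x : G))
      intro q hq hd
      rw [Nat.card_zpowers, hx'] at hd
      rwa [(Nat.prime_dvd_prime_iff_eq hq hr).mp hd]
    have h2 : (x : G) ∈ U ⊓ (K ⊔ sigmaCore M) := mem_inf.mpr ⟨x.2, mem_sup_right h1⟩
    rw [hKU.compl.2.2.1, mem_bot] at h2
    rw [h2, orderOf_one] at hx'
    exact hr.one_lt.ne hx'
  exact ⟨r, hr, hrM, hrσ, hrκ⟩

theorem row1372 (hG : IsMinSimpleOddOrder G) (hM : IsCoatom M)
    (hKU : IsSigmaDecomposition M K U) (hK1 : K ≠ ⊥) (hU1 : U ≠ ⊥) :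
    (Nat.card K).Prime ∧ IsTISubset (fittingOf M : Set G) ∧ sigmaCore M ≤ fittingOf M := by
  have hnp := notP1_of_U_ne_bot hG hM hKU hU1
  refine ⟨?_, ?_, ?_⟩
  · obtain ⟨r, hr, hd, hσ, hκ⟩ := hnp
    exact Helper34.BG147N.prime_card_of_not_P1 hG (kp_of_decomp hG hM hKU hK1) hr hd hσ hκ
  · exact Helper68.BG157.fitting_TI_of_P2 hG
      (fun M hM K U hKU => Cfsg.Agent.S1353.result hG M hM K U hKU) hM hKU hK1 hU1
  · exact Helper72.le_fittingOf (sc_le M) (sc_norm M) (sc_nilpotent_of_notP1 hG hM hnp)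

end Cfsg.Agent.Lib.Helper10.BG147
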