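import Mathlib

set_option autoImplicit false

namespace Cfsg.Agent.Lib.Helper10

open scoped commutatorElement

variable {G : Type*} [Group G]

/-- If `N` is a nilpotent subgroup and `M ≤ ⁅M, N⁆`, `M ≤ N`, then `M = ⊥`. -/
theorem eq_bot_of_le_commutator_of_nilpotent (M N : Subgroup G)
    (hN : Group.IsNilpotent N) (hMN : M ≤ N) (h : M ≤ ⁅M, N⁆) : M = ⊥ := by
  obtain ⟨n, hn⟩ := (Subgroup.isNilpotent_iff_lowerCentralSeries N).mp hN
  have key : ∀ k, M ≤ N.lowerCentralSeries k := by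
    intro k
    induction k with
    | zero => simpa using hMN
    | succ k ih =>
      rw [Subgroup.lowerCentralSeries_succ]
      exact h.trans (Subgroup.commutator_mono ih le_rfl)
  have := key n
  rw [hn] at this
  simpa using this

/-- A Sylow `p`-subgroup together with a normal subgroup of `p`-power index generates. -/
theorem sylow_sup_eq_top_of_isPGroup_quotient [Finite G] {p : ℕ} [Fact p.Prime] (P : Sylow p G)
    (K : Subgroup G) [K.Normal] (hK : IsPGroup p (G ⧸ K)) : (P : Subgroup G) ⊔ K = ⊤ := by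
  rw [← Subgroup.index_eq_one]
  obtain ⟨n, hn⟩ := IsPGroup.iff_card.mp hK
  have h1 : ((P : Subgroup G) ⊔ K).index ∣ p ^ n := by
    rw [← hn, ← Subgroup.index_eq_card]; exact Subgroup.index_dvd_of_le le_sup_right
  have h2 : ((P : Subgroup G) ⊔ K).index ∣ (P : Subgroup G).index := Subgroup.index_dvd_of_le le_sup_left
  obtain ⟨j, _, hj⟩ := (Nat.dvd_prime_pow (Fact.out : p.Prime)).mp h1
  rcases Nat.eq_zero_or_pos j with rfl | hpos
  · simpa using hj
  · exfalso
    apply P.not_dvd_index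
    refine dvd_trans ?_ h2
    rw [hj]; exact dvd_pow_self p hpos.ne'

/-- A group acting as a `p`-group on a `p`-group acts nilpotently. -/
theorem eq_bot_of_le_commutator_pAction [Finite G] {p : ℕ} [Fact p.Prime] {V A W : Subgroup G}
    (hV : IsPGroup p V) (hAV : A ≤ Subgroup.normalizer (V : Set G))
    (hp : ∀ a ∈ A, ∃ k : ℕ, a ^ (p ^ k) ∈ Subgroup.centralizer (V : Set G))
    (hWV : W ≤ V) (h : W ≤ ⁅W, A⁆) : W = ⊥ := by
  set K : Subgroup A := (Subgroup.centralizer (V : Set G)).subgroupOf A with hKdef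
  have hKn : K.Normal := by
    constructor
    intro c hc a
    rw [hKdef, Subgroup.mem_subgroupOf] at *
    rw [Subgroup.mem_centralizer_iff] at *
    intro v hv
    have hv' : (a : G)⁻¹ * v * ((a : G)⁻¹)⁻¹ ∈ V :=
      (Subgroup.le_normalizer_iff.mp hAV) _ (inv_mem a.2) v hv
    have := hc _ hv'
    simp only [Subgroup.coe_mul, Subgroup.coe_inv, inv_inv] at *
    calc v * (↑a * ↑c * (↑a)⁻¹) = a * (((a : G)⁻¹ * v * a) * c) * (a : G)⁻¹ := by group
      _ = a * (c * ((a : G)⁻¹ * v * a)) * (a : G)⁻¹ := by rw [this]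
      _ = ↑a * ↑c * (↑a)⁻¹ * v := by group
  have hq : IsPGroup p (A ⧸ K) := by
    intro q
    obtain ⟨a, rfl⟩ := QuotientGroup.mk_surjective q
    obtain ⟨k, hk⟩ := hp a a.2
    refine ⟨k, ?_⟩
    rw [← QuotientGroup.mk_pow, QuotientGroup.eq_one_iff, hKdef, Subgroup.mem_subgroupOf]
    simpa using hk
  obtain ⟨P⟩ : Nonempty (Sylow p A) := inferInstance
  have htop := sylow_sup_eq_top_of_isPGroup_quotient P K hq
  set P' : Subgroup G := (P : Subgroup A).map A.subtype with hP'
  have hP'p : IsPGroup p P' := P.2.map _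
  have hP'A : P' ≤ A := Subgroup.map_subtype_le _
  have hNp : IsPGroup p (P' ⊔ V : Subgroup G) :=
    IsPGroup.to_sup_of_normal_right' hP'p hV (hP'A.trans hAV)
  have hNnil : Group.IsNilpotent (P' ⊔ V : Subgroup G) := hNp.isNilpotent
  apply eq_bot_of_le_commutator_of_nilpotent W (P' ⊔ V) hNnil (hWV.trans le_sup_right)
  refine h.trans ?_
  rw [Subgroup.commutator_le]
  intro w hw a ha
  have hmem : (⟨a, ha⟩ : A) ∈ (P : Subgroup A) ⊔ K := by rw [htop]; trivial
  rw [← SetLike.mem_coe, Subgroup.mul_normal] at hmem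
  obtain ⟨x, hx, c, hc, hxc⟩ := hmem
  have hxc' : (x : G) * c = a := by
    have := congrArg Subtype.val hxc
    simpa using this
  have hcw : (c : G) * w⁻¹ = w⁻¹ * c := by
    have : (c : G) ∈ Subgroup.centralizer (V : Set G) := hc
    exact ((Subgroup.mem_centralizer_iff.mp this) _ (inv_mem (hWV hw))).symm
  have e : ⁅w, a⁆ = ⁅w, (x : G)⁆ := by
    rw [← hxc']
    simp only [commutatorElement_def, mul_inv_rev]
    calc w * (↑x * ↑c) * w⁻¹ * ((c : G)⁻¹ * (x : G)⁻¹) = w * x * (c * w⁻¹) * (c : G)⁻¹ * (x : G)⁻¹ := by group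
      _ = w * x * (w⁻¹ * c) * (c : G)⁻¹ * (x : G)⁻¹ := by rw [hcw]
      _ = w * ↑x * w⁻¹ * (↑x)⁻¹ := by group
  rw [e]
  exact Subgroup.commutator_mem_commutator hw (Subgroup.mem_sup_left ⟨x, hx, rfl⟩)

end Cfsg.Agent.Lib.Helper10
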