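import Mathlib
import Cfsg.Agent.Lib.Helper10.Card

set_option autoImplicit false

namespace Cfsg.Agent.Lib.Helper10

open scoped commutatorElement

variable {G : Type*} [Group G]

/-- `m(X) = |X| |C_V(X)|`. -/
noncomputable def mm (V X : Subgroup G) : ℕ :=
  Nat.card X * Nat.card (V ⊓ Subgroup.centralizer (X : Set G) : Subgroup G)

/-- the subgroup generated by the commutators `[u,a]`, `u ∈ S`, `a ∈ A`. -/
def Wc (S : Set G) (A : Subgroup G) : Subgroup G :=
  Subgroup.closure {g | ∃ u ∈ S, ∃ a ∈ A, ⁅u, a⁆ = g}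

theorem Wc_coe (U A : Subgroup G) : Wc (U : Set G) A = ⁅U, A⁆ := rfl

theorem Wc_empty (A : Subgroup G) : Wc (∅ : Set G) A = ⊥ := by
  unfold Wc; simp

theorem Wc_insert (u : G) (S : Set G) (A : Subgroup G) :
    Wc (insert u S) A = Wc {u} A ⊔ Wc S A := by
  unfold Wc
  rw [← Subgroup.closure_union]
  congr 1
  ext g
  simp only [Set.mem_insert_iff, Set.mem_ofPred_eq, Set.mem_union, Set.mem_singleton_iff]
  constructor
  · rintro ⟨v, rfl | hv, a, ha, rfl⟩
    · exact Or.inl ⟨v, rfl, a, ha, rfl⟩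
    · exact Or.inr ⟨v, hv, a, ha, rfl⟩
  · rintro (⟨v, rfl, a, ha, rfl⟩ | ⟨v, hv, a, ha, rfl⟩)
    · exact ⟨v, Or.inl rfl, a, ha, rfl⟩
    · exact ⟨v, Or.inr hv, a, ha, rfl⟩

theorem Wc_le {V A : Subgroup G} (hAV : A ≤ Subgroup.normalizer (V : Set G)) {S : Set G}
    (hS : S ⊆ V) : Wc S A ≤ V := by
  unfold Wc
  rw [Subgroup.closure_le]
  rintro _ ⟨u, hu, a, ha, rfl⟩
  have h1 : a * u⁻¹ * a⁻¹ ∈ V := (Subgroup.le_normalizer_iff.mp hAV) a ha _ (inv_mem (hS hu))
  have : ⁅u, a⁆ = u * (a * u⁻¹ * a⁻¹) := by rw [commutatorElement_def]; group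
  rw [SetLike.mem_coe, this]
  exact mul_mem (hS hu) h1

theorem centralizer_sup (X Y : Subgroup G) :
    Subgroup.centralizer ((X ⊔ Y : Subgroup G) : Set G) =
      Subgroup.centralizer (X : Set G) ⊓ Subgroup.centralizer (Y : Set G) := by
  apply le_antisymm
  · exact le_inf (Subgroup.centralizer_le (by exact_mod_cast (le_sup_left : X ≤ X ⊔ Y)))
      (Subgroup.centralizer_le (by exact_mod_cast (le_sup_right : Y ≤ X ⊔ Y)))
  · rw [Subgroup.le_centralizer_iff]
    apply sup_le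
    · rw [Subgroup.le_centralizer_iff]; exact inf_le_left
    · rw [Subgroup.le_centralizer_iff]; exact inf_le_right

/-- the algebraic core of the replacement theorem -/
theorem repl_core {V A : Subgroup G} (hVc : ∀ x ∈ V, ∀ y ∈ V, x * y = y * x)
    (hAV : A ≤ Subgroup.normalizer (V : Set G))
    (hab : ⁅A, A⁆ ≤ Subgroup.centralizer (V : Set G))
    {u : G} (hu : u ∈ V) {a a' : G} (ha : a ∈ A) (ha' : a' ∈ A)
    (h : ⁅u, a⁆⁻¹ * ⁅u, a'⁆ ∈ Subgroup.centralizer (A : Set G)) :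
    a⁻¹ * a' ∈ Subgroup.centralizer ((Wc {u} A : Subgroup G) : Set G) := by
  set b := a⁻¹ * a' with hb
  have hbA : b ∈ A := mul_mem (inv_mem ha) ha'
  set c := ⁅u, b⁆ with hc
  have hconj : ∀ x ∈ A, ∀ v ∈ V, x * v * x⁻¹ ∈ V := Subgroup.le_normalizer_iff.mp hAV
  have hcV : c ∈ V := by
    have : c = u * (b * u⁻¹ * b⁻¹) := by rw [hc, commutatorElement_def]; group
    rw [this]; exact mul_mem hu (hconj b hbA _ (inv_mem hu))
  have e1 : ⁅u, a⁆⁻¹ * ⁅u, a'⁆ = a * c * a⁻¹ := by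
    rw [hc, hb]; simp only [commutatorElement_def]; group
  rw [e1] at h
  have hcA : c ∈ Subgroup.centralizer (A : Set G) := by
    have h1 := (Subgroup.mem_centralizer_iff.mp h) a ha
    have h2 : a * c * a⁻¹ = c := by
      calc a * c * a⁻¹ = a⁻¹ * (a * (a * c * a⁻¹)) := by group
        _ = a⁻¹ * ((a * c * a⁻¹) * a) := by rw [h1]
        _ = c := by group
    rwa [h2] at h
  have hbu : b * u * b⁻¹ = c⁻¹ * u := by
    rw [hc, commutatorElement_def]; group
  unfold Wc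
  rw [Subgroup.centralizer_closure, Subgroup.mem_centralizer_iff]
  rintro _ ⟨u', hu', x, hx, rfl⟩
  have hu'' : u' = u := hu'
  rw [hu'']
  set d := ⁅b, x⁆ with hd
  have hdC : d ∈ Subgroup.centralizer (V : Set G) := hab (Subgroup.commutator_mem_commutator hbA hx)
  have hbx : b * x * b⁻¹ = d * x := by rw [hd, commutatorElement_def]; group
  set y := x * u⁻¹ * x⁻¹ with hy
  have hyV : y ∈ V := hconj x hx _ (inv_mem hu)
  have hxc : x * c = c * x := (Subgroup.mem_centralizer_iff.mp hcA) x hx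
  have key : b * ⁅u, x⁆ * b⁻¹ = ⁅u, x⁆ := by
    rw [conjugate_commutatorElement, hbu, hbx]
    have s1 : ⁅c⁻¹ * u, d * x⁆ = c⁻¹ * u * (d * (x * u⁻¹ * x⁻¹ * (x * c * x⁻¹)) * d⁻¹) := by
      rw [commutatorElement_def]; group
    have s2 : x * c * x⁻¹ = c := by rw [hxc]; group
    rw [s1, s2, ← hy]
    have s3 : d * (y * c) * d⁻¹ = y * c := by
      have := (Subgroup.mem_centralizer_iff.mp hdC) (y * c) (mul_mem hyV hcV)
      rw [← this]; group
    rw [s3]
    have s4 : y * c = c * y := hVc _ hyV _ hcV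
    have s5 : u * c = c * u := hVc _ hu _ hcV
    calc c⁻¹ * u * (y * c) = c⁻¹ * u * (c * y) := by rw [s4]
      _ = c⁻¹ * (u * c) * y := by group
      _ = c⁻¹ * (c * u) * y := by rw [s5]
      _ = u * y := by group
      _ = ⁅u, x⁆ := by rw [hy, commutatorElement_def]; group
  calc ⁅u, x⁆ * b = (b * ⁅u, x⁆ * b⁻¹) * b := by rw [key]
    _ = b * ⁅u, x⁆ := by group

variable [Finite G]

theorem repl_single_le {V A : Subgroup G} (hVc : ∀ x ∈ V, ∀ y ∈ V, x * y = y * x)
    (hAV : A ≤ Subgroup.normalizer (V : Set G))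
    (hab : ⁅A, A⁆ ≤ Subgroup.centralizer (V : Set G))
    {u : G} (hu : u ∈ V) :
    mm V A ≤ Nat.card (A ⊓ Subgroup.centralizer ((Wc {u} A : Subgroup G) : Set G) : Subgroup G) *
      Nat.card (Wc {u} A ⊔ (V ⊓ Subgroup.centralizer (A : Set G)) : Subgroup G) := by
  set W := Wc {u} A with hW
  set B := A ⊓ Subgroup.centralizer (W : Set G) with hB
  set C := V ⊓ Subgroup.centralizer (A : Set G) with hC
  have hmemW : ∀ a ∈ A, ⁅u, a⁆ ∈ W ⊔ C := fun a ha =>
    Subgroup.mem_sup_left (Subgroup.subset_closure ⟨u, rfl, a, ha, rfl⟩)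
  let f : A ⧸ B.subgroupOf A → (W ⊔ C : Subgroup G) ⧸ C.subgroupOf (W ⊔ C) := fun q =>
    QuotientGroup.mk ⟨⁅u, (q.out : G)⁆, hmemW _ q.out.2⟩
  have hf : Function.Injective f := by
    intro q q' hqq
    have h1 := QuotientGroup.eq.mp hqq
    rw [Subgroup.mem_subgroupOf] at h1
    have h2 : ⁅u, (q.out : G)⁆⁻¹ * ⁅u, (q'.out : G)⁆ ∈ C := h1
    have h3 := repl_core hVc hAV hab hu q.out.2 q'.out.2 h2.2
    have h4 : (q.out)⁻¹ * q'.out ∈ B.subgroupOf A := by
      rw [Subgroup.mem_subgroupOf]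
      exact Subgroup.mem_inf.mpr ⟨(mul_mem (inv_mem q.out.2) q'.out.2), h3⟩
    have h5 := QuotientGroup.eq.mpr h4
    rwa [QuotientGroup.out_eq', QuotientGroup.out_eq'] at h5
  have hle : B.relIndex A ≤ C.relIndex (W ⊔ C) := Nat.card_le_card_of_injective f hf
  have e1 : Nat.card B * B.relIndex A = Nat.card A := card_mul_relIndex inf_le_left
  have e2 : Nat.card C * C.relIndex (W ⊔ C) = Nat.card (W ⊔ C : Subgroup G) :=
    card_mul_relIndex le_sup_right
  unfold mm
  rw [← e1, ← e2]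
  calc Nat.card B * B.relIndex A * Nat.card C ≤ Nat.card B * C.relIndex (W ⊔ C) * Nat.card C :=
        Nat.mul_le_mul_right _ (Nat.mul_le_mul_left _ hle)
    _ = Nat.card B * (Nat.card C * C.relIndex (W ⊔ C)) := by ring

theorem mm_pos (V X : Subgroup G) : 0 < mm V X := by
  unfold mm
  exact Nat.mul_pos Nat.card_pos Nat.card_pos

theorem repl_lattice {V A : Subgroup G} (hVc : ∀ x ∈ V, ∀ y ∈ V, x * y = y * x)
    (hmax : ∀ B : Subgroup G, B ≤ A → mm V B ≤ mm V A)
    {B₁ B₂ : Subgroup G} (h₁ : B₁ ≤ A) (h₂ : B₂ ≤ A)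
    (hn : B₁ ≤ Subgroup.normalizer (B₂ : Set G))
    (m₁ : mm V B₁ = mm V A) (m₂ : mm V B₂ = mm V A) :
    mm V (B₁ ⊓ B₂) = mm V A ∧
      V ⊓ Subgroup.centralizer ((B₁ ⊓ B₂ : Subgroup G) : Set G) =
        (V ⊓ Subgroup.centralizer (B₁ : Set G)) ⊔ (V ⊓ Subgroup.centralizer (B₂ : Set G)) := by
  set C₁ := V ⊓ Subgroup.centralizer (B₁ : Set G) with hC₁
  set C₂ := V ⊓ Subgroup.centralizer (B₂ : Set G) with hC₂
  have e1 := card_sup_mul_card_inf B₁ B₂ hn
  have hCn : C₁ ≤ Subgroup.normalizer (C₂ : Set G) := by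
    refine le_trans ?_ (Subgroup.centralizer_le_normalizer (C₂ : Set G))
    intro x hx
    rw [Subgroup.mem_centralizer_iff]
    intro y hy
    exact hVc y hy.1 x hx.1
  have e2 := card_sup_mul_card_inf C₁ C₂ hCn
  have i1 : C₁ ⊓ C₂ ≤ V ⊓ Subgroup.centralizer ((B₁ ⊔ B₂ : Subgroup G) : Set G) := by
    rw [centralizer_sup]
    intro x hx
    exact ⟨hx.1.1, hx.1.2, hx.2.2⟩
  have i2 : C₁ ⊔ C₂ ≤ V ⊓ Subgroup.centralizer ((B₁ ⊓ B₂ : Subgroup G) : Set G) := by
    apply sup_le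
    · exact inf_le_inf_left _ (Subgroup.centralizer_le (by exact_mod_cast (inf_le_left : B₁ ⊓ B₂ ≤ B₁)))
    · exact inf_le_inf_left _ (Subgroup.centralizer_le (by exact_mod_cast (inf_le_right : B₁ ⊓ B₂ ≤ B₂)))
  have c1 := Subgroup.card_le_of_le i1
  have c2 := Subgroup.card_le_of_le i2
  set μ := mm V A with hμ
  have hμpos : 0 < μ := mm_pos V A
  have M1 : mm V (B₁ ⊔ B₂) ≤ μ := hmax _ (sup_le h₁ h₂)
  have M2 : mm V (B₁ ⊓ B₂) ≤ μ := hmax _ (inf_le_left.trans h₁)
  set X := Nat.card (B₁ ⊔ B₂ : Subgroup G) * Nat.card (C₁ ⊓ C₂ : Subgroup G) with hX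
  set Y := Nat.card (B₁ ⊓ B₂ : Subgroup G) * Nat.card (C₁ ⊔ C₂ : Subgroup G) with hY
  have hXle : X ≤ μ := le_trans (Nat.mul_le_mul_left _ c1) M1
  have hYle' : Y ≤ mm V (B₁ ⊓ B₂) := Nat.mul_le_mul_left _ c2
  have hXY : X * Y = μ * μ := by
    have : X * Y = (Nat.card (B₁ ⊔ B₂ : Subgroup G) * Nat.card (B₁ ⊓ B₂ : Subgroup G)) *
        (Nat.card (C₁ ⊔ C₂ : Subgroup G) * Nat.card (C₁ ⊓ C₂ : Subgroup G)) := by
      rw [hX, hY]; ring
    rw [this, e1, e2]
    have t1 : Nat.card B₁ * Nat.card C₁ = μ := m₁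
    have t2 : Nat.card B₂ * Nat.card C₂ = μ := m₂
    calc Nat.card B₁ * Nat.card B₂ * (Nat.card C₁ * Nat.card C₂)
        = (Nat.card B₁ * Nat.card C₁) * (Nat.card B₂ * Nat.card C₂) := by ring
      _ = μ * μ := by rw [t1, t2]
  have hYeq : Y = μ := by
    have hYle : Y ≤ μ := hYle'.trans M2
    by_contra hne
    have hlt : Y < μ := lt_of_le_of_ne hYle hne
    have : X * Y < μ * μ := by
      calc X * Y ≤ μ * Y := Nat.mul_le_mul_right _ hXle
        _ < μ * μ := Nat.mul_lt_mul_of_pos_left hlt hμpos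
    omega
  have hm : mm V (B₁ ⊓ B₂) = μ := le_antisymm M2 (hYeq ▸ hYle')
  refine ⟨hm, ?_⟩
  have hcard : Nat.card (V ⊓ Subgroup.centralizer ((B₁ ⊓ B₂ : Subgroup G) : Set G) : Subgroup G)
      ≤ Nat.card (C₁ ⊔ C₂ : Subgroup G) := by
    have h3 : Nat.card (B₁ ⊓ B₂ : Subgroup G) *
        Nat.card (V ⊓ Subgroup.centralizer ((B₁ ⊓ B₂ : Subgroup G) : Set G) : Subgroup G) =
        Nat.card (B₁ ⊓ B₂ : Subgroup G) * Nat.card (C₁ ⊔ C₂ : Subgroup G) := by
      have : mm V (B₁ ⊓ B₂) = Y := by rw [hm, hYeq]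
      exact this
    exact (Nat.eq_of_mul_eq_mul_left Nat.card_pos h3).le
  exact (Subgroup.eq_of_le_of_card_ge i2 hcard).symm

theorem repl_finset {V A : Subgroup G} (hVc : ∀ x ∈ V, ∀ y ∈ V, x * y = y * x)
    (hAV : A ≤ Subgroup.normalizer (V : Set G))
    (hab : ⁅A, A⁆ ≤ Subgroup.centralizer (V : Set G))
    (hmax : ∀ B : Subgroup G, B ≤ A → mm V B ≤ mm V A) (S : Finset G) (hS : (S : Set G) ⊆ V) :
    mm V (A ⊓ Subgroup.centralizer ((Wc (S : Set G) A : Subgroup G) : Set G)) = mm V A ∧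
      V ⊓ Subgroup.centralizer
        ((A ⊓ Subgroup.centralizer ((Wc (S : Set G) A : Subgroup G) : Set G) : Subgroup G) : Set G) =
        Wc (S : Set G) A ⊔ (V ⊓ Subgroup.centralizer (A : Set G)) := by
  classical
  induction S using Finset.induction_on with
  | empty =>
    simp only [Finset.coe_empty, Wc_empty]
    have : Subgroup.centralizer (((⊥ : Subgroup G) : Subgroup G) : Set G) = ⊤ := by
      rw [eq_top_iff]; intro x _
      rw [Subgroup.mem_centralizer_iff]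
      intro y hy
      have : y = 1 := hy
      rw [this]; simp
    rw [this]; simp
  | insert u S hnot ih =>
    have hu : u ∈ V := hS (by simp)
    have hS' : (S : Set G) ⊆ V := fun x hx => hS (by simp [Finset.mem_coe.mp hx])
    obtain ⟨ih1, ih2⟩ := ih hS'
    rw [Finset.coe_insert, Wc_insert, centralizer_sup]
    set Wu := Wc {u} A with hWu
    set WS := Wc (S : Set G) A with hWS
    set Bu := A ⊓ Subgroup.centralizer (Wu : Set G) with hBu
    set BS := A ⊓ Subgroup.centralizer (WS : Set G) with hBS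
    set C := V ⊓ Subgroup.centralizer (A : Set G) with hC
    have hWuV : Wu ≤ V := Wc_le hAV (by simpa using hu)
    -- single step
    have s1 := repl_single_le hVc hAV hab hu
    have s2 : Wu ⊔ C ≤ V ⊓ Subgroup.centralizer (Bu : Set G) := by
      apply sup_le
      · apply le_inf hWuV
        rw [Subgroup.le_centralizer_iff]; exact inf_le_right
      · exact inf_le_inf_left _ (Subgroup.centralizer_le (by exact_mod_cast (inf_le_left : Bu ≤ A)))
    have s3 : mm V Bu ≤ mm V A := hmax _ inf_le_left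
    have s4 : Nat.card Bu * Nat.card (Wu ⊔ C : Subgroup G) ≤ mm V Bu :=
      Nat.mul_le_mul_left _ (Subgroup.card_le_of_le s2)
    have mu : mm V Bu = mm V A := le_antisymm s3 (s1.trans s4)
    have cu : V ⊓ Subgroup.centralizer (Bu : Set G) = Wu ⊔ C := by
      have h3 : Nat.card Bu * Nat.card (V ⊓ Subgroup.centralizer (Bu : Set G) : Subgroup G) =
          Nat.card Bu * Nat.card (Wu ⊔ C : Subgroup G) :=
        le_antisymm (by
          have : mm V Bu ≤ Nat.card Bu * Nat.card (Wu ⊔ C : Subgroup G) := mu ▸ s1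
          exact this) s4
      exact (Subgroup.eq_of_le_of_card_ge s2 (Nat.eq_of_mul_eq_mul_left Nat.card_pos h3).le).symm
    -- normality
    have hn : Bu ≤ Subgroup.normalizer (BS : Set G) := by
      have hWSV : WS ≤ V := Wc_le hAV hS'
      rw [Subgroup.le_normalizer_iff]
      intro x hx y hy
      have hxy : ⁅x, y⁆ ∈ BS := by
        have h1 : ⁅x, y⁆ ∈ ⁅A, A⁆ := Subgroup.commutator_mem_commutator hx.1 hy.1
        refine ⟨Subgroup.commutator_le_self A h1, ?_⟩
        exact Subgroup.centralizer_le (by exact_mod_cast hWSV) (hab h1)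
      have : x * y * x⁻¹ = ⁅x, y⁆ * y := by rw [commutatorElement_def]; group
      rw [this]; exact mul_mem hxy hy
    have L := repl_lattice hVc hmax (inf_le_left : Bu ≤ A) (inf_le_left : BS ≤ A) hn mu ih1
    have hinf : A ⊓ (Subgroup.centralizer (Wu : Set G) ⊓ Subgroup.centralizer (WS : Set G)) = Bu ⊓ BS := by
      rw [hBu, hBS]
      apply le_antisymm
      · intro x hx; exact ⟨⟨hx.1, hx.2.1⟩, ⟨hx.1, hx.2.2⟩⟩
      · intro x hx; exact ⟨hx.1.1, hx.1.2, hx.2.2⟩
    rw [hinf]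
    refine ⟨L.1, ?_⟩
    rw [L.2, cu, ih2]
    apply le_antisymm
    · apply sup_le
      · exact sup_le (le_sup_left.trans le_sup_left) le_sup_right
      · exact sup_le (le_sup_right.trans le_sup_left) le_sup_right
    · apply sup_le
      · exact sup_le (le_sup_left.trans le_sup_left) (le_sup_left.trans le_sup_right)
      · exact le_sup_right.trans le_sup_left

/-- Replacement: if `A` maximizes `m` among its subgroups, then `C_A([U,A])` has the same `m`
and fixed points `[U,A] C_V(A)`. -/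
theorem replacement {V A : Subgroup G} (hVc : ∀ x ∈ V, ∀ y ∈ V, x * y = y * x)
    (hAV : A ≤ Subgroup.normalizer (V : Set G))
    (hab : ⁅A, A⁆ ≤ Subgroup.centralizer (V : Set G))
    (hmax : ∀ B : Subgroup G, B ≤ A → mm V B ≤ mm V A) (U : Subgroup G) (hU : U ≤ V) :
    mm V (A ⊓ Subgroup.centralizer ((⁅U, A⁆ : Subgroup G) : Set G)) = mm V A ∧
      V ⊓ Subgroup.centralizer
        ((A ⊓ Subgroup.centralizer ((⁅U, A⁆ : Subgroup G) : Set G) : Subgroup G) : Set G) =
        ⁅U, A⁆ ⊔ (V ⊓ Subgroup.centralizer (A : Set G)) := by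
  classical
  have := repl_finset hVc hAV hab hmax (Set.toFinite (U : Set G)).toFinset (by simpa using hU)
  rw [Set.Finite.coe_toFinset, Wc_coe] at this
  exact this

end Cfsg.Agent.Lib.Helper10
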